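import Groth.Agent.ARLib.Invariance
import Mathlib.CategoryTheory.Linear.LinearFunctor
import Mathlib.CategoryTheory.Limits.Preserves.Finite
import Mathlib.CategoryTheory.Limits.Preserves.Shapes.Kernels
import Mathlib.CategoryTheory.Preadditive.AdditiveFunctor

/-! projective systems up to translation and exact linear functors -/

universe w v v' u u'

open CategoryTheory CategoryTheory.Limits Opposite ARSys

namespace Groth.Agent.EtModLib

set_option backward.isDefEq.respectTransparency.types false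

variable {C : Type u} [Category.{v} C] [Abelian C] {D : Type u'} [Category.{v'} D] [Abelian D]
  {A : Type w} [CommRing A] [Linear A C] [Linear A D] (F : C ⥤ D) [F.Additive] [F.Linear A]
  {J : Ideal A}

theorem killedBy_map {I : Ideal A} {X : C} (h : KilledBy I X) : KilledBy I (F.obj X) := fun a ha => by
  rw [← F.map_id, ← F.map_smul, h a ha, F.map_zero]

theorem termKilled_map {X : PS C} (h : TermKilled J X) : TermKilled J (X ⋙ F) := fun n => killedBy_map F (h n)

theorem homKilledBy_span {E : Type*} [Category E] [Abelian E] [Linear A E] {s : Finset A} {X' Y : E} (φ : X' ⟶ Y)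
    (h : ∀ a : s, a.1 • φ = 0) : HomKilledBy (Ideal.span (s : Set A)) φ := fun a ha => by
  refine Submodule.span_induction (fun b hb => h ⟨b, hb⟩) (zero_smul _ _) (fun b c _ _ hb hc => ?_)
    (fun c b _ hb => ?_) ha
  · rw [add_smul, hb, hc, add_zero]
  · rw [smul_eq_mul, mul_smul, hb, smul_zero]

/-- right exact linear functors preserve quotients modulo finitely generated ideals -/
theorem isQuot_map [PreservesFiniteColimits F] {I : Ideal A} (hI : I.FG) {X Q : C} {p : X ⟶ Q} (hp : IsQuot I p) :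
    IsQuot I (F.map p) := by
  classical
  have := Abelian.hasFiniteBiproducts (C := C)
  obtain ⟨s, rfl⟩ := hI
  let d : (∐ fun _ : s => X) ⟶ X := Sigma.desc fun a => a.1 • 𝟙 X
  have hd : d ≫ p = 0 := Sigma.hom_ext _ _ fun a => by
    simp only [d, Sigma.ι_desc_assoc, Linear.smul_comp, Category.id_comp, comp_zero]
    exact ARLib.IsQuot.homKilledBy hp a.1 (Submodule.subset_span a.2)
  have hk : ∀ {T : C} (φ : X ⟶ T), d ≫ φ = 0 → HomKilledBy (Ideal.span (s : Set A)) φ := fun φ h =>
    homKilledBy_span φ fun a => by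
      have := congrArg (Sigma.ι (fun _ : s => X) a ≫ ·) h
      simpa [d] using this
  let hc : IsColimit (CokernelCofork.ofπ p hd) :=
    CokernelCofork.IsColimit.ofπ _ _ (fun φ hφ => (hp.2 _ φ (hk φ hφ)).exists.choose)
      (fun φ hφ => (hp.2 _ φ (hk φ hφ)).exists.choose_spec)
      (fun φ hφ m hm => (hp.2 _ φ (hk φ hφ)).unique hm (hp.2 _ φ (hk φ hφ)).exists.choose_spec)
  have hc' := CokernelCofork.mapIsColimit _ hc F
  refine ⟨killedBy_map F hp.1, fun Y φ hφ => ?_⟩
  have h0 : F.map d ≫ φ = 0 := (isColimitOfPreserves F (coproductIsCoproduct fun _ : s => X)).hom_ext fun a => by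
    show F.map (Sigma.ι (fun _ : s => X) a.as) ≫ F.map d ≫ φ = F.map _ ≫ 0
    rw [comp_zero, ← Category.assoc, ← F.map_comp]
    simp only [d, Sigma.ι_desc]
    rw [F.map_smul, F.map_id, Linear.smul_comp, Category.id_comp]
    exact hφ _ (Submodule.subset_span a.as.2)
  refine ⟨hc'.desc (CokernelCofork.ofπ φ h0), hc'.fac _ WalkingParallelPair.one, fun ψ hψ => ?_⟩
  refine Cofork.IsColimit.hom_ext hc' ?_
  exact hψ.trans (hc'.fac (CokernelCofork.ofπ φ h0) WalkingParallelPair.one).symm

theorem isAdic_map [PreservesFiniteColimits F] (hJ : J.FG) {X : PS C} (h : IsAdic J X) : IsAdic J (X ⋙ F) :=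
  ⟨termKilled_map F h.1, fun n m hnm => isQuot_map F (Submodule.FG.pow hJ _) (h.2 n m hnm)⟩

omit [F.Linear A] in
theorem isARNull_map {X : PS C} (h : IsARNull X) : IsARNull (X ⋙ F) := by
  obtain ⟨r, hr⟩ := h
  exact ⟨r, fun n => (congrArg F.map (hr n)).trans (F.map_zero _ _)⟩

omit [Linear A C] [Linear A D] [F.Additive] in
/-- inverses up to translation are carried by functors -/
def arInvMap {X Y : PS C} {u : X ⟶ Y} {r : ℕ} (I : ARLib.ARInv u r) :
    ARLib.ARInv (Functor.whiskerRight u F) r where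
  ψ n m h := F.map (I.ψ n m h)
  ψ_u n m h := (F.map_comp _ _).symm.trans (congrArg F.map (I.ψ_u n m h))
  u_ψ n m h := (F.map_comp _ _).symm.trans (congrArg F.map (I.u_ψ n m h))
  ψ_tr n n' m h hn := (F.map_comp _ _).symm.trans (congrArg F.map (I.ψ_tr n n' m h hn))
  tr_ψ n m m' h hm := (F.map_comp _ _).symm.trans (congrArg F.map (I.tr_ψ n m m' h hm))

omit [Linear A C] [Linear A D] [F.Additive] in
theorem isARIso_map {X Y : PS C} {u : X ⟶ Y} (h : IsARIso u) : IsARIso (Functor.whiskerRight u F) := by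
  obtain ⟨r, ⟨I⟩⟩ := ARLib.exists_inv h
  exact ARLib.isARIso_of_inv (arInvMap F I)

omit [Abelian C] [Abelian D] [Linear A C] [Linear A D] [F.Additive] in
theorem isStrict_map [F.PreservesEpimorphisms] {X : PS C} (h : IsStrict X) : IsStrict (X ⋙ F) := fun n m hnm =>
  have := h n m hnm
  F.map_epi (tr X hnm)

theorem isARAdic_map [PreservesFiniteColimits F] (hJ : J.FG) {X : PS C} (h : IsARAdic J X) : IsARAdic J (X ⋙ F) := by
  obtain ⟨k, Y, u, hY, hu⟩ := h
  exact ⟨termKilled_map F k, Y ⋙ F, Functor.whiskerRight u F, isAdic_map F hJ hY, isARIso_map F hu⟩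

/-- images of `X_{n+r}` are stable, in the form of vanishing morphisms -/
def MLCond (X : PS C) (r : ℕ) : Prop :=
  ∀ (n a m : ℕ) (_ : n + r ≤ a) (_ : a ≤ m) (hna : n ≤ a) (hnm : n ≤ m),
    tr X hna ≫ cokernel.π (tr X hnm) = 0

omit [Linear A C] in
theorem MLCond.mono {X : PS C} {r r' : ℕ} (h : MLCond X r) (hr : r ≤ r') : MLCond X r' :=
  fun n a m h1 h2 => h n a m (by omega) h2

omit [Linear A C] in
theorem isMLAR_iff_mlCond (X : PS C) : IsMLAR X ↔ ∃ r, MLCond X r := by
  rw [ARLib.isMLAR_iff]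
  refine exists_congr fun r => ⟨fun h n a m h1 h2 hna hnm => ?_, fun h n a m h1 h2 => ?_⟩
  · obtain ⟨T, π, _, y, hy⟩ := h n a m h1 h2
    rw [← cancel_epi π, ← Category.assoc, hy, Category.assoc, cokernel.condition, comp_zero, comp_zero]
  · obtain ⟨T, π, hπ, y, hy⟩ := (ShortComplex.exact_of_g_is_cokernel (ShortComplex.mk _ _ (cokernel.condition _))
      (cokernelIsCokernel (tr X (show n ≤ m by omega)))).exact_up_to_refinements _
        (h n a m h1 h2 (by omega) (by omega))
    exact ⟨T, π, hπ, y, hy⟩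

/-- the kernel condition for strict systems adic up to translation -/
def KerCond (J : Ideal A) (X : PS C) (r : ℕ) : Prop :=
  ∀ (k m : ℕ) (h : k + r ≤ m) (Q : C) (q : X.obj (op m) ⟶ Q), IsQuot (J ^ (k + 1)) q →
    kernel.ι (tr X h) ≫ q = 0

theorem KerCond.mono {X : PS C} {r r' : ℕ} (h : KerCond J X r) (hr : r ≤ r') : KerCond J X r' :=
  fun k m hm Q q hq => by
    have e : kernel.ι (tr X hm) ≫ tr X (show k + r ≤ m by omega) = 0 := by
      rw [← ARLib.tr_tr X (show k + r ≤ k + r' by omega) hm, kernel.condition_assoc, zero_comp]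
    rw [← kernel.lift_ι _ _ e, Category.assoc, h k m (by omega) Q q hq, comp_zero]

theorem kerCond_of_factors {X : PS C} (hX : IsStrict X) {r : ℕ} (h : ARLib.Factors J X r) : KerCond J X r :=
  fun k m hk Q q hq => by
    obtain ⟨θ, hθ⟩ := ARLib.exists_fac_of_strict hX h hk q (ARLib.IsQuot.homKilledBy hq)
    rw [← hθ, kernel.condition_assoc, zero_comp]

theorem factors_of_kerCond (hJ : J.FG) {X : PS C} (hX : IsStrict X) {r : ℕ} (h : KerCond J X r) :
    ARLib.Factors J X r := by
  intro k m a hkm hma hma' hka T φ hφ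
  by_cases hm : k + r ≤ m
  · obtain ⟨Q, q, hq⟩ := ARLib.exists_isQuot (Or.inl hJ) (k + 1) (X.obj (op m))
    obtain ⟨ψ, hψ, -⟩ := hq.2 T φ hφ
    have := hX _ _ hm
    refine ⟨Abelian.epiDesc (tr X hm) φ (by rw [← hψ, ← Category.assoc, h k m hm Q q hq, zero_comp]), ?_⟩
    rw [← ARLib.tr_tr X hm hma', Category.assoc, Abelian.comp_epiDesc]
  · exact ⟨tr X (show m ≤ k + r by omega) ≫ φ, by rw [ARLib.tr_tr_assoc]⟩

omit [Linear A C] [Linear A D] in
theorem mlCond_of_map [PreservesFiniteColimits F] {X : PS C} {r n a m : ℕ} (h : MLCond (X ⋙ F) r)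
    (h1 : n + r ≤ a) (h2 : a ≤ m) (hna : n ≤ a) (hnm : n ≤ m) :
    F.map (tr X hna ≫ cokernel.π (tr X hnm)) = 0 := by
  rw [F.map_comp, ← cancel_mono (PreservesCokernel.iso F (tr X hnm)).hom, zero_comp, Category.assoc,
    PreservesCokernel.π_iso_hom]
  exact h n a m h1 h2 hna hnm

theorem kerCond_of_map [PreservesFiniteColimits F] [PreservesFiniteLimits F] (hJ : J.FG) {X : PS C} {r k m : ℕ}
    (h : KerCond J (X ⋙ F) r) (hk : k + r ≤ m) {Q : C} {q : X.obj (op m) ⟶ Q} (hq : IsQuot (J ^ (k + 1)) q) :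
    F.map (kernel.ι (tr X hk) ≫ q) = 0 := by
  rw [F.map_comp, ← cancel_epi (PreservesKernel.iso F (tr X hk)).inv, comp_zero, ← Category.assoc]
  refine Eq.trans (congrArg (· ≫ _) ?_) (h k m hk _ (F.map q) (isQuot_map F (Submodule.FG.pow hJ _) hq))
  exact (Iso.inv_comp_eq _).2 (by rw [PreservesKernel.iso_hom]; exact (kernelComparison_comp_ι _ _).symm)

section family

variable {κ : Type*} {E : κ → Type u'} [∀ i, Category.{v'} (E i)] [∀ i, Abelian (E i)] [∀ i, Linear A (E i)]
  (G : ∀ i, C ⥤ E i) [∀ i, (G i).Additive] [∀ i, (G i).Linear A] [∀ i, PreservesFiniteColimits (G i)]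
  [∀ i, PreservesFiniteLimits (G i)]
  (hG : ∀ {X Y : C} (f : X ⟶ Y), (∀ i, (G i).map f = 0) → f = 0)

include hG in
/-- being adic up to translation is detected, with uniform bounds, by a jointly faithful family -/
theorem isARAdic_of_uniform (hJ : J.FG) {X : PS C} (kX : TermKilled J X) (r : ℕ) (hML : ∀ i, MLCond (X ⋙ G i) r)
    (hK : ∀ (Y : PS C) (v : Y ⟶ X), IsStrict Y → IsARIso v → Mono v →
      ∃ s, ∀ i, KerCond J (Y ⋙ G i) s) :
    IsARAdic J X := by
  have hM : IsMLAR X := (isMLAR_iff_mlCond X).2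
    ⟨r, fun n a m h1 h2 hna hnm => hG _ fun i => mlCond_of_map (G i) (hML i) h1 h2 hna hnm⟩
  obtain ⟨Y, v, hY, hv, hmono⟩ := ARLib.exists_strict_arIso X hM
  obtain ⟨s, hs⟩ := hK Y v hY hv hmono
  have hF : ARLib.Factors J Y s := factors_of_kerCond hJ hY fun k m hk Q q hq =>
    hG _ fun i => kerCond_of_map (G i) hJ (hs i) hk hq
  exact ARLib.isARAdic_of_arIso (ARLib.isARAdic_of_factors (Or.inl hJ) (ARLib.termKilled_of_mono v kX)
    (ARLib.isMLAR_of_isStrict hY) hF) v hv kX

include hG in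
/-- being adic up to translation is detected by a finite jointly faithful family -/
theorem isARAdic_of_family [Finite κ] (hJ : J.FG) {X : PS C} (kX : TermKilled J X)
    (h : ∀ i, IsARAdic J (X ⋙ G i)) : IsARAdic J X := by
  cases nonempty_fintype κ
  choose r hr using fun i => (isMLAR_iff_mlCond _).1 (ARLib.isMLAR_of_isARAdic (h i))
  refine isARAdic_of_uniform G hG hJ kX (Finset.univ.sup r)
    (fun i => (hr i).mono (Finset.le_sup (Finset.mem_univ i))) fun Y v hY hv _ => ?_
  have hb : ∀ i, ∃ s, KerCond J (Y ⋙ G i) s := fun i => by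
    obtain ⟨t, ht⟩ := ARLib.factors_of_isARAdic (h i)
    obtain ⟨s, hs⟩ := ARLib.factors_transfer (Functor.whiskerRight v (G i)) (isARIso_map (G i) hv) ht
    exact ⟨s, kerCond_of_factors (isStrict_map (G i) hY) hs⟩
  choose s hs using hb
  exact ⟨Finset.univ.sup s, fun i => (hs i).mono (Finset.le_sup (Finset.mem_univ i))⟩

end family

end Groth.Agent.EtModLib
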