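import Groth.Agent.EtModLib.FTLoc
import Mathlib.CategoryTheory.Linear.LinearFunctor

/-! linearity of stalks, inverse and direct images of sheaves of modules -/

universe u

open CategoryTheory CategoryTheory.Limits AlgebraicGeometry Opposite

namespace Groth.Agent.EtModLib

variable {Λ : Type (u + 1)} [CommRing Λ] {X Y : Scheme.{u}}

instance stalk_additive {Ω : Type u} [Field Ω] [IsSepClosed Ω] (ξ : Spec (CommRingCat.of Ω) ⟶ X) :
    (EtModW.stalk Λ ξ).Additive := Functor.additive_of_preserves_binary_products _

instance stalk_linear {Ω : Type u} [Field Ω] [IsSepClosed Ω] (ξ : Spec (CommRingCat.of Ω) ⟶ X) :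
    (EtModW.stalk Λ ξ).Linear Λ where
  map_smul {F G} f a := by
    refine (Scheme.pointSmallEtale ξ).presheafFiber_hom_ext fun U z => ?_
    refine ModuleCat.hom_ext (LinearMap.ext fun c => ?_)
    refine (germ_app (a • f) U z c).symm.trans ?_
    refine ((germ G U z).map_smul a (f.hom.app (op U) c)).trans ?_
    exact congrArg (a • ·) (germ_app f U z c)

instance push_linear (f : X ⟶ Y) : (EtModW.push Λ f).Linear Λ where

instance pull_linear (f : X ⟶ Y) : (EtModW.pull Λ f).Linear Λ where
  map_smul {F G} a r := by
    apply ((pullPushAdj f).homEquiv _ _).injective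
    rw [(pullPushAdj f).homEquiv_unit, (pullPushAdj f).homEquiv_unit, (pullPushAdj f).unit_naturality,
      (EtModW.push Λ f).map_smul, Linear.comp_smul, (pullPushAdj f).unit_naturality, Linear.smul_comp]

end Groth.Agent.EtModLib
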