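import Groth.Agent.EtModLib.Noeth
import Groth.Agent.EtModLib.Linear
import Groth.Agent.EtModLib.ARMap
import Groth.Agent.ARLib.Noeth
import Groth.Agent.ARLib.AdicCat

/-! constructible systems adic up to translation -/

universe u

open CategoryTheory CategoryTheory.Limits AlgebraicGeometry Opposite ARSys

namespace Groth.Agent.EtModLib

set_option backward.isDefEq.respectTransparency.types false

variable {Λ : Type (u + 1)} [CommRing Λ] [IsNoetherianRing Λ] {I : Ideal Λ} {X : Scheme.{u}}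

/-- adic up to translation, through a system of constructible sheaves -/
abbrev ARAdicC (I : Ideal Λ) (F : PS (EtModW.Mod Λ X)) : Prop :=
  TermKilled I F ∧ ∃ (Y : PS (EtModW.Mod Λ X)) (v : Y ⟶ F), IsAdic I Y ∧
    (∀ n : ℕ, EtModW.IsConstructible Λ (Y.obj (op n))) ∧ IsARIso v

omit [IsNoetherianRing Λ] in
theorem ARAdicC.isARAdic {F : PS (EtModW.Mod Λ X)} (h : ARAdicC I F) : IsARAdic I F := by
  obtain ⟨k, Y, v, hY, -, hv⟩ := h
  exact ⟨k, Y, v, hY, hv⟩

theorem arAdicC_of_isARAdic [IsLocallyNoetherian X] {F : PS (EtModW.Mod Λ X)} (h : IsARAdic I F)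
    (hc : ∀ n : ℕ, EtModW.IsConstructible Λ (F.obj (op n))) : ARAdicC I F := by
  obtain ⟨k, Y, v, hY, hv⟩ := h
  obtain ⟨r, ⟨J⟩⟩ := ARLib.exists_inv hv
  refine ⟨k, Y, v, hY, fun n => ?_, hv⟩
  have := ARLib.epi_ψ_of_strict (ARLib.isStrict_of_isAdic hY) J n
  exact isConstructible_of_epi (hc (n + r)) (J.ψ n (n + r) le_rfl)

theorem isAdicNoeth_of_constr [IsNoetherian X] {F : PS (EtModW.Mod Λ X)} (h : IsAdic I F)
    (hc : ∀ n : ℕ, EtModW.IsConstructible Λ (F.obj (op n))) : IsAdicNoeth I F :=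
  ⟨h, fun n => isNoetherianObject_of_isConstructible (hc n)⟩

theorem arAdicC_pull {X' : Scheme.{u}} (f : X' ⟶ X) {F : PS (EtModW.Mod Λ X)} (hF : ARAdicC I F) :
    ARAdicC I (F ⋙ EtModW.pull Λ f) := by
  obtain ⟨k, Y, v, hY, hYc, hv⟩ := hF
  exact ⟨termKilled_map _ k, Y ⋙ EtModW.pull Λ f, Functor.whiskerRight v _,
    isAdic_map _ (IsNoetherian.noetherian I) hY, fun n => isConstructible_pull f (hYc n), isARIso_map _ hv⟩

omit [IsNoetherianRing Λ] in
theorem eq_zero_of_pulls {κ : Type*} (V : κ → Scheme.{u}) (g : ∀ i, V i ⟶ X)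
    (hg : ∀ x : X, ∃ i, x ∈ Set.range (g i).base) {F G : EtModW.Mod Λ X} (f : F ⟶ G)
    (h : ∀ i, (EtModW.pull Λ (g i)).map f = 0) : f = 0 := by
  suffices IsZero (Abelian.image f) by
    rw [← Abelian.image.fac f, this.eq_of_tgt (Abelian.factorThruImage f) 0, zero_comp]
  rw [isZero_iff_stalks]
  intro Ω _ _ ξ
  obtain ⟨i, t, ht⟩ := hg (ξ.base default)
  obtain ⟨k, _, _, η, rfl⟩ := EtFound.exists_geomPoint t
  have hI : IsZero ((EtModW.pull Λ (g i)).obj (Abelian.image f)) := by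
    have e : (EtModW.pull Λ (g i)).map (Abelian.factorThruImage f) = 0 := by
      rw [← cancel_mono ((EtModW.pull Λ (g i)).map (Abelian.image.ι f)), ← Functor.map_comp, Abelian.image.fac, h i,
        zero_comp]
    exact IsZero.of_epi_eq_zero _ e
  obtain ⟨e⟩ := nonempty_stalk_iso (Abelian.image f) ξ (η ≫ g i) ht.symm
  exact (((EtModW.stalk Λ η).map_isZero hI).of_iso ((stalkPullIso (g i) η).app _).symm).of_iso e

theorem arAdicC_of_pulls [IsLocallyNoetherian X] {κ : Type*} [Finite κ] (V : κ → Scheme.{u}) (g : ∀ i, V i ⟶ X)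
    (hg : ∀ x : X, ∃ i, x ∈ Set.range (g i).base) {F : PS (EtModW.Mod Λ X)} (hk : TermKilled I F)
    (hc : ∀ n : ℕ, EtModW.IsConstructible Λ (F.obj (op n))) (h : ∀ i, IsARAdic I (F ⋙ EtModW.pull Λ (g i))) :
    ARAdicC I F :=
  arAdicC_of_isARAdic (isARAdic_of_family (fun i => EtModW.pull Λ (g i)) (eq_zero_of_pulls V g hg)
    (IsNoetherian.noetherian I) hk h) hc

end Groth.Agent.EtModLib
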