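import Groth.Agent.ARLib.AdicCat
import Groth.Agent.ARLib.StrictChains
import Groth.Agent.ARLib.Strict

/-! chains of subsystems adic up to translation -/

universe w v u

open CategoryTheory CategoryTheory.Limits Opposite ARSys

namespace Groth.Agent.EtModLib

set_option backward.isDefEq.respectTransparency.types false

variable {C : Type u} [Category.{v} C] [Abelian C] {A : Type w} [CommRing A] [Linear A C] {J : Ideal A}

theorem isARIso_of_isIso {X Y : PS C} (u : X ⟶ Y) [IsIso u] : IsARIso u := by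
  have hu : ∀ n, (inv u).app (op n) ≫ u.app (op n) = 𝟙 _ := fun n => by
    rw [← NatTrans.comp_app, IsIso.inv_hom_id, NatTrans.id_app]
  have hu' : ∀ n, u.app (op n) ≫ (inv u).app (op n) = 𝟙 _ := fun n => by
    rw [← NatTrans.comp_app, IsIso.hom_inv_id, NatTrans.id_app]
  refine ARLib.isARIso_of_inv (r := 0)
    { ψ := fun n m h => tr Y (show n ≤ m by omega) ≫ (inv u).app (op n)
      ψ_u := fun n m h => by rw [Category.assoc, hu, Category.comp_id]
      u_ψ := fun n m h => by
        have := ARLib.tr_naturality u (show n ≤ m by omega)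
        rw [← Category.assoc, ← this, Category.assoc, hu', Category.comp_id]
      ψ_tr := fun n n' m h hn => ?_
      tr_ψ := fun n m m' h hm => ?_ }
  · rw [Category.assoc, ← ARLib.tr_naturality (inv u) hn, ← Category.assoc, ARLib.tr_tr]
  · rw [← Category.assoc, ARLib.tr_tr]

theorem isARIso_of_mono_fac {Y S Z : PS C} (p : Y ⟶ S) (ι : S ⟶ Z) [Mono ι] (h : IsARIso (p ≫ ι)) : IsARIso ι := by
  obtain ⟨r, ⟨I⟩⟩ := ARLib.exists_inv h
  refine ARLib.isARIso_of_inv (r := r)
    { ψ := fun n m h => I.ψ n m h ≫ p.app (op n)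
      ψ_u := fun n m h => by rw [Category.assoc, ← NatTrans.comp_app, I.ψ_u]
      u_ψ := fun n m h => ?_
      ψ_tr := fun n n' m h hn => by rw [Category.assoc, ← ARLib.tr_naturality, ← Category.assoc, I.ψ_tr]
      tr_ψ := fun n m m' h hm => by rw [← Category.assoc, I.tr_ψ] }
  have := (NatTrans.mono_iff_mono_app ι).1 inferInstance (op n)
  rw [← cancel_mono (ι.app (op n)), Category.assoc, Category.assoc, ← NatTrans.comp_app, I.ψ_u, ARLib.tr_naturality]

theorem chain_eventually_isARIso [IsNoetherianRing A] {F : PS C} (hF : IsAdicNoeth J F) (Z : ℕ →o Subobject F)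
    (hZ : ∀ k : ℕ, ∃ (Y : PS C) (v : Y ⟶ (Subobject.underlying.obj (Z k) : PS C)), IsAdic J Y ∧ IsARIso v) :
    ∃ k₀ : ℕ, ∀ k : ℕ, k₀ ≤ k → IsARIso (Subobject.ofLE (Z k) (Z (k + 1)) (Z.monotone (Nat.le_succ k))) := by
  choose Y v hY hv using hZ
  let S : ℕ → Subobject F := fun k => imageSubobject (v k ≫ (Z k).arrow)
  have hSZ : ∀ k, S k ≤ Z k := fun k => imageSubobject_le _ (v k) rfl
  have hS1 : ∀ k, S k ≤ S (k + 1) := fun k => by
    obtain ⟨h, hh, -⟩ := ARLib.existsUnique_lift (hY k) (hY (k + 1)) (v (k + 1)) (hv (k + 1))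
      (v k ≫ Subobject.ofLE (Z k) (Z (k + 1)) (Z.monotone (Nat.le_succ k)))
    refine imageSubobject_le _ (h ≫ factorThruImageSubobject _) ?_
    rw [Category.assoc, imageSubobject_arrow_comp, ← Category.assoc, hh, Category.assoc, Subobject.ofLE_arrow]
  obtain ⟨k₀, hk₀⟩ := ARLib.strict_chain_stabilizes hF ⟨S, monotone_nat_of_le_succ hS1⟩ fun k =>
    ARLib.isStrict_of_epi (factorThruImageSubobject (v k ≫ (Z k).arrow)) (ARLib.isStrict_of_isAdic (hY k))
  have hι : ∀ k, IsARIso (Subobject.ofLE (S k) (Z k) (hSZ k)) := fun k => by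
    refine isARIso_of_mono_fac (factorThruImageSubobject (v k ≫ (Z k).arrow)) _ ?_
    have e : factorThruImageSubobject (v k ≫ (Z k).arrow) ≫ Subobject.ofLE (S k) (Z k) (hSZ k) = v k := by
      rw [← cancel_mono (Z k).arrow, Category.assoc, Subobject.ofLE_arrow, imageSubobject_arrow_comp]
    rw [e]
    exact hv k
  refine ⟨k₀, fun k hk => ARLib.isARIso_of_precomp (hι k) ?_⟩
  have e : S k = S (k + 1) := (hk₀ k hk).trans (hk₀ (k + 1) (by omega)).symm
  have : IsIso (Subobject.ofLE (S k) (S (k + 1)) e.le) := ⟨Subobject.ofLE _ _ e.ge, by simp, by simp⟩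
  have h' : Subobject.ofLE (S k) (Z k) (hSZ k) ≫ Subobject.ofLE (Z k) (Z (k + 1)) (Z.monotone (Nat.le_succ k)) =
      Subobject.ofLE (S k) (S (k + 1)) e.le ≫ Subobject.ofLE (S (k + 1)) (Z (k + 1)) (hSZ (k + 1)) := by
    rw [Subobject.ofLE_comp_ofLE, Subobject.ofLE_comp_ofLE]
  rw [h']
  exact ARLib.isARIso_comp (isARIso_of_isIso _) (hι (k + 1))

end Groth.Agent.EtModLib
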