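import Groth.Prelude.Def_EtMod2
import Groth.Prelude.Def_EtModD2
import Groth.Agent.EtFound.PullConst
import Groth.Agent.EtFound.Stalk
import Groth.Agent.EtFound.StalkSet
import Groth.Agent.EtLC12.ModPullExact
import Mathlib.Algebra.Homology.ShortComplex.ModuleCat
import Mathlib.Algebra.Category.ModuleCat.AB

/-! sheaves of modules on the small etale site: stalks detect exactness, inverse images -/

universe u

open CategoryTheory CategoryTheory.Limits AlgebraicGeometry Opposite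

namespace Groth.Agent.EtModLib

set_option backward.isDefEq.respectTransparency.types false

variable (Λ : Type (u + 1)) [CommRing Λ]

instance preservesFiltered_forget_moduleCat :
    PreservesFilteredColimitsOfSize.{u, u} (forget (ModuleCat.{u + 1} Λ)) :=
  preservesFilteredColimitsOfSize_of_univLE.{u + 1, u + 1, u, u} _

instance hasLimitsOfSize_moduleCat : HasLimitsOfSize.{u, u} (ModuleCat.{u + 1} Λ) :=
  ModuleCat.hasLimitsOfSize.{u, u, u + 1, u + 1}

instance hasProducts_moduleCat : HasProducts.{u} (ModuleCat.{u + 1} Λ) := fun _ => inferInstance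

instance ab5_moduleCat : AB5OfSize.{u, u} (ModuleCat.{u + 1} Λ) :=
  AB5OfSize_of_univLE.{u, u, u + 1, u + 1} _

variable {Λ} {X Y : Scheme.{u}}

instance stalk_preservesFiniteLimits {Ω : Type u} [Field Ω] [IsSepClosed Ω]
    (ξ : Spec (CommRingCat.of Ω) ⟶ X) : PreservesFiniteLimits (EtModW.stalk Λ ξ) :=
  inferInstanceAs (PreservesFiniteLimits (Scheme.pointSmallEtale ξ).sheafFiber)

instance stalk_preservesFiniteColimits {Ω : Type u} [Field Ω] [IsSepClosed Ω]
    (ξ : Spec (CommRingCat.of Ω) ⟶ X) : PreservesFiniteColimits (EtModW.stalk Λ ξ) :=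
  inferInstanceAs (PreservesFiniteColimits (Scheme.pointSmallEtale ξ).sheafFiber)

theorem stalk_map_injective {F G : EtModW.Mod Λ X} (a : F ⟶ G) [Mono a] {Ω : Type u} [Field Ω] [IsSepClosed Ω]
    (ξ : Spec (CommRingCat.of Ω) ⟶ X) : Function.Injective ((EtModW.stalk Λ ξ).map a) :=
  (ModuleCat.mono_iff_injective _).1 inferInstance

theorem stalk_map_surjective {F G : EtModW.Mod Λ X} (a : F ⟶ G) [Epi a] {Ω : Type u} [Field Ω] [IsSepClosed Ω]
    (ξ : Spec (CommRingCat.of Ω) ⟶ X) : Function.Surjective ((EtModW.stalk Λ ξ).map a) :=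
  (ModuleCat.epi_iff_surjective _).1 inferInstance

theorem app_injective {F G : EtModW.Mod Λ X} (a : F ⟶ G) [Mono a] (U : X.Etale) :
    Function.Injective (a.hom.app (op U)) :=
  EtFound.injective_of_stalks a (fun _ _ _ ξ => stalk_map_injective a ξ) U

theorem mono_iff_stalks {F G : EtModW.Mod Λ X} (a : F ⟶ G) :
    Mono a ↔ ∀ (Ω : Type u) [Field Ω] [IsSepClosed Ω] (ξ : Spec (CommRingCat.of Ω) ⟶ X),
      Function.Injective ((EtModW.stalk Λ ξ).map a) := by
  refine ⟨fun _ Ω _ _ ξ => stalk_map_injective a ξ, fun h => ?_⟩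
  have : ∀ U, Mono (a.hom.app U) := fun U =>
    (ModuleCat.mono_iff_injective _).2 (EtFound.injective_of_stalks a (fun Ω _ _ ξ => h Ω ξ) U.unop)
  have := NatTrans.mono_of_mono_app a.hom
  exact (sheafToPresheaf _ _).mono_of_mono_map this

theorem epi_iff_stalks {F G : EtModW.Mod Λ X} (a : F ⟶ G) :
    Epi a ↔ ∀ (Ω : Type u) [Field Ω] [IsSepClosed Ω] (ξ : Spec (CommRingCat.of Ω) ⟶ X),
      Function.Surjective ((EtModW.stalk Λ ξ).map a) := by
  refine ⟨fun _ Ω _ _ ξ => stalk_map_surjective a ξ, fun h => ?_⟩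
  have : Sheaf.IsLocallySurjective a := EtFound.isLocallySurjective_of_stalks a.hom fun Ω _ _ ξ => h Ω ξ
  exact (Sheaf.isLocallySurjective_iff_epi' _ a).1 this

theorem isIso_iff_stalks {F G : EtModW.Mod Λ X} (a : F ⟶ G) :
    IsIso a ↔ ∀ (Ω : Type u) [Field Ω] [IsSepClosed Ω] (ξ : Spec (CommRingCat.of Ω) ⟶ X),
      Function.Bijective ((EtModW.stalk Λ ξ).map a) := by
  refine ⟨fun _ Ω _ _ ξ => ConcreteCategory.bijective_of_isIso _, fun h => ?_⟩
  have : Mono a := (mono_iff_stalks a).2 fun Ω _ _ ξ => (h Ω ξ).1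
  have : Epi a := (epi_iff_stalks a).2 fun Ω _ _ ξ => (h Ω ξ).2
  exact isIso_of_mono_of_epi a

theorem isZero_iff_stalks (F : EtModW.Mod Λ X) :
    IsZero F ↔ ∀ (Ω : Type u) [Field Ω] [IsSepClosed Ω] (ξ : Spec (CommRingCat.of Ω) ⟶ X),
      IsZero ((EtModW.stalk Λ ξ).obj F) := by
  refine ⟨fun h Ω _ _ ξ => (EtModW.stalk Λ ξ).map_isZero h, fun h => ?_⟩
  have : Mono (0 : F ⟶ F) := (mono_iff_stalks _).2 fun Ω _ _ ξ x y _ => by
    have := ModuleCat.subsingleton_of_isZero (h Ω ξ)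
    exact Subsingleton.elim _ _
  exact IsZero.of_mono_zero F F

theorem exact_iff_stalks (S : ShortComplex (EtModW.Mod Λ X)) :
    S.Exact ↔ ∀ (Ω : Type u) [Field Ω] [IsSepClosed Ω] (ξ : Spec (CommRingCat.of Ω) ⟶ X),
      (S.map (EtModW.stalk Λ ξ)).Exact := by
  refine ⟨fun h Ω _ _ ξ => h.map _, fun h => ?_⟩
  rw [ShortComplex.exact_iff_isZero_homology, isZero_iff_stalks]
  intro Ω _ _ ξ
  exact ((ShortComplex.exact_iff_isZero_homology _).1 (h Ω ξ)).of_iso (S.mapHomologyIso _).symm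

theorem hom_ext_stalks {F G : EtModW.Mod Λ X} (a b : F ⟶ G)
    (h : ∀ (Ω : Type u) [Field Ω] [IsSepClosed Ω] (ξ : Spec (CommRingCat.of Ω) ⟶ X),
      (EtModW.stalk Λ ξ).map a = (EtModW.stalk Λ ξ).map b) : a = b :=
  EtFound.eq_of_stalks a b fun Ω _ _ ξ => h Ω ξ

/-- `(f^{-1} G)_ξ ≅ G_{f ξ}` -/
noncomputable def stalkPullIso (f : X ⟶ Y) {Ω : Type u} [Field Ω] [IsSepClosed Ω]
    (ξ : Spec (CommRingCat.of Ω) ⟶ X) :
    EtModW.pull Λ f ⋙ EtModW.stalk Λ ξ ≅ EtModW.stalk Λ (ξ ≫ f) :=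
  EtFound.sheafFiberPullIso f ξ

instance pull_preservesFiniteLimits (f : X ⟶ Y) : PreservesFiniteLimits (EtModW.pull Λ f) :=
  EtLC12.ModPullExact.pull_preservesFiniteLimits Λ f

/-- the adjunction `f^{-1} ⊣ f_*` on sheaves of modules -/
noncomputable abbrev pullPushAdj (f : X ⟶ Y) : EtModW.pull Λ f ⊣ EtModW.push Λ f :=
  (EtCoh.bc f).sheafAdjunctionContinuous (ModuleCat.{u + 1} Λ) Y.smallEtaleTopology X.smallEtaleTopology

instance pull_isLeftAdjoint (f : X ⟶ Y) : (EtModW.pull Λ f).IsLeftAdjoint := (pullPushAdj f).isLeftAdjoint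

instance pull_additive (f : X ⟶ Y) : (EtModW.pull Λ f).Additive :=
  Functor.additive_of_preserves_binary_products _

/-- inverse images compose -/
noncomputable def pullComp {Z : Scheme.{u}} (h : X ⟶ Y) (f : Y ⟶ Z) :
    EtModW.pull Λ (h ≫ f) ≅ EtModW.pull Λ f ⋙ EtModW.pull Λ h :=
  Adjunction.leftAdjointUniq (pullPushAdj (h ≫ f))
    (((pullPushAdj f).comp (pullPushAdj h)).ofNatIsoRight
      (Functor.sheafPushforwardContinuousComp' (F := EtCoh.bc f) (G := EtCoh.bc h) (FG := EtCoh.bc (h ≫ f))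
        ((MorphismProperty.Over.pullbackComp (P := EtCoh.etaleMP) (Q := ⊤) h f).symm :
          EtCoh.bc f ⋙ EtCoh.bc h ≅ EtCoh.bc (h ≫ f))
        (ModuleCat.{u + 1} Λ) Z.smallEtaleTopology Y.smallEtaleTopology X.smallEtaleTopology))

/-- stalks only depend on the image point -/
theorem nonempty_stalk_iso (F : EtModW.Mod Λ X) {k k' : Type u} [Field k] [IsSepClosed k] [Field k']
    [IsSepClosed k'] (ξ : Spec (CommRingCat.of k) ⟶ X) (ξ' : Spec (CommRingCat.of k') ⟶ X)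
    (h : ξ.base (default : Spec (CommRingCat.of k)) = ξ'.base (default : Spec (CommRingCat.of k'))) :
    Nonempty ((EtModW.stalk Λ ξ).obj F ≅ (EtModW.stalk Λ ξ').obj F) := by
  obtain ⟨Ω, _, _, z, e, he⟩ := EtFound.exists_lift_extension ξ ξ' ⟨default, h⟩
  exact ⟨(EtFound.stalkExtIso (ModuleCat.{u + 1} Λ) ξ z).app F ≪≫
    eqToIso (congrArg (fun q => (EtModW.stalk Λ q).obj F) he.symm) ≪≫
      ((EtFound.stalkExtIso (ModuleCat.{u + 1} Λ) ξ' e).app F).symm⟩

end Groth.Agent.EtModLib
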