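import Groth.Agent.SitePullUnit.Basic
import Groth.Agent.EtLC12.ModPullExact
import Mathlib.Algebra.Category.ModuleCat.Sheaf

/-! inverse images of sheaves of modules along flat functors commute with forgetting the scalars -/

universe u

open CategoryTheory CategoryTheory.Limits Opposite

namespace Groth.Agent.EtModLib.SitePull

set_option backward.isDefEq.respectTransparency.types false

variable {C D : Type (u + 1)} [Category.{u} C] [Category.{u} D] (G : C ⥤ D) [RepresentablyFlat G]
  {J : GrothendieckTopology C} (K : GrothendieckTopology D) [G.IsContinuous J K]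
  (Λ : Type (u + 1)) [CommRing Λ]

instance forget_shape (d : D) : PreservesColimitsOfShape (CostructuredArrow G.op (op d)) (forget (ModuleCat.{u + 1} Λ)) :=
  have : PreservesFilteredColimitsOfSize.{u, u + 1} (forget (ModuleCat.{u + 1} Λ)) :=
    preservesFilteredColimitsOfSize_of_univLE.{u + 1, u + 1, u, u + 1} _
  PreservesFilteredColimitsOfSize.preserves_filtered_colimits _

variable {Λ}

theorem exists_germ (F : Sheaf J (ModuleCat.{u + 1} Λ)) {d : D}
    (t : ((G.sheafPullback (ModuleCat.{u + 1} Λ) J K).obj F).obj.obj (op d)) :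
    ∃ R ∈ K d, ∀ ⦃d' : D⦄ (f : d' ⟶ d), R.arrows f → ∃ (U : C) (b : d' ⟶ G.obj U) (x : F.obj.obj (op U)),
      ((G.sheafPullback (ModuleCat.{u + 1} Λ) J K).obj F).obj.map b.op
          (((G.sheafAdjunctionContinuous (ModuleCat.{u + 1} Λ) J K).unit.app F).hom.app (op U) x) =
        ((G.sheafPullback (ModuleCat.{u + 1} Λ) J K).obj F).obj.map f.op t := by
  let ad := Functor.sheafPullbackConstruction.sheafAdjunctionContinuous G (ModuleCat.{u + 1} Λ) J K
  let ad' := G.sheafAdjunctionContinuous (ModuleCat.{u + 1} Λ) J K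
  let e := (ad.leftAdjointUniq ad').app F
  have hun : ad.unit.app F ≫ (G.sheafPushforwardContinuous (ModuleCat.{u + 1} Λ) J K).map e.hom = ad'.unit.app F :=
    Adjunction.unit_leftAdjointUniq_hom_app ad ad' F
  have hu : (ad.unit.app F).hom = G.op.lanUnit.app F.obj ≫
      Functor.whiskerLeft G.op (toSheafify K (G.op.lan.obj F.obj)) := by
    simp [ad, Functor.sheafPullbackConstruction.sheafAdjunctionContinuous, Adjunction.restrictFullyFaithful]
    erw [Category.comp_id, Adjunction.homEquiv_unit, CategoryTheory.Functor.map_id, Category.comp_id,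
      Adjunction.comp_unit_app]
    rfl
  let t₀ := e.inv.hom.app (op d) t
  refine ⟨_, Presheaf.imageSieve_mem K (toSheafify K (G.op.lan.obj F.obj)) (U := op d) t₀, fun d' f hf => ?_⟩
  obtain ⟨p, hp⟩ := hf
  obtain ⟨g, x, hx⟩ := Types.jointly_surjective _
    (isColimitOfPreserves (forget (ModuleCat.{u + 1} Λ))
      (G.op.isPointwiseLeftKanExtensionLeftKanExtensionUnit F.obj (op d'))) p
  refine ⟨g.left.unop, g.hom.unop, x, ?_⟩
  have h1 : ((presheafToSheaf K (ModuleCat.{u + 1} Λ)).obj (G.op.lan.obj F.obj)).obj.map g.hom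
      ((ad.unit.app F).hom.app g.left x) =
      ((presheafToSheaf K (ModuleCat.{u + 1} Λ)).obj (G.op.lan.obj F.obj)).obj.map f.op t₀ := by
    rw [hu]
    refine Eq.trans ?_ hp
    refine ((NatTrans.naturality_apply (toSheafify K (G.op.lan.obj F.obj)) g.hom _).symm).trans ?_
    exact congrArg (fun q => (toSheafify K (G.op.lan.obj F.obj)).app (op d') q) hx
  have h2 := congrArg (fun q => e.hom.hom.app (op d') q) h1
  replace h2 := (NatTrans.naturality_apply e.hom.hom g.hom _).symm.trans
    (h2.trans (NatTrans.naturality_apply e.hom.hom f.op t₀))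
  have h3 : e.hom.hom.app (op d) t₀ = t := by
    show e.hom.hom.app (op d) (e.inv.hom.app (op d) t) = t
    rw [← ConcreteCategory.comp_apply]
    exact ConcreteCategory.congr_hom (congrArg (fun q => q.hom.app (op d)) e.inv_hom_id) t
  rw [h3] at h2
  refine Eq.trans ?_ h2
  have h4 := congrArg (fun q : F ⟶ (G.sheafPushforwardContinuous (ModuleCat.{u + 1} Λ) J K).obj
    ((G.sheafPullback (ModuleCat.{u + 1} Λ) J K).obj F) => q.hom.app g.left x) hun
  exact congrArg (fun q => ((G.sheafPullback (ModuleCat.{u + 1} Λ) J K).obj F).obj.map g.hom q) h4.symm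

theorem exists_cover_of_germ_eq (F : Sheaf J (ModuleCat.{u + 1} Λ)) {d : D} {U : C} (b : d ⟶ G.obj U) (x y : F.obj.obj (op U))
    (h : ((G.sheafPullback (ModuleCat.{u + 1} Λ) J K).obj F).obj.map b.op
          (((G.sheafAdjunctionContinuous (ModuleCat.{u + 1} Λ) J K).unit.app F).hom.app (op U) x) =
        ((G.sheafPullback (ModuleCat.{u + 1} Λ) J K).obj F).obj.map b.op
          (((G.sheafAdjunctionContinuous (ModuleCat.{u + 1} Λ) J K).unit.app F).hom.app (op U) y)) :
    ∃ R ∈ K d, ∀ ⦃d' : D⦄ (f : d' ⟶ d), R.arrows f → ∃ (U' : C) (b' : d' ⟶ G.obj U') (c : U' ⟶ U),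
      b' ≫ G.map c = f ≫ b ∧ F.obj.map c.op x = F.obj.map c.op y := by
  let ad := Functor.sheafPullbackConstruction.sheafAdjunctionContinuous G (ModuleCat.{u + 1} Λ) J K
  let ad' := G.sheafAdjunctionContinuous (ModuleCat.{u + 1} Λ) J K
  let e := (ad.leftAdjointUniq ad').app F
  have hun : ad.unit.app F ≫ (G.sheafPushforwardContinuous (ModuleCat.{u + 1} Λ) J K).map e.hom = ad'.unit.app F :=
    Adjunction.unit_leftAdjointUniq_hom_app ad ad' F
  have hu : (ad.unit.app F).hom = G.op.lanUnit.app F.obj ≫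
      Functor.whiskerLeft G.op (toSheafify K (G.op.lan.obj F.obj)) := by
    simp [ad, Functor.sheafPullbackConstruction.sheafAdjunctionContinuous, Adjunction.restrictFullyFaithful]
    erw [Category.comp_id, Adjunction.homEquiv_unit, CategoryTheory.Functor.map_id, Category.comp_id,
      Adjunction.comp_unit_app]
    rfl
  have hz : ∀ z : F.obj.obj (op U), e.inv.hom.app (op d) (((G.sheafPullback (ModuleCat.{u + 1} Λ) J K).obj F).obj.map b.op
      ((ad'.unit.app F).hom.app (op U) z)) = (toSheafify K (G.op.lan.obj F.obj)).app (op d)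
        ((G.op.lan.obj F.obj).map b.op ((G.op.lanUnit.app F.obj).app (op U) z)) := fun z => by
    rw [NatTrans.naturality_apply e.inv.hom, NatTrans.naturality_apply (toSheafify K (G.op.lan.obj F.obj))]
    refine congrArg (fun q => ((presheafToSheaf K (ModuleCat.{u + 1} Λ)).obj (G.op.lan.obj F.obj)).obj.map b.op q) ?_
    have := ConcreteCategory.congr_hom (congrArg (fun q => q.app (op U)) hu) z
    refine Eq.trans ?_ this
    rw [← hun]
    show e.inv.hom.app (op (G.obj U)) (e.hom.hom.app (op (G.obj U)) ((ad.unit.app F).hom.app (op U) z)) = _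
    rw [← ConcreteCategory.comp_apply]
    exact ConcreteCategory.congr_hom (congrArg (fun q => q.hom.app (op (G.obj U))) e.hom_inv_id) _
  have h' := congrArg (fun q => e.inv.hom.app (op d) q) h
  dsimp only at h'
  rw [hz x, hz y] at h'
  refine ⟨_, Presheaf.equalizerSieve_mem K (toSheafify K (G.op.lan.obj F.obj)) _ _ h', fun d' f hf => ?_⟩
  let g : CostructuredArrow G.op (op d') := CostructuredArrow.mk (f ≫ b).op
  have e' : ∀ z : F.obj.obj (op U), (G.op.lan.obj F.obj).map f.op
      ((G.op.lan.obj F.obj).map b.op ((G.op.lanUnit.app F.obj).app (op U) z)) =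
      (G.op.lan.obj F.obj).map (f ≫ b).op ((G.op.lanUnit.app F.obj).app (op U) z) := fun z => by
    rw [op_comp, Functor.map_comp]; rfl
  have hf' := (e' x).symm.trans ((show _ = _ from hf).trans (e' y))
  obtain ⟨k, p, q, hpq⟩ := (Types.FilteredColimit.isColimit_eq_iff _
    (isColimitOfPreserves (forget (ModuleCat.{u + 1} Λ))
      (G.op.isPointwiseLeftKanExtensionLeftKanExtensionUnit F.obj (op d')))
    (i := g) (j := g) (xi := x) (xj := y)).1 hf'
  refine ⟨(IsFiltered.coeq p q).left.unop, (IsFiltered.coeq p q).hom.unop,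
    (p ≫ IsFiltered.coeqHom p q).left.unop, ?_, ?_⟩
  · exact congrArg Quiver.Hom.unop (CostructuredArrow.w (p ≫ IsFiltered.coeqHom p q))
  · have e1 : ∀ (r : g ⟶ k) (z : F.obj.obj (op U)),
        F.obj.map (IsFiltered.coeqHom p q).left (F.obj.map r.left z) =
          F.obj.map (r ≫ IsFiltered.coeqHom p q).left z := fun r z =>
      (congrArg (fun e => e z) (F.obj.map_comp r.left (IsFiltered.coeqHom p q).left)).symm
    have h2 := (e1 p x).symm.trans
      ((congrArg (fun z => F.obj.map (IsFiltered.coeqHom p q).left z) hpq).trans (e1 q y))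
    rw [← IsFiltered.coeq_condition] at h2
    exact h2

variable (Λ)

/-- forgetting the scalars -/
noncomputable abbrev forgetC (J : GrothendieckTopology C) : Sheaf J (ModuleCat.{u + 1} Λ) ⥤ Sheaf J AddCommGrpCat.{u + 1} :=
  sheafCompose J (forget₂ (ModuleCat.{u + 1} Λ) AddCommGrpCat.{u + 1})

variable {Λ}

/-- the comparison between the two inverse images -/
noncomputable def cmp (F : Sheaf J (ModuleCat.{u + 1} Λ)) :
    (G.sheafPullback AddCommGrpCat.{u + 1} J K).obj ((forgetC Λ J).obj F) ⟶
      (forgetC Λ K).obj ((G.sheafPullback (ModuleCat.{u + 1} Λ) J K).obj F) :=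
  ((G.sheafAdjunctionContinuous AddCommGrpCat.{u + 1} J K).homEquiv _ _).symm
    ((forgetC Λ J).map ((G.sheafAdjunctionContinuous (ModuleCat.{u + 1} Λ) J K).unit.app F) :
      (forgetC Λ J).obj F ⟶
        (G.sheafPushforwardContinuous AddCommGrpCat.{u + 1} J K).obj ((forgetC Λ K).obj ((G.sheafPullback (ModuleCat.{u + 1} Λ) J K).obj F)))

theorem unit_cmp (F : Sheaf J (ModuleCat.{u + 1} Λ)) :
    (G.sheafAdjunctionContinuous AddCommGrpCat.{u + 1} J K).unit.app ((forgetC Λ J).obj F) ≫
        (G.sheafPushforwardContinuous AddCommGrpCat.{u + 1} J K).map (cmp G K F) =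
      (forgetC Λ J).map ((G.sheafAdjunctionContinuous (ModuleCat.{u + 1} Λ) J K).unit.app F) := by
  exact ((G.sheafAdjunctionContinuous AddCommGrpCat.{u + 1} J K).homEquiv_unit _ _ _).symm.trans (Equiv.apply_symm_apply _ _)

/-- sections of an abelian pulled back sheaf are locally germs -/
theorem exists_germ_ab (F : Sheaf J AddCommGrpCat.{u + 1}) {d : D}
    (t : ((G.sheafPullback AddCommGrpCat.{u + 1} J K).obj F).obj.obj (op d)) :
    ∃ R ∈ K d, ∀ ⦃d' : D⦄ (f : d' ⟶ d), R.arrows f → ∃ (U : C) (b : d' ⟶ G.obj U) (x : F.obj.obj (op U)),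
      ((G.sheafPullback AddCommGrpCat.{u + 1} J K).obj F).obj.map b.op
          (((G.sheafAdjunctionContinuous AddCommGrpCat.{u + 1} J K).unit.app F).hom.app (op U) x) =
        ((G.sheafPullback AddCommGrpCat.{u + 1} J K).obj F).obj.map f.op t := by
  let ad := Functor.sheafPullbackConstruction.sheafAdjunctionContinuous G AddCommGrpCat.{u + 1} J K
  let ad' := G.sheafAdjunctionContinuous AddCommGrpCat.{u + 1} J K
  let e := (ad.leftAdjointUniq ad').app F
  have hun : ad.unit.app F ≫ (G.sheafPushforwardContinuous AddCommGrpCat.{u + 1} J K).map e.hom = ad'.unit.app F :=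
    Adjunction.unit_leftAdjointUniq_hom_app ad ad' F
  obtain ⟨R, hR, h⟩ := SitePullUnit.exists_cover_sGerm G K F (e.inv.hom.app (op d) t)
  refine ⟨R, hR, fun d' f hf => ?_⟩
  obtain ⟨U, b, x, hx⟩ := h f hf
  refine ⟨U, b, x, ?_⟩
  have h2 := congrArg (fun q => e.hom.hom.app (op d') q) hx
  replace h2 := (NatTrans.naturality_apply e.hom.hom b.op _).symm.trans
    (h2.trans (NatTrans.naturality_apply e.hom.hom f.op _))
  have h3 : e.hom.hom.app (op d) (e.inv.hom.app (op d) t) = t := by
    rw [← ConcreteCategory.comp_apply]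
    exact ConcreteCategory.congr_hom (congrArg (fun q => q.hom.app (op d)) e.inv_hom_id) t
  rw [h3] at h2
  refine Eq.trans ?_ h2
  refine congrArg (fun q => ((G.sheafPullback AddCommGrpCat.{u + 1} J K).obj F).obj.map b.op q) ?_
  rw [← hun]
  exact congrArg (fun q => e.hom.hom.app (op (G.obj U)) q)
    (ConcreteCategory.congr_hom (congrArg (fun q => q.app (op U)) (SitePullUnit.unit_con G K F)) x)

theorem isIso_cmp (F : Sheaf J (ModuleCat.{u + 1} Λ)) : IsIso (cmp G K F) := by
  let A := (G.sheafPullback AddCommGrpCat.{u + 1} J K).obj ((forgetC Λ J).obj F)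
  let B := (G.sheafPullback (ModuleCat.{u + 1} Λ) J K).obj F
  let ua := ((G.sheafAdjunctionContinuous AddCommGrpCat.{u + 1} J K).unit.app ((forgetC Λ J).obj F)).hom
  let um := ((G.sheafAdjunctionContinuous (ModuleCat.{u + 1} Λ) J K).unit.app F).hom
  have hc : ∀ (U : C) (x : F.obj.obj (op U)), (cmp G K F).hom.app (op (G.obj U)) (ua.app (op U) x) = um.app (op U) x :=
    fun U x => congrArg (fun q : (forgetC Λ J).obj F ⟶ (G.sheafPushforwardContinuous AddCommGrpCat.{u + 1} J K).obj
      ((forgetC Λ K).obj ((G.sheafPullback (ModuleCat.{u + 1} Λ) J K).obj F)) => q.hom.app (op U) x) (unit_cmp G K F)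
  have hg : ∀ {d' : D} {U : C} (b : d' ⟶ G.obj U) (x : F.obj.obj (op U)),
      (cmp G K F).hom.app (op d') (A.obj.map b.op (ua.app (op U) x)) = B.obj.map b.op (um.app (op U) x) :=
    fun {d'} {U} b x => by
      rw [NatTrans.naturality_apply (cmp G K F).hom b.op, hc]
      rfl
  refine (Sheaf.isLocallyBijective_iff_isIso _).1 ⟨?_, ?_⟩
  · refine ⟨fun {d} a a' h => ?_⟩
    obtain ⟨R₁, hR₁, h₁⟩ := exists_germ_ab G K ((forgetC Λ J).obj F) a
    obtain ⟨R₂, hR₂, h₂⟩ := exists_germ_ab G K ((forgetC Λ J).obj F) a'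
    refine K.transitive (K.intersection_covering hR₁ hR₂) _ fun d' f hf => ?_
    obtain ⟨U₁, b₁, x₁, e₁⟩ := h₁ f hf.1
    obtain ⟨U₂, b₂, x₂, e₂⟩ := h₂ f hf.2
    obtain ⟨k, p, q, -⟩ := IsCofilteredOrEmpty.cone_objs (StructuredArrow.mk b₁) (StructuredArrow.mk b₂)
    let y₁ := F.obj.map p.right.op x₁
    let y₂ := F.obj.map q.right.op x₂
    have hy : ∀ {U : C} (c : k.right ⟶ U) (z : F.obj.obj (op U)),
        A.obj.map k.hom.op (ua.app (op k.right) (F.obj.map c.op z)) =
          A.obj.map (k.hom ≫ G.map c).op (ua.app (op U) z) := fun {U} c z => by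
      rw [op_comp, Functor.map_comp]
      exact congrArg (fun w => A.obj.map k.hom.op w) (NatTrans.naturality_apply ua c.op z)
    have he₁ : A.obj.map k.hom.op (ua.app (op k.right) y₁) = A.obj.map f.op a :=
      (hy p.right x₁).trans ((congrArg (fun w : d' ⟶ G.obj U₁ => A.obj.map w.op (ua.app (op U₁) x₁))
        (StructuredArrow.w p)).trans e₁)
    have he₂ : A.obj.map k.hom.op (ua.app (op k.right) y₂) = A.obj.map f.op a' :=
      (hy q.right x₂).trans ((congrArg (fun w : d' ⟶ G.obj U₂ => A.obj.map w.op (ua.app (op U₂) x₂))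
        (StructuredArrow.w q)).trans e₂)
    have hm : B.obj.map k.hom.op (um.app (op k.right) y₁) = B.obj.map k.hom.op (um.app (op k.right) y₂) := by
      rw [← hg, ← hg, he₁, he₂, NatTrans.naturality_apply (cmp G K F).hom, NatTrans.naturality_apply (cmp G K F).hom]
      exact congrArg _ h
    obtain ⟨S, hS, hS'⟩ := exists_cover_of_germ_eq G K F k.hom y₁ y₂ hm
    refine K.superset_covering (fun d'' g hgS => ?_) hS
    obtain ⟨U', b', c, hb, hxy⟩ := hS' g hgS
    show A.obj.map (g ≫ f).op a = A.obj.map (g ≫ f).op a'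
    rw [op_comp, Functor.map_comp, ConcreteCategory.comp_apply, ConcreteCategory.comp_apply, ← he₁, ← he₂]
    have hres : ∀ z : F.obj.obj (op k.right), A.obj.map g.op (A.obj.map k.hom.op (ua.app (op k.right) z)) =
        A.obj.map b'.op (ua.app (op U') (F.obj.map c.op z)) := fun z => by
      rw [← ConcreteCategory.comp_apply, ← Functor.map_comp, ← op_comp, ← hb, op_comp, Functor.map_comp]
      exact congrArg (fun w => A.obj.map b'.op w) (NatTrans.naturality_apply ua c.op z).symm
    rw [hres, hres, hxy]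
  · refine ⟨fun {d} t => ?_⟩
    obtain ⟨R, hR, h⟩ := exists_germ G K F t
    refine K.superset_covering (fun d' f hf => ?_) hR
    obtain ⟨U, b, x, hx⟩ := h f hf
    exact ⟨A.obj.map b.op (ua.app (op U) x), (hg b x).trans hx⟩

end Groth.Agent.EtModLib.SitePull
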