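import Groth.Prelude.Def_EtModW
import Groth.Agent.EtModLib.SitePull
import Groth.Agent.ProEtLib.EpsVanish
import Groth.Agent.EtModLib.Basic

/-! inverse image of sheaves of modules from the etale to the pro-etale site -/

universe u

open CategoryTheory CategoryTheory.Limits AlgebraicGeometry Opposite

namespace Groth.Agent.EtModLib

set_option backward.isDefEq.respectTransparency.types false

variable {Λ : Type (u + 1)} [CommRing Λ] {X : Scheme.{u}} [ProEtS.EpsCont X]

variable (Λ X) in
/-- `ε⁻¹ ⊣ ε_*` on sheaves of modules -/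
noncomputable abbrev epsModAdj : EtModW.epsPullMod Λ X ⊣
    (ProEtS.eps X).sheafPushforwardContinuous (ModuleCat.{u + 1} Λ) X.smallEtaleTopology (Scheme.ProEt.topology X) :=
  (ProEtS.eps X).sheafAdjunctionContinuous (ModuleCat.{u + 1} Λ) X.smallEtaleTopology (Scheme.ProEt.topology X)

theorem isIso_unit_epsMod (F : EtModW.Mod Λ X) : IsIso ((epsModAdj Λ X).unit.app F) := by
  have := ProEtLib.repFlat_eps (X := X)
  let T := Scheme.ProEt.topology X
  have hc : IsIso (SitePull.cmp (ProEtS.eps X) T F) := SitePull.isIso_cmp (ProEtS.eps X) T F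
  have hu : IsIso ((ProEtS.epsAdj X).unit.app ((SitePull.forgetC Λ X.smallEtaleTopology).obj F)) :=
    ProEtLib.isIso_unit_eps _
  have h2 : IsIso ((ProEtS.epsAdj X).unit.app ((SitePull.forgetC Λ X.smallEtaleTopology).obj F) ≫
      (ProEtS.epsPush X).map (SitePull.cmp (ProEtS.eps X) T F)) := inferInstance
  have h : IsIso ((SitePull.forgetC Λ X.smallEtaleTopology).map ((epsModAdj Λ X).unit.app F)) := by
    rw [← SitePull.unit_cmp (ProEtS.eps X) T F]
    exact h2
  exact isIso_of_reflects_iso _ (SitePull.forgetC Λ X.smallEtaleTopology)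

theorem isIso_unit_epsMod' : IsIso (epsModAdj Λ X).unit :=
  have := isIso_unit_epsMod (Λ := Λ) (X := X)
  NatIso.isIso_of_isIso_app _

instance epsPullMod_full : (EtModW.epsPullMod Λ X).Full :=
  have := isIso_unit_epsMod' (Λ := Λ) (X := X)
  (epsModAdj Λ X).fullyFaithfulLOfIsIsoUnit.full

instance epsPullMod_faithful : (EtModW.epsPullMod Λ X).Faithful :=
  have := isIso_unit_epsMod' (Λ := Λ) (X := X)
  (epsModAdj Λ X).fullyFaithfulLOfIsIsoUnit.faithful

instance epsPullMod_preservesFiniteLimits : PreservesFiniteLimits (EtModW.epsPullMod Λ X) :=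
  have := ProEtLib.repFlat_eps (X := X)
  EtLC12.ModPullExact.sheafPullback_preservesFiniteLimits (ProEtS.eps X) X.smallEtaleTopology (Scheme.ProEt.topology X)

instance epsPullMod_isLeftAdjoint : (EtModW.epsPullMod Λ X).IsLeftAdjoint := (epsModAdj Λ X).isLeftAdjoint

instance epsPullMod_additive : (EtModW.epsPullMod Λ X).Additive := Functor.additive_of_preserves_binary_products _

/-- pushing forward keeps epimorphisms whose kernel comes from the etale site -/
theorem epi_epsPush_map {T : ShortComplex (EtModW.ModP Λ X)} (hT : T.ShortExact)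
    (h₁ : (EtModW.epsPullMod Λ X).essImage T.X₁) :
    Epi (((ProEtS.eps X).sheafPushforwardContinuous (ModuleCat.{u + 1} Λ) X.smallEtaleTopology
      (Scheme.ProEt.topology X)).map T.g) := by
  have := ProEtLib.repFlat_eps (X := X)
  let FP := SitePull.forgetC Λ (Scheme.ProEt.topology X)
  have : FP.Additive := { map_add := fun {_ _ _ _} => by ext; rfl }
  have hmono : Mono T.f := hT.mono_f
  have hepi : Epi (FP.map T.g) := by
    have := hT.epi_g
    have hs : Sheaf.IsLocallySurjective T.g := (Sheaf.isLocallySurjective_iff_epi' (ModuleCat.{u + 1} Λ) T.g).2 inferInstance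
    rw [← Sheaf.isLocallySurjective_iff_epi']
    exact ⟨fun {U} s => (hs.imageSieve_mem s : _)⟩
  have : PreservesFiniteLimits FP :=
    ⟨fun J _ _ => by
      have : PreservesLimitsOfShape J (FP ⋙ sheafToPresheaf (Scheme.ProEt.topology X) AddCommGrpCat.{u + 1}) :=
        inferInstanceAs (PreservesLimitsOfShape J (sheafToPresheaf (Scheme.ProEt.topology X) (ModuleCat.{u + 1} Λ) ⋙
          (Functor.whiskeringRight X.ProEtᵒᵖ _ _).obj (forget₂ (ModuleCat.{u + 1} Λ) AddCommGrpCat.{u + 1})))
      exact preservesLimitsOfShape_of_reflects_of_preserves FP (sheafToPresheaf _ AddCommGrpCat.{u + 1})⟩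
  have hS : (T.map FP).ShortExact :=
    ShortComplex.ShortExact.mk' (hT.exact.map_of_mono_of_preservesKernel FP inferInstance inferInstance)
      (inferInstanceAs (Mono (FP.map T.f))) hepi
  obtain ⟨A, ⟨e⟩⟩ := h₁
  let F := ProEtS.epsPush X
  have : PreservesFiniteLimits F :=
    have := (ProEtS.epsAdj X).rightAdjoint_preservesLimits
    inferInstance
  have hcmp : IsIso (SitePull.cmp (ProEtS.eps X) (Scheme.ProEt.topology X) A) := SitePull.isIso_cmp _ _ A
  have h0 : IsZero ((F.rightDerived 1).obj (T.map FP).X₁) :=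
    (ProEtLib.isZero_repsPush_epsPull 0 ((SitePull.forgetC Λ X.smallEtaleTopology).obj A)).of_iso
      ((F.rightDerived 1).mapIso (@asIso _ _ _ _ (SitePull.cmp (ProEtS.eps X) (Scheme.ProEt.topology X) A) hcmp ≪≫
        FP.mapIso e)).symm
  letI := HasDerivedCategory.standard (ProEtS.AbP X)
  letI := HasDerivedCategory.standard (EtCoh.Ab X)
  obtain ⟨δ, w₁, w₂, w₃, -, h₂, -⟩ := TriCat.exists_rightDerived_ses F hS 0
  have : Epi ((F.rightDerived 0).map (T.map FP).g) := h₂.epi_f (h0.eq_of_tgt _ _)
  have hp : Epi (F.map (FP.map T.g)) :=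
    ((MorphismProperty.epimorphisms _).arrow_mk_iso_iff
      (Arrow.isoOfNatIso F.rightDerivedZeroIsoSelf (Arrow.mk (T.map FP).g))).1 this
  exact Functor.epi_of_epi_map (SitePull.forgetC Λ X.smallEtaleTopology) hp

/-- pushing forward a short exact sequence starting in the essential image -/
theorem shortExact_map_epsPush {T : ShortComplex (EtModW.ModP Λ X)} (hT : T.ShortExact)
    (h₁ : (EtModW.epsPullMod Λ X).essImage T.X₁) :
    (T.map ((ProEtS.eps X).sheafPushforwardContinuous (ModuleCat.{u + 1} Λ) X.smallEtaleTopology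
      (Scheme.ProEt.topology X))).ShortExact := by
  let P := (ProEtS.eps X).sheafPushforwardContinuous (ModuleCat.{u + 1} Λ) X.smallEtaleTopology
    (Scheme.ProEt.topology X)
  have : P.IsRightAdjoint := (epsModAdj Λ X).isRightAdjoint
  have := hT.mono_f
  exact ShortComplex.ShortExact.mk' (hT.exact.map_of_mono_of_preservesKernel P inferInstance inferInstance)
    (inferInstanceAs (Mono (P.map T.f))) (epi_epsPush_map hT h₁)

theorem isIso_counit_epsMod {G : EtModW.ModP Λ X} (h : (EtModW.epsPullMod Λ X).essImage G) :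
    IsIso ((epsModAdj Λ X).counit.app G) := by
  obtain ⟨A, ⟨e⟩⟩ := h
  exact (epsModAdj Λ X).isIso_counit_app_of_iso e.symm

theorem essImage_X₂ {T : ShortComplex (EtModW.ModP Λ X)} (hT : T.ShortExact)
    (h₁ : (EtModW.epsPullMod Λ X).essImage T.X₁) (h₃ : (EtModW.epsPullMod Λ X).essImage T.X₃) :
    IsIso ((epsModAdj Λ X).counit.app T.X₂) := by
  let P := (ProEtS.eps X).sheafPushforwardContinuous (ModuleCat.{u + 1} Λ) X.smallEtaleTopology
    (Scheme.ProEt.topology X)
  let φ : (T.map P).map (EtModW.epsPullMod Λ X) ⟶ T :=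
    { τ₁ := (epsModAdj Λ X).counit.app T.X₁
      τ₂ := (epsModAdj Λ X).counit.app T.X₂
      τ₃ := (epsModAdj Λ X).counit.app T.X₃
      comm₁₂ := ((epsModAdj Λ X).counit.naturality T.f).symm
      comm₂₃ := ((epsModAdj Λ X).counit.naturality T.g).symm }
  have : IsIso φ.τ₁ := isIso_counit_epsMod h₁
  have : IsIso φ.τ₃ := isIso_counit_epsMod h₃
  exact ShortComplex.isIso₂_of_shortExact_of_isIso₁₃ φ ((shortExact_map_epsPush hT h₁).map_of_exact _) hT

end Groth.Agent.EtModLib
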