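import Groth.Agent.EtModLib.ProEtAbelian
import Groth.Agent.EtModLib.EpsMod
import Mathlib.Algebra.Homology.ShortComplex.SnakeLemma
import Mathlib.CategoryTheory.Abelian.Refinements

/-! extensions of adic pro-etale sheaves for a principal ideal -/

universe v u' u

open CategoryTheory CategoryTheory.Limits AlgebraicGeometry Opposite ARSys

namespace Groth.Agent.EtModLib

set_option backward.isDefEq.respectTransparency.types false

namespace Principal

variable {A : Type*} [CommRing A] {C : Type u'} [Category.{v} C] [Abelian C] [Linear A C] (a : A)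

/-- multiplication by `a ^ k` -/
abbrev mul (M : C) (k : ℕ) : M ⟶ M := a ^ k • 𝟙 M

theorem mul_naturality {M N : C} (f : M ⟶ N) (k : ℕ) : mul a M k ≫ f = f ≫ mul a N k := by
  simp [mul]

theorem mul_add (M : C) (k l : ℕ) : mul a M (k + l) = mul a M k ≫ mul a M l := by
  rw [mul, mul, mul, Linear.smul_comp, Category.id_comp, smul_smul, ← pow_add]

theorem mul_π (M : C) {n m : ℕ} (h : n ≤ m) : mul a M (m + 1) ≫ cokernel.π (mul a M (n + 1)) = 0 := by
  rw [show m + 1 = (m - n) + (n + 1) by omega, mul_add a M (m - n) (n + 1), Category.assoc, cokernel.condition, comp_zero]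

/-- the tower `M / a^(n+1) M` -/
noncomputable def sys (M : C) : PS C :=
  ARLib.systemMk (fun n => cokernel (mul a M (n + 1)))
    (fun n m h => cokernel.desc _ (cokernel.π (mul a M (n + 1))) (mul_π a M h))
    (fun n => by ext; simp) (fun i j k h1 h2 => by ext; simp)

theorem π_tr (M : C) {n m : ℕ} (h : n ≤ m) :
    cokernel.π (mul a M (m + 1)) ≫ tr (sys a M) h = cokernel.π (mul a M (n + 1)) :=
  cokernel.π_desc _ _ _

/-- the projections to the tower -/
noncomputable def proj (M : C) : (Functor.const ℕᵒᵖ).obj M ⟶ sys a M :=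
  ARLib.natMk (fun n => cokernel.π (mul a M (n + 1)))
    fun n m h => (Category.id_comp _).trans (π_tr a M h).symm

theorem killedBy_iff (M : C) (k : ℕ) : KilledBy (Ideal.span {a} ^ k) M ↔ mul a M k = 0 := by
  rw [KilledBy, Ideal.span_singleton_pow]
  refine ⟨fun h => h _ (Ideal.mem_span_singleton_self _), fun h b hb => ?_⟩
  obtain ⟨c, rfl⟩ := Ideal.mem_span_singleton'.1 hb
  rw [mul_smul, show a ^ k • 𝟙 M = 0 from h, smul_zero]

theorem isQuot_π (M : C) (k : ℕ) : IsQuot (Ideal.span {a} ^ k) (cokernel.π (mul a M k)) := by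
  refine ⟨(killedBy_iff a _ k).2 ?_, fun Y φ hφ => ?_⟩
  · rw [← cancel_epi (cokernel.π (mul a M k)), ← mul_naturality, cokernel.condition, comp_zero]
  · have h : mul a M k ≫ φ = 0 := by
      rw [mul, Linear.smul_comp, Category.id_comp]
      exact hφ _ (Ideal.pow_mem_pow (Ideal.mem_span_singleton_self a) k)
    exact ⟨cokernel.desc _ φ h, cokernel.π_desc _ _ _, fun ψ hψ => (cancel_epi (cokernel.π (mul a M k))).1
      (hψ.trans (cokernel.π_desc _ _ _).symm)⟩

/-- the maps `M/a^k ⟶ N/a^k` -/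
noncomputable def cmap {M N : C} (f : M ⟶ N) (k : ℕ) : cokernel (mul a M k) ⟶ cokernel (mul a N k) :=
  cokernel.map _ _ f f (mul_naturality a f k)

theorem π_cmap {M N : C} (f : M ⟶ N) (k : ℕ) :
    cokernel.π (mul a M k) ≫ cmap a f k = f ≫ cokernel.π (mul a N k) :=
  cokernel.π_desc _ _ _

/-- the induced map of towers -/
noncomputable def sysMap {M N : C} (f : M ⟶ N) : sys a M ⟶ sys a N :=
  ARLib.natMk (fun n => cmap a f (n + 1)) fun n m h => by
    refine (cancel_epi (cokernel.π (mul a M (m + 1)))).1 ?_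
    refine (Category.assoc _ _ _).symm.trans ((congrArg (· ≫ cmap a f (n + 1)) (π_tr a M h)).trans ?_)
    refine (π_cmap a f (n + 1)).trans (Eq.trans ?_ (Category.assoc _ _ _))
    refine Eq.trans ?_ (congrArg (· ≫ tr (sys a N) h) (π_cmap a f (m + 1))).symm
    exact ((congrArg (f ≫ ·) (π_tr a N h)).symm).trans (Category.assoc _ _ _).symm

theorem π_sysMap {M N : C} (f : M ⟶ N) (n : ℕ) :
    cokernel.π (mul a M (n + 1)) ≫ (sysMap a f).app (op n) = f ≫ cokernel.π (mul a N (n + 1)) :=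
  cokernel.π_desc _ _ _

variable {S : ShortComplex C}

theorem sysMap_zero : sysMap a S.f ≫ sysMap a S.g = 0 := ARLib.hom_ext fun n => by
  refine (cancel_epi (cokernel.π (mul a S.X₁ (n + 1)))).1 ?_
  show cokernel.π (mul a S.X₁ (n + 1)) ≫ cmap a S.f (n + 1) ≫ cmap a S.g (n + 1) = cokernel.π _ ≫ 0
  rw [reassoc_of% π_cmap a S.f (n + 1), π_cmap a S.g (n + 1), S.zero_assoc, zero_comp, comp_zero]

/-- multiplication on a short exact sequence, as a snake -/
noncomputable def snake (hS : S.ShortExact) (k : ℕ) : ShortComplex.SnakeInput C :=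
  let φ : S ⟶ S := ShortComplex.homMk (mul a _ k) (mul a _ k) (mul a _ k) (mul_naturality a S.f k)
    (mul_naturality a S.g k)
  { L₀ := kernel φ
    L₁ := S
    L₂ := S
    L₃ := cokernel φ
    v₀₁ := kernel.ι φ
    v₁₂ := φ
    v₂₃ := cokernel.π φ
    h₀ := kernelIsKernel φ
    h₃ := cokernelIsCokernel φ
    L₁_exact := hS.exact
    epi_L₁_g := hS.epi_g
    L₂_exact := hS.exact
    mono_L₂_f := hS.mono_f }

/-- the kernel of `G/a^n ⟶ H/a^n` is the cokernel of `H[a^n] ⟶ F/a^n` -/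
theorem exists_presentation (hS : S.ShortExact) (n : ℕ) :
    ∃ δ : kernel (mul a S.X₃ (n + 1)) ⟶ cokernel (mul a S.X₁ (n + 1)),
      Nonempty (cokernel δ ≅ kernel ((sysMap a S.g).app (op n))) := by
  let D := snake a hS (n + 1)
  let φ := D.v₁₂
  let e₀ : D.L₀.X₃ ≅ kernel (mul a S.X₃ (n + 1)) := PreservesKernel.iso ShortComplex.π₃ φ
  let e₁ : D.L₃.X₁ ≅ cokernel (mul a S.X₁ (n + 1)) := PreservesCokernel.iso ShortComplex.π₁ φ
  let e₂ : D.L₃.X₂ ≅ cokernel (mul a S.X₂ (n + 1)) := PreservesCokernel.iso ShortComplex.π₂ φ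
  let f' : cokernel (mul a S.X₁ (n + 1)) ⟶ cokernel (mul a S.X₂ (n + 1)) :=
    cmap a S.f (n + 1)
  let g' : cokernel (mul a S.X₂ (n + 1)) ⟶ cokernel (mul a S.X₃ (n + 1)) :=
    cmap a S.g (n + 1)
  have hπ₁ : D.v₂₃.τ₁ ≫ e₁.hom = cokernel.π (mul a S.X₁ (n + 1)) :=
    PreservesCokernel.π_iso_hom ShortComplex.π₁ φ
  have hπ₂ : D.v₂₃.τ₂ ≫ e₂.hom = cokernel.π (mul a S.X₂ (n + 1)) :=
    PreservesCokernel.π_iso_hom ShortComplex.π₂ φ
  have comm : e₁.hom ≫ f' = D.L₃.f ≫ e₂.hom := by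
    rw [← cancel_epi D.v₂₃.τ₁, reassoc_of% hπ₁]
    refine Eq.trans (π_cmap a S.f (n + 1)) ?_
    exact (congrArg (S.f ≫ ·) hπ₂).symm.trans ((Category.assoc _ _ _).symm.trans
      ((congrArg (· ≫ e₂.hom) D.v₂₃.comm₁₂.symm).trans (Category.assoc _ _ _)))
  have w : f' ≫ g' = 0 := by
    simp only [f', g']
    rw [← cancel_epi (cokernel.π (mul a S.X₁ (n + 1))), reassoc_of% π_cmap a S.f (n + 1), π_cmap,
      S.zero_assoc, zero_comp, comp_zero]
  let δ := e₀.inv ≫ D.δ ≫ e₁.hom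
  have wδ : δ ≫ f' = 0 := by
    simp only [δ, Category.assoc]
    rw [comm, reassoc_of% D.δ_L₃_f, zero_comp, comp_zero]
  have hex : (ShortComplex.mk δ f' wδ).Exact :=
    ShortComplex.exact_of_iso (ShortComplex.isoMk e₀ e₁ e₂ (Iso.hom_inv_id_assoc _ _) comm) D.L₂'_exact
  have hex' : (ShortComplex.mk f' g' w).Exact := by
    rw [ShortComplex.exact_iff_exact_up_to_refinements]
    intro T y hy
    obtain ⟨T', π, hπ, z, hz⟩ := surjective_up_to_refinements_of_epi (cokernel.π (mul a S.X₂ (n + 1))) y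
    have h1 : (z ≫ S.g) ≫ cokernel.π (mul a S.X₃ (n + 1)) = 0 := by
      rw [Category.assoc, ← π_cmap a S.g (n + 1), ← reassoc_of% hz]
      exact (congrArg (π ≫ ·) hy).trans comp_zero
    obtain ⟨T₁, π₁, hπ₁', h, hh⟩ := (ShortComplex.exact_cokernel (mul a S.X₃ (n + 1))).exact_up_to_refinements
      (z ≫ S.g) h1
    obtain ⟨T₂, π₂, hπ₂', g₀, hg₀⟩ := @surjective_up_to_refinements_of_epi _ _ _ _ _ S.g hS.epi_g _ h
    have h2 : (π₂ ≫ π₁ ≫ z - g₀ ≫ mul a S.X₂ (n + 1)) ≫ S.g = 0 := by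
      rw [Preadditive.sub_comp, Category.assoc, Category.assoc, Category.assoc, mul_naturality, ← reassoc_of% hg₀, hh,
        sub_self]
    obtain ⟨T₃, π₃, hπ₃', x, hx⟩ := hS.exact.exact_up_to_refinements _ h2
    refine ⟨T₃, π₃ ≫ π₂ ≫ π₁ ≫ π, inferInstance, x ≫ cokernel.π _, ?_⟩
    simp only [Category.assoc, π_cmap, f']
    rw [hz, ← reassoc_of% hx, Preadditive.sub_comp, Category.assoc, Category.assoc, Category.assoc,
      cokernel.condition, comp_zero, sub_zero]
  refine ⟨δ, ⟨?_⟩⟩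
  have : Mono (cokernel.desc δ f' wδ) := hex.mono_cokernelDesc
  let S' := ShortComplex.mk (cokernel.desc δ f' wδ) g' (by
    rw [← cancel_epi (cokernel.π δ), cokernel.π_desc_assoc, w, comp_zero])
  have hS' : S'.Exact := by
    let ψ : ShortComplex.mk f' g' w ⟶ S' :=
      { τ₁ := cokernel.π δ, τ₂ := 𝟙 _, τ₃ := 𝟙 _, comm₁₂ := by simp [S'], comm₂₃ := by simp [S'] }
    exact (ShortComplex.exact_iff_of_epi_of_isIso_of_mono ψ).1 hex'
  exact IsLimit.conePointUniqueUpToIso hS'.fIsKernel (limit.isLimit _)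

variable (hS : S.ShortExact) {c : ℕ}
  (hc : ∀ (T : C) (y : T ⟶ S.X₃) (k : ℕ), c ≤ k → y ≫ mul a S.X₃ k = 0 → y ≫ mul a S.X₃ c = 0)

include hS hc in
/-- `F/a^(n+1) ⟶ ker(G/a^(n+1) ⟶ H/a^(n+1))` is an isomorphism up to translation -/
theorem isARIso_lift : IsARIso (kernel.lift (sysMap a S.g) (sysMap a S.f) (sysMap_zero a)) := by
  let w := kernel.lift (sysMap a S.g) (sysMap a S.f) (sysMap_zero a)
  have hwι : w ≫ kernel.ι (sysMap a S.g) = sysMap a S.f := kernel.lift_ι _ _ _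
  constructor
  · refine ⟨c, fun n => ?_⟩
    let ι := kernel.ι w
    have := (NatTrans.mono_iff_mono_app ι).1 inferInstance (op n)
    rw [← cancel_mono (ι.app (op n)), zero_comp]
    refine (ι.naturality (homOfLE (Nat.le_add_right n c)).op).trans ?_
    show ι.app (op (n + c)) ≫ tr (sys a S.X₁) (Nat.le_add_right n c) = 0
    let x := ι.app (op (n + c))
    have hx : x ≫ (sysMap a S.f).app (op (n + c)) = 0 := by
      rw [← hwι, NatTrans.comp_app, ← Category.assoc, ← NatTrans.comp_app, kernel.condition]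
      exact zero_comp
    obtain ⟨T, π, hπ, z, hz⟩ := surjective_up_to_refinements_of_epi (cokernel.π (mul a S.X₁ (n + c + 1))) x
    rw [← cancel_epi π, comp_zero]
    refine ((Category.assoc _ _ _).symm.trans ((congrArg (· ≫ _) hz).trans (Category.assoc _ _ _))).trans ?_
    refine (congrArg (z ≫ ·) (π_tr a S.X₁ (Nat.le_add_right n c))).trans ?_
    have h1 : (z ≫ S.f) ≫ cokernel.π (mul a S.X₂ (n + c + 1)) = 0 := by
      rw [Category.assoc, ← π_sysMap a S.f (n + c)]
      refine (Category.assoc _ _ _).symm.trans ((congrArg (· ≫ _) hz.symm).trans ?_)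
      exact (Category.assoc _ _ _).trans ((congrArg (π ≫ ·) hx).trans comp_zero)
    obtain ⟨T₁, π₁, hπ₁, y, hy⟩ := (ShortComplex.exact_cokernel (mul a S.X₂ (n + c + 1))).exact_up_to_refinements _ h1
    have h2 : (y ≫ S.g) ≫ mul a S.X₃ (n + c + 1) = 0 := by
      rw [Category.assoc, ← mul_naturality, ← reassoc_of% hy, S.zero, comp_zero, comp_zero]
    have h3 : (y ≫ mul a S.X₂ c) ≫ S.g = 0 := by
      rw [Category.assoc, mul_naturality, ← Category.assoc]
      exact hc _ _ _ (by omega) h2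
    obtain ⟨T₂, π₂, hπ₂, t, ht⟩ := hS.exact.exact_up_to_refinements _ h3
    have h4 : π₂ ≫ π₁ ≫ z = t ≫ mul a S.X₁ (n + 1) := by
      haveI := hS.mono_f
      rw [← cancel_mono S.f]
      simp only [Category.assoc]
      rw [hy, mul_naturality, ← reassoc_of% ht, show n + c + 1 = c + (n + 1) by omega, mul_add]
    rw [← cancel_epi (π₂ ≫ π₁), comp_zero, ← Category.assoc, Category.assoc π₂, h4, Category.assoc]
    exact (congrArg (t ≫ ·) (cokernel.condition _)).trans comp_zero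
  · have : ∀ n : ℕᵒᵖ, Epi (w.app n) := fun n => by
      obtain ⟨n⟩ := n
      have e : w.app (op n) ≫ (kernel.ι (sysMap a S.g)).app (op n) = (sysMap a S.f).app (op n) := by
        rw [← NatTrans.comp_app, hwι]
      refine epi_iff_surjective_up_to_refinements _ |>.2 fun T x => ?_
      let y := x ≫ (kernel.ι (sysMap a S.g)).app (op n)
      have hy : y ≫ (sysMap a S.g).app (op n) = 0 := by
        rw [Category.assoc, ← NatTrans.comp_app, kernel.condition]
        exact comp_zero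
      obtain ⟨T', π, hπ, z, hz⟩ := surjective_up_to_refinements_of_epi (cokernel.π (mul a S.X₂ (n + 1))) y
      have h1 : (z ≫ S.g) ≫ cokernel.π (mul a S.X₃ (n + 1)) = 0 := by
        rw [Category.assoc, ← π_sysMap a S.g n]
        refine (Category.assoc _ _ _).symm.trans ((congrArg (· ≫ _) hz.symm).trans ?_)
        exact (Category.assoc _ _ _).trans ((congrArg (π ≫ ·) hy).trans comp_zero)
      obtain ⟨T₁, π₁, hπ₁, h, hh⟩ := (ShortComplex.exact_cokernel (mul a S.X₃ (n + 1))).exact_up_to_refinements _ h1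
      haveI := hS.epi_g
      obtain ⟨T₂, π₂, hπ₂, g₀, hg₀⟩ := surjective_up_to_refinements_of_epi S.g h
      have h2 : (π₂ ≫ π₁ ≫ z - g₀ ≫ mul a S.X₂ (n + 1)) ≫ S.g = 0 := by
        rw [Preadditive.sub_comp, Category.assoc, Category.assoc, Category.assoc, mul_naturality, ← reassoc_of% hg₀,
          hh, sub_self]
      obtain ⟨T₃, π₃, hπ₃, t, ht⟩ := hS.exact.exact_up_to_refinements _ h2
      have := (NatTrans.mono_iff_mono_app (kernel.ι (sysMap a S.g))).1 inferInstance (op n)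
      refine ⟨T₃, π₃ ≫ π₂ ≫ π₁ ≫ π, inferInstance, t ≫ cokernel.π (mul a S.X₁ (n + 1)), ?_⟩
      refine (cancel_mono ((kernel.ι (sysMap a S.g)).app (op n))).1 ?_
      refine Eq.trans ?_ (Category.assoc _ _ _).symm
      refine Eq.trans ?_ (congrArg ((t ≫ cokernel.π _) ≫ ·) e).symm
      refine Eq.trans ?_ (Category.assoc _ _ _).symm
      refine Eq.trans ?_ (congrArg (t ≫ ·) (π_sysMap a S.f n)).symm
      refine Eq.trans ?_ (Category.assoc _ _ _)
      simp only [Category.assoc]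
      refine (congrArg (fun q => π₃ ≫ π₂ ≫ π₁ ≫ q) hz).trans ?_
      refine Eq.trans ?_ (Category.assoc _ _ _)
      rw [← ht, Category.assoc, Preadditive.sub_comp, Category.assoc, Category.assoc, Category.assoc,
        cokernel.condition, comp_zero, sub_zero]
    have hwepi : Epi w := NatTrans.epi_of_epi_app w
    refine ⟨0, fun n => ?_⟩
    have hz : IsZero (cokernel w) := isZero_cokernel_of_epi w
    exact (((evaluation ℕᵒᵖ C).obj (op n)).map_isZero hz).eq_of_tgt _ _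

variable [HasLimitsOfShape ℕᵒᵖ C]

/-- `M ⟶ lim M / a^(n+1) M` -/
noncomputable def toLim (M : C) : M ⟶ limit (sys a M) := limit.lift _ (Cone.mk M (proj a M))

theorem toLim_natural {M N : C} (f : M ⟶ N) : toLim a M ≫ limMap (sysMap a f) = f ≫ toLim a N :=
  limit.hom_ext fun ⟨n⟩ => by
    simp only [toLim, Category.assoc, limMap_π, limit.lift_π, limit.lift_π_assoc]
    exact π_sysMap a f n

include hS hc in
/-- completeness passes to extensions -/
theorem isIso_toLim (h₁ : IsIso (toLim a S.X₁)) (h₃ : IsIso (toLim a S.X₃)) : IsIso (toLim a S.X₂) := by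
  let w := kernel.lift (sysMap a S.g) (sysMap a S.f) (sysMap_zero a)
  haveI : IsIso (limMap w) := ARLib.isIso_limMap (hu := isARIso_lift a hS hc) ..
  haveI := hS.mono_f
  haveI := hS.epi_g
  haveI : Mono (limMap (kernel.ι (sysMap a S.g))) :=
    inferInstanceAs (Mono ((lim : (ℕᵒᵖ ⥤ C) ⥤ C).map (kernel.ι (sysMap a S.g))))
  have hf : limMap w ≫ limMap (kernel.ι (sysMap a S.g)) = limMap (sysMap a S.f) := by
    refine limit.hom_ext fun n => ?_
    simp [w]
    rw [← NatTrans.comp_app, kernel.lift_ι]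
  haveI : Mono (limMap (sysMap a S.f)) := by rw [← hf]; infer_instance
  have hmid : (ShortComplex.mk ((lim : (ℕᵒᵖ ⥤ C) ⥤ C).map (kernel.ι (sysMap a S.g)))
      ((lim : (ℕᵒᵖ ⥤ C) ⥤ C).map (sysMap a S.g)) (by rw [← Functor.map_comp, kernel.condition, Functor.map_zero])).Exact :=
    (ShortComplex.exact_of_f_is_kernel (ShortComplex.mk (kernel.ι (sysMap a S.g)) (sysMap a S.g) (kernel.condition _))
      (kernelIsKernel _)).map_of_mono_of_preservesKernel (lim : (ℕᵒᵖ ⥤ C) ⥤ C) inferInstance inferInstance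
  haveI hm : Mono (toLim a S.X₂) := by
    refine Preadditive.mono_of_cancel_zero _ fun {T} x hx => ?_
    have h1 : x ≫ S.g = 0 := by
      rw [← cancel_mono (toLim a S.X₃), Category.assoc, ← toLim_natural, reassoc_of% hx, zero_comp, zero_comp]
    obtain ⟨T₁, π, hπ, y, hy⟩ := hS.exact.exact_up_to_refinements x h1
    have h2 : y = 0 := by
      rw [← cancel_mono (toLim a S.X₁), ← cancel_mono (limMap (sysMap a S.f)), Category.assoc, toLim_natural,
        ← reassoc_of% hy, hx, comp_zero, zero_comp, zero_comp]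
    rw [← cancel_epi π, hy, h2, zero_comp, comp_zero]
  haveI : Epi (toLim a S.X₂) := by
    refine (epi_iff_surjective_up_to_refinements _).2 fun T y => ?_
    let h := (y ≫ limMap (sysMap a S.g)) ≫ inv (toLim a S.X₃)
    obtain ⟨T₁, π, hπ, x, hx⟩ := surjective_up_to_refinements_of_epi S.g h
    have hd : (π ≫ y - x ≫ toLim a S.X₂) ≫ limMap (sysMap a S.g) = 0 := by
      rw [Preadditive.sub_comp, Category.assoc, Category.assoc, toLim_natural, ← reassoc_of% hx]
      simp [h]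
    obtain ⟨T₂, π₂, hπ₂, q, hq⟩ := hmid.exact_up_to_refinements (π ≫ y - x ≫ toLim a S.X₂) hd
    have hq' : π₂ ≫ (π ≫ y - x ≫ toLim a S.X₂) = q ≫ limMap (kernel.ι (sysMap a S.g)) := hq
    refine ⟨T₂, π₂ ≫ π, inferInstance, π₂ ≫ x + ((q ≫ inv (limMap w)) ≫ inv (toLim a S.X₁)) ≫ S.f, ?_⟩
    rw [Preadditive.add_comp]
    simp only [Category.assoc]
    rw [← toLim_natural a S.f, IsIso.inv_hom_id_assoc, ← hf, IsIso.inv_hom_id_assoc, ← hq']
    simp [Preadditive.comp_sub]
  exact isIso_of_mono_of_epi _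

end Principal

open Principal

variable {Λ : Type (u + 1)} [CommRing Λ] {X : Scheme.{u}} [ProEtS.EpsCont X] [IsNoetherianRing Λ] [AlgebraicGeometry.IsNoetherian X]

omit [IsNoetherianRing Λ] [AlgebraicGeometry.IsNoetherian X] in
theorem adicP_of_iso {I : Ideal Λ} {F F' : EtModW.ModP Λ X} (e : F ≅ F') (h : AdicP I F) : AdicP I F' := by
  obtain ⟨Q, p, hQ, hc, hl⟩ := h
  refine ⟨Q, (Functor.const ℕᵒᵖ).map e.inv ≫ p, fun n => isQuot_iso_comp e.symm (hQ n), hc, ?_⟩
  have : limit.lift Q (Cone.mk F' ((Functor.const ℕᵒᵖ).map e.inv ≫ p)) = e.inv ≫ limit.lift Q (Cone.mk F p) :=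
    limit.hom_ext fun n => by simp
  rw [this]
  infer_instance

omit [ProEtS.EpsCont X] [IsNoetherianRing Λ] [AlgebraicGeometry.IsNoetherian X] in
theorem isQuot_unique {I : Ideal Λ} {M Q Q' : EtModW.ModP Λ X} {p : M ⟶ Q} {p' : M ⟶ Q'} (h : IsQuot I p)
    (h' : IsQuot I p') : ∃ e : Q ≅ Q', p ≫ e.hom = p' := by
  obtain ⟨u, hu, -⟩ := h.2 _ p' (ARLib.IsQuot.homKilledBy h')
  obtain ⟨v, hv, -⟩ := h'.2 _ p (ARLib.IsQuot.homKilledBy h)
  haveI := ARLib.IsQuot.epi h
  haveI := ARLib.IsQuot.epi h'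
  refine ⟨⟨u, v, (cancel_epi p).1 ?_, (cancel_epi p').1 ?_⟩, hu⟩
  · exact ((Category.assoc _ _ _).symm.trans ((congrArg (· ≫ v) hu).trans hv)).trans (Category.comp_id p).symm
  · exact ((Category.assoc _ _ _).symm.trans ((congrArg (· ≫ u) hv).trans hu)).trans (Category.comp_id p').symm

variable (a : Λ)

omit [IsNoetherianRing Λ] [AlgebraicGeometry.IsNoetherian X] in
theorem adicP_data {M : EtModW.ModP Λ X} (h : AdicP (Ideal.span {a}) M) :
    IsIso (toLim a M) ∧ ∀ n : ℕ, ∃ E : EtModW.Mod Λ X, EtModW.IsConstructible Λ E ∧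
      Nonempty ((EtModW.epsPullMod Λ X).obj E ≅ cokernel (mul a M (n + 1))) := by
  obtain ⟨Q, p, hQ, hc, hl⟩ := h
  choose e he using fun n : ℕ => isQuot_unique (hQ n) (isQuot_π a M (n + 1))
  have hp : ∀ {n m : ℕ} (h : n ≤ m), p.app (op m) ≫ tr Q h = p.app (op n) := fun {n m} h => by
    have := p.naturality (homOfLE h).op
    simpa using this.symm
  let α : Q ≅ sys a M := NatIso.ofComponents (fun n => e n.unop) fun {m n} g => by
    obtain ⟨m⟩ := m
    obtain ⟨n⟩ := n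
    have := ARLib.IsQuot.epi (hQ m)
    have hh : n ≤ m := leOfHom g.unop
    refine (cancel_epi (p.app (op m))).1 ?_
    show p.app (op m) ≫ tr Q hh ≫ (e n).hom = p.app (op m) ≫ (e m).hom ≫ tr (sys a M) hh
    rw [reassoc_of% hp hh, he, reassoc_of% he m]
    exact (π_tr a M hh).symm
  refine ⟨?_, fun n => ?_⟩
  · have e1 : limit.lift Q (Cone.mk M p) ≫ limMap α.hom = toLim a M := limit.hom_ext fun ⟨n⟩ => by
      simp only [toLim, Category.assoc, limMap_π, limit.lift_π, limit.lift_π_assoc]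
      exact he n
    haveI : IsIso (limMap α.hom) := inferInstanceAs (IsIso ((lim : (ℕᵒᵖ ⥤ EtModW.ModP Λ X) ⥤ _).map α.hom))
    rw [← e1]
    infer_instance
  · obtain ⟨E, hE, ⟨i⟩⟩ := hc n
    exact ⟨E, hE, ⟨i ≪≫ e n⟩⟩

omit [IsNoetherianRing Λ] [AlgebraicGeometry.IsNoetherian X] in
theorem constr_of_adicP_killed {M : EtModW.ModP Λ X} (h : AdicP (Ideal.span {a}) M) (n : ℕ)
    (hM : mul a M (n + 1) = 0) :
    ∃ E : EtModW.Mod Λ X, EtModW.IsConstructible Λ E ∧ Nonempty ((EtModW.epsPullMod Λ X).obj E ≅ M) := by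
  obtain ⟨E, hE, ⟨e⟩⟩ := (adicP_data a h).2 n
  haveI : IsIso (cokernel.π (mul a M (n + 1))) := by
    rw [hM]
    infer_instance
  exact ⟨E, hE, ⟨e ≪≫ (asIso (cokernel.π (mul a M (n + 1)))).symm⟩⟩

theorem exists_torsion_bound {H : EtModW.ModP Λ X} (hH : AdicP (Ideal.span {a}) H) :
    ∃ c : ℕ, ∀ (T : EtModW.ModP Λ X) (y : T ⟶ H) (k : ℕ), c ≤ k → y ≫ mul a H k = 0 → y ≫ mul a H c = 0 := by
  let Z : ℕ →o Subobject H := ⟨fun k => kernelSubobject (mul a H k), monotone_nat_of_le_succ fun k =>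
    le_kernelSubobject _ _ (by rw [mul_add a H k 1, kernelSubobject_arrow_comp_assoc, zero_comp])⟩
  obtain ⟨c, hc⟩ := adicP_chain_stabilizes hH Z fun k =>
    adicP_of_iso (kernelSubobjectIso (mul a H k)).symm (adicP_kernel_cokernel hH hH (mul a H k)).1
  refine ⟨c, fun T y k hk hy => ?_⟩
  have h1 := hc k hk
  rw [← Subobject.factorThru_arrow (Z k) y (kernelSubobject_factors _ _ hy), Category.assoc]
  have h2 : (Z k).arrow ≫ mul a H c = 0 := by
    rw [h1]
    exact kernelSubobject_arrow_comp _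
  exact (congrArg (_ ≫ ·) h2).trans comp_zero

theorem adicP_extension {S : ShortComplex (EtModW.ModP Λ X)} (hS : S.ShortExact)
    (h₁ : AdicP (Ideal.span {a}) S.X₁) (h₃ : AdicP (Ideal.span {a}) S.X₃) : AdicP (Ideal.span {a}) S.X₂ := by
  obtain ⟨c, hc⟩ := exists_torsion_bound a h₃
  obtain ⟨hl₁, -⟩ := adicP_data a h₁
  obtain ⟨hl₃, hc₃⟩ := adicP_data a h₃
  refine ⟨sys a S.X₂, proj a S.X₂, fun n => isQuot_π a S.X₂ (n + 1), fun n => ?_, isIso_toLim a hS hc hl₁ hl₃⟩
  obtain ⟨δ, ⟨i⟩⟩ := exists_presentation a hS n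
  have hK := (adicP_kernel_cokernel h₃ h₃ (mul a S.X₃ (n + 1))).1
  have hC := (adicP_kernel_cokernel h₁ h₁ (mul a S.X₁ (n + 1))).2
  have hD := adicP_of_iso i (adicP_kernel_cokernel hK hC δ).2
  let g' := (sysMap a S.g).app (op n)
  have hkill : mul a (kernel g') (n + 1) = 0 := by
    rw [← cancel_mono (kernel.ι g'), mul_naturality, zero_comp]
    exact (congrArg (_ ≫ ·) ((killedBy_iff a _ _).1 (isQuot_π a S.X₂ (n + 1)).1)).trans comp_zero
  obtain ⟨E₁, hE₁, ⟨e₁⟩⟩ := constr_of_adicP_killed a hD n hkill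
  obtain ⟨E₃, hE₃, ⟨e₃⟩⟩ := hc₃ n
  have hg' : Epi g' := by
    haveI := hS.epi_g
    have : Epi (cokernel.π (mul a S.X₂ (n + 1)) ≫ g') := by
      rw [π_sysMap a S.g n]
      exact @epi_comp _ _ _ _ _ S.g hS.epi_g _ (ARLib.IsQuot.epi (isQuot_π a S.X₃ (n + 1)))
    exact epi_of_epi (cokernel.π (mul a S.X₂ (n + 1))) g'
  have hT : (ShortComplex.mk (kernel.ι g') g' (kernel.condition g')).ShortExact :=
    { exact := ShortComplex.exact_of_f_is_kernel _ (kernelIsKernel g') }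
  have hiso : IsIso ((epsModAdj Λ X).counit.app (cokernel (mul a S.X₂ (n + 1)))) :=
    essImage_X₂ hT ⟨E₁, ⟨e₁⟩⟩ ⟨E₃, ⟨e₃⟩⟩
  let P := (ProEtS.eps X).sheafPushforwardContinuous (ModuleCat.{u + 1} Λ) X.smallEtaleTopology
    (Scheme.ProEt.topology X)
  haveI := isIso_unit_epsMod E₁
  haveI := isIso_unit_epsMod E₃
  refine ⟨P.obj (cokernel (mul a S.X₂ (n + 1))),
    isConstructible_of_extension (shortExact_map_epsPush hT ⟨E₁, ⟨e₁⟩⟩)
      (isConstructible_of_iso (asIso ((epsModAdj Λ X).unit.app E₁) ≪≫ P.mapIso e₁) hE₁)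
      (isConstructible_of_iso (asIso ((epsModAdj Λ X).unit.app E₃) ≪≫ P.mapIso e₃) hE₃),
    ⟨@asIso _ _ _ _ ((epsModAdj Λ X).counit.app (cokernel (mul a S.X₂ (n + 1)))) hiso⟩⟩

end Groth.Agent.EtModLib
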