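import Groth.Agent.EtFound.NoethCard

/-! etale schemes over maximal points -/

universe u

open CategoryTheory CategoryTheory.Limits AlgebraicGeometry Opposite Topology TopologicalSpace

namespace Groth.Agent.EtModLib

set_option backward.isDefEq.respectTransparency.types false

variable {X : Scheme.{u}}

/-- an etale scheme over a point generic in everything has an open in the closure of one point over it -/
theorem exists_generic_open_of_max [IsLocallyNoetherian X] {t : X} (ht : ∀ y, y ⤳ t → t ⤳ y) (U : X.Etale) {p : U.left}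
    (hp : U.hom.base p = t) :
    ∃ W : U.left.Opens, p ∈ W ∧ ∀ q ∈ W, p ⤳ q := by
  have : IsLocallyNoetherian U.left := by
    let g : U.left ⟶ X := U.hom
    have : AlgebraicGeometry.Etale g := U.prop
    exact LocallyOfFiniteType.isLocallyNoetherian g
  obtain ⟨A, hA, hpA, -⟩ := exists_isAffineOpen_mem_and_subset (U := (⊤ : U.left.Opens)) (x := p) trivial
  haveI : NoetherianSpace ↥A := by
    have : IsNoetherianRing Γ(U.left, A) := IsLocallyNoetherian.component_noetherian ⟨A, hA⟩
    exact noetherianSpace_of_isAffineOpen A hA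
  haveI : QuasiSober ↥A := A.isOpenEmbedding'.quasiSober
  have hZ := irreducibleComponent_mem_irreducibleComponents (⟨p, hpA⟩ : A.toScheme)
  obtain ⟨o, ho, hone, hoZ⟩ := NoetherianSpace.exists_isOpen_nonempty_subset_irreducibleComponent _ hZ
  have hZc : IsClosed (irreducibleComponent (⟨p, hpA⟩ : A.toScheme)) := isClosed_irreducibleComponent
  have hg : IsGenericPoint (hZ.1.genericPoint) (irreducibleComponent (⟨p, hpA⟩ : A.toScheme)) := by
    simpa [hZc.closure_eq] using hZ.1.isGenericPoint_genericPoint_closure
  have hgo : hZ.1.genericPoint ∈ o := (hg.mem_open_set_iff ho).2 (by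
    obtain ⟨q, hq⟩ := hone
    exact ⟨q, hoZ hq, hq⟩)
  let g := A.ι.base hZ.1.genericPoint
  have h1 : g ⤳ p := (hg.specializes mem_irreducibleComponent).map A.ι.continuous
  have hgp : g = p := EtFound.eq_of_specializes U h1
    ((((h1.map U.hom.continuous).trans (specializes_of_eq hp)).antisymm
      (ht _ ((h1.map U.hom.continuous).trans (specializes_of_eq hp)))).eq.trans hp.symm)
  refine ⟨⟨A.ι.base '' o, A.ι.isOpenEmbedding.isOpenMap o ho⟩, ⟨_, hgo, hgp⟩, ?_⟩
  rintro q ⟨a, ha, rfl⟩
  rw [← hgp]
  exact (hg.specializes (hoZ ha)).map A.ι.continuous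

end Groth.Agent.EtModLib
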