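import Groth.Agent.EtModLib.ARConstr
import Groth.Agent.EtFound.PointHom

/-! specialisation of stalk systems of locally constant sheaves of modules -/

universe u

open CategoryTheory CategoryTheory.Limits AlgebraicGeometry Opposite Topology

namespace Groth.Agent.EtModLib

set_option backward.isDefEq.respectTransparency.types false

variable {Λ : Type (u + 1)} [CommRing Λ] {X : Scheme.{u}}

theorem sheafFiber_germ {k k' : Type u} [Field k] [IsSepClosed k] [Field k'] [IsSepClosed k']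
    {η : Spec (CommRingCat.of k) ⟶ X} {η' : Spec (CommRingCat.of k') ⟶ X}
    (φ : Scheme.pointSmallEtale η' ⟶ Scheme.pointSmallEtale η) (F : EtModW.Mod Λ X) {U : X.Etale}
    (u : (Scheme.pointSmallEtale η).fiber.obj U) (s : F.obj.obj (op U)) :
    (GrothendieckTopology.Point.Hom.sheafFiber (A := ModuleCat.{u + 1} Λ) φ).app F (germ F U u s) =
      germ F U (φ.hom.app U u) s := by
  refine (ConcreteCategory.comp_apply _ _ _).symm.trans ?_
  exact ConcreteCategory.congr_hom ((Scheme.pointSmallEtale η).toPresheafFiber_presheafFiberDesc (P := F.obj)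
    (fun W w => (Scheme.pointSmallEtale η').toPresheafFiber W (φ.hom.app W w) F.obj)
    (fun W W' f x => by rw [GrothendieckTopology.Point.toPresheafFiber_w, NatTrans.naturality_apply]) U u) s

/-- morphisms of geometric points induce bijections on stalks of locally constant sheaves -/
theorem isIso_sheafFiber {k k' : Type u} [Field k] [IsAlgClosed k] [Field k'] [IsAlgClosed k']
    {η : Spec (CommRingCat.of k) ⟶ X} {η' : Spec (CommRingCat.of k') ⟶ X}
    (φ : Scheme.pointSmallEtale η' ⟶ Scheme.pointSmallEtale η) {F : EtModW.Mod Λ X} (hF : EtModW.IsFTLocConst Λ F) :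
    IsIso ((GrothendieckTopology.Point.Hom.sheafFiber (A := ModuleCat.{u + 1} Λ) φ).app F) := by
  obtain ⟨U, p, hp, S, -, hS⟩ := (isFTLocConst_iff F).1 hF (η.base default)
  have : AlgebraicGeometry.Etale U.hom := U.prop
  obtain ⟨l, hl, -⟩ := Scheme.exists_fac_of_etale_of_isSepClosed U.hom η p hp
  let u : (Scheme.pointSmallEtale η).fiber.obj U := CategoryTheory.Over.homMk l hl
  rw [ConcreteCategory.isIso_iff_bijective]
  refine (Function.Bijective.of_comp_iff _ (hS k η u)).1 ?_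
  exact Eq.mpr (congrArg Function.Bijective (funext fun s => sheafFiber_germ φ F u s.1)) (hS k' η' (φ.hom.app U u))

variable {F : ℕᵒᵖ ⥤ EtModW.Mod Λ X}

theorem nonempty_iso_of_specializes (hF : ∀ n : ℕ, EtModW.IsFTLocConst Λ (F.obj (op n)))
    {k k' : Type u} [Field k] [IsAlgClosed k] [Field k'] [IsAlgClosed k']
    (η : Spec (CommRingCat.of k) ⟶ X) (η' : Spec (CommRingCat.of k') ⟶ X)
    (h : η'.base (default : Spec (CommRingCat.of k')) ⤳ η.base (default : Spec (CommRingCat.of k))) :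
    Nonempty ((F ⋙ EtModW.stalk Λ η) ≅ (F ⋙ EtModW.stalk Λ η')) := by
  let T : X.Etale := Scheme.Etale.mk (𝟙 X)
  let u : (Scheme.pointSmallEtale η).fiber.obj T := CategoryTheory.Over.homMk η (Category.comp_id _)
  let v : (Scheme.pointSmallEtale η').fiber.obj T := CategoryTheory.Over.homMk η' (Category.comp_id _)
  obtain ⟨φ, -⟩ := EtFound.exists_pointHom η η' (U := T) u v h
  have : ∀ n, IsIso ((GrothendieckTopology.Point.Hom.sheafFiber (A := ModuleCat.{u + 1} Λ) φ).app (F.obj n)) :=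
    fun n => isIso_sheafFiber φ (hF n.unop)
  exact ⟨NatIso.ofComponents (fun n => asIso ((GrothendieckTopology.Point.Hom.sheafFiber φ).app (F.obj n)))
    fun {a b} f => (GrothendieckTopology.Point.Hom.sheafFiber φ).naturality (F.map f)⟩

theorem exists_algClosed_iso {k : Type u} [Field k] [IsSepClosed k] (ξ : Spec (CommRingCat.of k) ⟶ X) :
    ∃ (Ω : Type u) (_ : Field Ω) (_ : IsAlgClosed Ω) (η : Spec (CommRingCat.of Ω) ⟶ X),
      η.base (default : Spec (CommRingCat.of Ω)) = ξ.base (default : Spec (CommRingCat.of k)) ∧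
      Nonempty ((F ⋙ EtModW.stalk Λ ξ) ≅ (F ⋙ EtModW.stalk Λ η)) := by
  let l : Spec (CommRingCat.of (AlgebraicClosure k)) ⟶ Spec (CommRingCat.of k) :=
    Spec.map (CommRingCat.ofHom (algebraMap k (AlgebraicClosure k)))
  refine ⟨_, inferInstance, inferInstance, l ≫ ξ, ?_, ⟨Functor.isoWhiskerLeft F (EtFound.stalkExtIso (ModuleCat.{u + 1} Λ) ξ l)⟩⟩
  rw [Scheme.Hom.comp_apply]
  exact congrArg ξ.base (Subsingleton.elim (α := Spec (CommRingCat.of k)) _ _)

/-- on a connected Noetherian scheme all stalk systems are isomorphic -/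
theorem nonempty_stalkSystem_iso [IsNoetherian X] [ConnectedSpace X]
    (hF : ∀ n : ℕ, EtModW.IsFTLocConst Λ (F.obj (op n)))
    {Ω : Type u} [Field Ω] [IsSepClosed Ω] (s : Spec (CommRingCat.of Ω) ⟶ X)
    {Ω' : Type u} [Field Ω'] [IsSepClosed Ω'] (s' : Spec (CommRingCat.of Ω') ⟶ X) :
    Nonempty ((F ⋙ EtModW.stalk Λ s) ≅ (F ⋙ EtModW.stalk Λ s')) := by
  obtain ⟨k, _, _, η, hη, ⟨e⟩⟩ := exists_algClosed_iso (F := F) s
  obtain ⟨k', _, _, η', hη', ⟨e'⟩⟩ := exists_algClosed_iso (F := F) s'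
  let C : Set X := {x | ∀ (K : Type u) [Field K] [IsAlgClosed K] (ζ : Spec (CommRingCat.of K) ⟶ X),
    ζ.base (default : Spec (CommRingCat.of K)) = x → Nonempty ((F ⋙ EtModW.stalk Λ η) ≅ (F ⋙ EtModW.stalk Λ ζ))}
  have hmem : η.base (default : Spec (CommRingCat.of k)) ∈ C := fun K _ _ ζ hζ =>
    nonempty_iso_of_specializes hF η ζ (specializes_of_eq hζ)
  have hst : ∀ {x y : X}, y ⤳ x → (x ∈ C ↔ y ∈ C) := fun {x y} h => by
    refine ⟨fun hx K _ _ ζ hζ => ?_, fun hy K _ _ ζ hζ => ?_⟩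
    · obtain ⟨K', _, _, ζ', hζ'⟩ := EtFound.exists_geomPoint x
      obtain ⟨a⟩ := hx K' ζ' hζ'
      obtain ⟨b⟩ := nonempty_iso_of_specializes hF ζ' ζ (hζ' ▸ hζ ▸ h)
      exact ⟨a ≪≫ b⟩
    · obtain ⟨K', _, _, ζ', hζ'⟩ := EtFound.exists_geomPoint y
      obtain ⟨a⟩ := hy K' ζ' hζ'
      obtain ⟨b⟩ := nonempty_iso_of_specializes hF ζ ζ' (hζ' ▸ hζ ▸ h)
      exact ⟨a ≪≫ b.symm⟩
  have hirr : ∀ Z ∈ irreducibleComponents X, (Z ∩ C).Nonempty → Z ⊆ C := fun Z hZ ⟨x, hxZ, hxC⟩ y hy => by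
    obtain ⟨g, hg⟩ := QuasiSober.sober hZ.1 (isClosed_of_mem_irreducibleComponents Z hZ)
    exact (hst (hg.specializes hy)).2 ((hst (hg.specializes hxZ)).1 hxC)
  have hclosed : ∀ D : Set X, (∀ Z ∈ irreducibleComponents X, (Z ∩ D).Nonempty → Z ⊆ D) → IsClosed D := fun D hD => by
    have e : D = ⋃ Z ∈ {Z ∈ irreducibleComponents X | (Z ∩ D).Nonempty}, Z := by
      refine Set.Subset.antisymm (fun x hx => Set.mem_biUnion
        (show irreducibleComponent x ∈ _ from ⟨irreducibleComponent_mem_irreducibleComponents x, x, mem_irreducibleComponent, hx⟩)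
        mem_irreducibleComponent) (Set.iUnion₂_subset fun Z hZ => hD Z hZ.1 hZ.2)
    rw [e]
    exact (TopologicalSpace.NoetherianSpace.finite_irreducibleComponents.subset fun Z hZ => hZ.1).isClosed_biUnion
      fun Z hZ => isClosed_of_mem_irreducibleComponents Z hZ.1
  have hopen : IsOpen C := isClosed_compl_iff.1 (hclosed Cᶜ fun Z hZ ⟨x, hxZ, hxC⟩ y hy hyC =>
    hxC (hirr Z hZ ⟨y, hy, hyC⟩ hxZ))
  have huniv : C = Set.univ := IsClopen.eq_univ ⟨hclosed C hirr, hopen⟩ ⟨_, hmem⟩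
  obtain ⟨a⟩ := (huniv.ge (Set.mem_univ (η'.base (default : Spec (CommRingCat.of k'))))) k' η' rfl
  exact ⟨e ≪≫ a ≪≫ e'.symm⟩

end Groth.Agent.EtModLib
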