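import Groth.Agent.EtModLib.Noeth
import Groth.Agent.EtFound.PointHom
import Groth.Agent.EtModLib.Specialise
import Groth.Agent.EtModLib.MaxPoint

/-! constructible sheaves of modules near a generic point -/

universe u

open CategoryTheory CategoryTheory.Limits AlgebraicGeometry Opposite Topology

namespace Groth.Agent.EtModLib

set_option backward.isDefEq.respectTransparency.types false

variable {Λ : Type (u + 1)} [CommRing Λ] {X : Scheme.{u}}

theorem exists_sections_lift (F : EtModW.Mod Λ X) {Ω : Type u} [Field Ω] [IsSepClosed Ω]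
    (η : Spec (CommRingCat.of Ω) ⟶ X) {κ : Type*} (S : Finset κ) (c : κ → (EtModW.stalk Λ η).obj F) :
    ∃ (V : X.Etale) (v : (Scheme.pointSmallEtale η).fiber.obj V), ∀ k ∈ S, ∃ e, germ F V v e = c k := by
  classical
  induction S using Finset.induction with
  | empty =>
    exact ⟨Scheme.Etale.mk (𝟙 X), CategoryTheory.Over.homMk η (Category.comp_id _), fun k hk => absurd hk (Finset.notMem_empty k)⟩
  | @insert k S _ ih =>
    obtain ⟨V, v, h⟩ := ih
    obtain ⟨W, w, e, he⟩ := (Scheme.pointSmallEtale η).toPresheafFiber_jointly_surjective (c k)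
    obtain ⟨⟨T, z⟩, ⟨a, ha⟩, ⟨b, hb⟩, -⟩ := IsCofilteredOrEmpty.cone_objs
      ((Scheme.pointSmallEtale η).fiber.elementsMk V v) ((Scheme.pointSmallEtale η).fiber.elementsMk W w)
    refine ⟨T, z, fun l hl => ?_⟩
    rcases Finset.mem_insert.1 hl with rfl | hl
    · exact ⟨F.obj.map b.op e, (germ_res F b z e).trans ((congrArg (fun w' => germ F W w' e) hb).trans he)⟩
    · obtain ⟨e', he'⟩ := h l hl
      exact ⟨F.obj.map a.op e', (germ_res F a z e').trans ((congrArg (fun w' => germ F V w' e') ha).trans he')⟩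

/-- near a generic point a constructible sheaf is constant -/
theorem exists_fgConst_generic [IsNoetherianRing Λ] [IsLocallyNoetherian X] {t : X} (ht : ∀ y, y ⤳ t → t ⤳ y)
    {F : EtModW.Mod Λ X} (hF : EtModW.IsConstructible Λ F) :
    ∃ (U : X.Etale) (p : U.left), U.hom.base p = t ∧ ∃ S, FGConst F U S := by
  classical
  obtain ⟨O, htO, hO⟩ : ∃ O : X.Opens, t ∈ O ∧ ∀ q ∈ O, t ⤳ q :=
    exists_generic_open_of_max ht (Scheme.Etale.mk (𝟙 X)) (p := t) rfl
  obtain ⟨V₀, htV', hpiece⟩ := exists_generic_piece hF t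
  have hopen : IsOpen ((V₀ : Set X) ∩ closure {t} ∩ (O : Set X)) := by
    rw [Set.inter_assoc, Set.inter_eq_right.2 fun y hy => specializes_iff_mem_closure.1 (hO y hy)]
    exact V₀.2.inter O.2
  obtain ⟨T, g, hg, hr, hT⟩ := hpiece.mono Set.inter_subset_left hopen.isLocallyClosed
  have hrange : IsOpen (Set.range g.base) := hr ▸ hopen
  obtain ⟨t', ht'⟩ : t ∈ Set.range g.base := hr.ge ⟨⟨htV', subset_closure rfl⟩, htO⟩
  obtain ⟨U', p', hp', S', hS'⟩ := (isFTLocConst_iff _).1 hT t'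
  obtain ⟨Ω, _, _, ξ, u', hu'⟩ := EtFound.exists_algClosed_point U' p'
  obtain ⟨r, s', hs'⟩ := Submodule.fg_iff_exists_fin_generating_family.1 hS'.1
  let i := (stalkPullIso g ξ).app F
  obtain ⟨V, v, hlift⟩ := exists_sections_lift F (ξ ≫ g) Finset.univ
    (fun j => i.hom (germ ((EtModW.pull Λ g).obj F) U' u' (s' j)))
  choose s hs using fun j => hlift j (Finset.mem_univ j)
  let φ₀ : (Fin r → Λ) →ₗ[Λ] F.obj.obj (op V) := Fintype.linearCombination Λ s
  -- kill the relations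
  obtain ⟨gens, hgens⟩ := IsNoetherian.noetherian (LinearMap.ker ((germ F V v) ∘ₗ φ₀))
  obtain ⟨V₁, g₁, v₁, hv₁, hkill⟩ := EtFound.exists_forall_eq F.obj v (fun c : gens => φ₀ c.1) (fun _ => 0) fun c => by
    refine Eq.trans ?_ (map_zero _).symm
    exact hgens.le (Submodule.subset_span c.2)
  -- shrink to the generisations
  let p₁ : V₁.left := EtFound.ptOf v₁
  have hp₁ : V₁.hom.base p₁ = t := by
    refine (EtFound.hom_ptOf v₁).trans ((Scheme.Hom.comp_apply _ _ _).trans ?_)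
    rw [← ht', ← hp', ← hu']
    exact congrArg g.base (EtFound.base_of_point u').symm
  obtain ⟨W, hpW, hW⟩ := exists_generic_open_of_max ht V₁ hp₁
  have : AlgebraicGeometry.Etale V₁.hom := V₁.prop
  let V₂ : X.Etale := Scheme.Etale.mk (W.ι ≫ V₁.hom)
  let g₂ : V₂ ⟶ V₁ := MorphismProperty.Over.homMk W.ι rfl
  obtain ⟨v₂, hv₂, hptv₂⟩ := EtFound.exists_lift_point g₂ v₁ (⟨p₁, hpW⟩ : W.toScheme) rfl
  let φ₂ : (Fin r → Λ) →ₗ[Λ] F.obj.obj (op V₂) := (F.obj.map (g₂ ≫ g₁).op).hom ∘ₗ φ₀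
  have hker : ∀ c, germ F V v (φ₀ c) = 0 → φ₂ c = 0 := by
    suffices LinearMap.ker ((germ F V v) ∘ₗ φ₀) ≤ LinearMap.ker φ₂ from fun c hc => this hc
    rw [← hgens, Submodule.span_le]
    intro c hc
    show F.obj.map (g₂ ≫ g₁).op (φ₀ c) = 0
    rw [op_comp, Functor.map_comp_apply, show F.obj.map g₁.op (φ₀ c) = F.obj.map g₁.op 0 from hkill ⟨c, hc⟩,
      map_zero, map_zero]
  have hgerm₂ : ∀ c, germ F V₂ v₂ (φ₂ c) = germ F V v (φ₀ c) := fun c => by
    refine (germ_res F (g₂ ≫ g₁) v₂ _).trans ?_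
    rw [Functor.map_comp_apply, hv₂, hv₁]
  -- compare with the constant sections on the piece
  let G := (EtModW.pull Λ g).obj F
  let τ := (EtFound.bcFiberEquiv g ξ V₂).symm v₂
  let un := ((pullPushAdj (Λ := Λ) g).unit.app F).hom.app (op V₂)
  have hun : ∀ {k : Type u} [Field k] [IsSepClosed k] (ζ : Spec (CommRingCat.of k) ⟶ T)
      (z : (Scheme.pointSmallEtale (ζ ≫ g)).fiber.obj V₂) (c : Fin r → Λ),
      germ G ((EtCoh.bc g).obj V₂) ((EtFound.bcFiberEquiv g ζ V₂).symm z) (un (φ₂ c)) =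
        ((stalkPullIso g ζ).app F).inv (germ F V₂ z (φ₂ c)) := fun {k} _ _ ζ z c => by
    have e := ConcreteCategory.congr_hom (EtFound.sheafFiberPullIso_germ g ζ F V₂ ((EtFound.bcFiberEquiv g ζ V₂).symm z)) (φ₂ c)
    rw [(EtFound.bcFiberEquiv g ζ V₂).apply_symm_apply z] at e
    exact e.symm
  let φ' : (Fin r → Λ) →ₗ[Λ] G.obj.obj (op U') := Fintype.linearCombination Λ s'
  have hagree : ∀ c, germ G ((EtCoh.bc g).obj V₂) τ (un (φ₂ c)) = germ G U' u' (φ' c) := fun c => by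
    rw [hun ξ v₂ c, hgerm₂]
    simp only [φ₀, φ', Fintype.linearCombination_apply, map_sum, map_smul]
    refine Finset.sum_congr rfl fun j _ => ?_
    rw [hs j]
    exact congrArg _ (i.hom_inv_id_apply _)
  obtain ⟨⟨U₁, w₁⟩, ⟨a, ha⟩, ⟨b, hb⟩, -⟩ := IsCofilteredOrEmpty.cone_objs
    ((Scheme.pointSmallEtale ξ).fiber.elementsMk ((EtCoh.bc g).obj V₂) τ)
    ((Scheme.pointSmallEtale ξ).fiber.elementsMk U' u')
  obtain ⟨U₂, g₃, w₂, hw₂, heq⟩ := EtFound.exists_forall_eq G.obj w₁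
    (fun j : Fin r => G.obj.map a.op (un (φ₂ (Pi.single j 1))))
    (fun j => G.obj.map b.op (φ' (Pi.single j 1))) fun j => by
      refine (germ_res G a w₁ _).trans ((?_ : _ = _).trans (germ_res G b w₁ _).symm)
      exact (congrArg (fun w => germ G _ w _) ha).trans ((hagree _).trans (congrArg (fun w => germ G _ w _) hb).symm)
  let R₁ : (Fin r → Λ) →ₗ[Λ] G.obj.obj (op U₂) := (G.obj.map (g₃ ≫ a).op).hom ∘ₗ un.hom ∘ₗ φ₂
  let R₂ : (Fin r → Λ) →ₗ[Λ] G.obj.obj (op U₂) := (G.obj.map (g₃ ≫ b).op).hom ∘ₗ φ'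
  have hR : R₁ = R₂ := (Pi.basisFun Λ (Fin r)).ext fun j => by
    rw [Pi.basisFun_apply]
    show G.obj.map (g₃ ≫ a).op (un (φ₂ _)) = G.obj.map (g₃ ≫ b).op (φ' _)
    rw [op_comp, op_comp, Functor.map_comp_apply, Functor.map_comp_apply]
    exact heq j
  -- the open locus
  let fst : ((EtCoh.bc g).obj V₂).left ⟶ V₂.left := pullback.fst V₂.hom g
  have himm : IsImmersion fst := MorphismProperty.pullback_fst _ _ hg
  have hfst : IsOpenEmbedding fst.base := by
    refine ⟨fst.isEmbedding, ?_⟩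
    rw [show Set.range fst.base = V₂.hom.base ⁻¹' Set.range g.base from Scheme.Pullback.range_fst V₂.hom g]
    exact hrange.preimage V₂.hom.continuous
  let c₂ := g₃ ≫ a
  have : AlgebraicGeometry.Etale c₂.left := EtFound.etale_left c₂
  let A : V₂.left.Opens := ⟨fst.base '' Set.range c₂.left.base, hfst.isOpenMap _ c₂.left.isOpenMap.isOpen_range⟩
  have hτ : fst.base (EtFound.ptOf τ) = EtFound.ptOf v₂ := by
    have e : ((EtFound.bcFiberEquiv g ξ V₂ τ).left : Spec (CommRingCat.of Ω) ⟶ V₂.left) = v₂.left :=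
      congrArg CategoryTheory.CommaMorphism.left ((EtFound.bcFiberEquiv g ξ V₂).apply_symm_apply v₂)
    exact (Scheme.Hom.comp_apply _ _ _).symm.trans (congrArg (fun q : Spec (CommRingCat.of Ω) ⟶ V₂.left =>
      q.base (default : Spec (CommRingCat.of Ω))) e)
  have hA : EtFound.ptOf v₂ ∈ A := by
    refine ⟨EtFound.ptOf τ, ⟨EtFound.ptOf w₂, ?_⟩, hτ⟩
    refine (EtFound.ptOf_map c₂ w₂).symm.trans (congrArg EtFound.ptOf ?_)
    rw [Functor.map_comp_apply, hw₂]
    exact ha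
  have : AlgebraicGeometry.Etale V₂.hom := V₂.prop
  let V₃ : X.Etale := Scheme.Etale.mk (A.ι ≫ V₂.hom)
  let g₄ : V₃ ⟶ V₂ := MorphismProperty.Over.homMk A.ι rfl
  let φ₃ : (Fin r → Λ) →ₗ[Λ] F.obj.obj (op V₃) := (F.obj.map g₄.op).hom ∘ₗ φ₂
  have hsurj : ∀ {L : Type u} [Field L] [IsAlgClosed L] (ζ' : Spec (CommRingCat.of L) ⟶ T)
      (ze : (Scheme.pointSmallEtale (ζ' ≫ g)).fiber.obj V₂), EtFound.ptOf ze ∈ A →
      ∀ x, ∃ c, germ F V₂ ze (φ₂ c) = x := fun {L} _ _ ζ' ze hze x => by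
    obtain ⟨y, ⟨q, hq⟩, hy⟩ := hze
    have e : ((EtFound.bcFiberEquiv g ζ' V₂ ((EtFound.bcFiberEquiv g ζ' V₂).symm ze)).left :
        Spec (CommRingCat.of L) ⟶ V₂.left) = ze.left :=
      congrArg CategoryTheory.CommaMorphism.left ((EtFound.bcFiberEquiv g ζ' V₂).apply_symm_apply ze)
    have hy' : EtFound.ptOf ((EtFound.bcFiberEquiv g ζ' V₂).symm ze) = y := by
      refine hfst.injective (Eq.trans ?_ hy.symm)
      exact (Scheme.Hom.comp_apply _ _ _).symm.trans (congrArg (fun q : Spec (CommRingCat.of L) ⟶ V₂.left =>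
        q.base (default : Spec (CommRingCat.of L))) e)
    obtain ⟨z'', hz'', -⟩ := EtFound.exists_lift_point c₂ ((EtFound.bcFiberEquiv g ζ' V₂).symm ze) q (hq.trans hy'.symm)
    obtain ⟨⟨_, y', hy'', rfl⟩, hyx⟩ := ((hS'.restrict (g₃ ≫ b)).2 L ζ' z'').2 (((stalkPullIso g ζ').app F).inv x)
    rw [← hs'] at hy''
    obtain ⟨c, rfl⟩ := (Submodule.mem_span_range_iff_exists_fun Λ).1 hy''
    refine ⟨c, ((stalkPullIso g ζ').app F).toLinearEquiv.symm.injective ?_⟩
    refine (hun ζ' ze c).symm.trans ?_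
    rw [← hz'']
    refine (germ_res G c₂ z'' _).symm.trans ?_
    refine Eq.trans ?_ hyx
    show germ G U₂ z'' (R₁ c) = _
    rw [hR]
    rfl
  refine ⟨V₃, (⟨EtFound.ptOf v₂, hA⟩ : A.toScheme), ?_, LinearMap.range φ₃, ?_, fun L _ _ ζ z => ?_⟩
  · refine (Scheme.Hom.comp_apply _ _ _).trans ?_
    refine (congrArg V₂.hom.base hptv₂).trans ?_
    exact (Scheme.Hom.comp_apply _ _ _).trans hp₁
  · rw [LinearMap.range_eq_map]
    exact Module.Finite.fg_top.map _
  let z₂ := (Scheme.pointSmallEtale ζ).fiber.map g₄ z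
  have hz₂ : EtFound.ptOf z₂ ∈ A := by
    rw [EtFound.ptOf_map]
    exact (EtFound.ptOf z).2
  have hg₃ : ∀ c, germ F V₃ z (φ₃ c) = germ F V₂ z₂ (φ₂ c) := fun c => germ_res F g₄ z _
  constructor
  · rintro ⟨_, c, rfl⟩ ⟨_, c', rfl⟩ e
    refine Subtype.ext (sub_eq_zero.1 ?_)
    show φ₃ c - φ₃ c' = 0
    have h0 : germ F V₂ z₂ (φ₂ (c - c')) = 0 := by
      rw [← hg₃, map_sub, map_sub, sub_eq_zero]
      exact e
    have h1 : germ F V₂ v₂ (φ₂ (c - c')) = 0 := by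
      refine germ_eq_zero_of_specializes _ v₂ z₂ ?_ h0
      refine (specializes_of_eq hptv₂).trans ?_
      exact W.ι.isOpenEmbedding.isInducing.specializes_iff.1 (hW _ (Subtype.prop _))
    rw [← map_sub, show φ₃ (c - c') = F.obj.map g₄.op (φ₂ (c - c')) from rfl, hker _ (by rwa [← hgerm₂]), map_zero]
  · intro x
    have hζ : ζ.base (default : Spec (CommRingCat.of L)) ∈ Set.range g.base := by
      obtain ⟨y, -, hy⟩ := hz₂
      refine ⟨(pullback.snd V₂.hom g).base y, ?_⟩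
      rw [← EtFound.hom_ptOf z₂, ← hy, ← Scheme.Hom.comp_apply, ← Scheme.Hom.comp_apply]
      exact congrArg (fun q : _ ⟶ X => q.base y) pullback.condition.symm
    obtain ⟨K, _, _, ζ₀, e₀, he₀⟩ := EtFound.exists_lift_extension g ζ hζ
    let l : Spec (CommRingCat.of (AlgebraicClosure K)) ⟶ Spec (CommRingCat.of K) :=
      Spec.map (CommRingCat.ofHom (algebraMap K (AlgebraicClosure K)))
    have he : (l ≫ e₀) ≫ ζ = (l ≫ ζ₀) ≫ g := by rw [Category.assoc, he₀, Category.assoc]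
    let ext := EtFound.pointExtIso ζ (l ≫ e₀)
    have key : ∀ (ζe : Spec (CommRingCat.of (AlgebraicClosure K)) ⟶ X), ζe = (l ≫ ζ₀) ≫ g →
        ∀ ze : (Scheme.pointSmallEtale ζe).fiber.obj V₂, EtFound.ptOf ze ∈ A →
          ∀ y, ∃ c, germ F V₂ ze (φ₂ c) = y := fun ζe h => by
      subst h
      exact hsurj (l ≫ ζ₀)
    have hpt : EtFound.ptOf (ext.hom.hom.app V₂ z₂) ∈ A :=
      (EtFound.ptOf_specializes ext.hom z₂).mem_open A.2 hz₂
    let E := (EtFound.stalkExtIso (ModuleCat.{u + 1} Λ) ζ (l ≫ e₀)).app F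
    obtain ⟨c, hc⟩ := key _ he (ext.hom.hom.app V₂ z₂) hpt (E.hom x)
    refine ⟨⟨φ₃ c, c, rfl⟩, E.toLinearEquiv.injective ?_⟩
    show E.hom (germ F V₃ z (φ₃ c)) = E.hom x
    rw [hg₃, ← hc]
    exact sheafFiber_germ ext.hom F z₂ _

end Groth.Agent.EtModLib
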