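import Mathlib.RingTheory.Polynomial.Basic
import Mathlib.RingTheory.Finiteness.Lattice
import Mathlib.Algebra.DirectSum.Module
import Mathlib.Algebra.Algebra.Subalgebra.Lattice

/-! relations in graded modules generated in degree zero by commuting operators -/

universe w v v'

open DirectSum

namespace Groth.Agent.EtModLib.GradedRel

variable {Λ : Type w} [CommRing Λ] {P : ℕ → Type v} [∀ q, AddCommGroup (P q)] [∀ q, Module Λ (P q)]
  {P' : ℕ → Type v'} [∀ q, AddCommGroup (P' q)] [∀ q, Module Λ (P' q)] {d r : ℕ}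
  (m : Fin d → ∀ q, P q →ₗ[Λ] P (q + 1)) (m' : Fin d → ∀ q, P' q →ₗ[Λ] P' (q + 1))

/-- the operators commute -/
def Commutes : Prop := ∀ i j q (x : P q), m j (q + 1) (m i q x) = m i (q + 1) (m j q x)

/-- an operator on the sum of all degrees -/
noncomputable def shiftOp (i : Fin d) : Module.End Λ (⨁ q, P q) :=
  DirectSum.toModule Λ ℕ _ fun q => DirectSum.lof Λ ℕ P (q + 1) ∘ₗ m i q

theorem shiftOp_lof (i : Fin d) (q : ℕ) (x : P q) :
    shiftOp m i (DirectSum.lof Λ ℕ P q x) = DirectSum.lof Λ ℕ P (q + 1) (m i q x) := by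
  simp [shiftOp]

variable {m} {m'} (hm : Commutes m) (hm' : Commutes m')

open scoped IsMulCommutative in
/-- the action of polynomials -/
noncomputable def act : MvPolynomial (Fin d) Λ →ₐ[Λ] Module.End Λ (⨁ q, P q) :=
  haveI : IsMulCommutative (Algebra.adjoin Λ (Set.range (shiftOp m))) := Algebra.isMulCommutative_adjoin Λ (by
    rintro _ ⟨i, rfl⟩ _ ⟨j, rfl⟩
    refine DirectSum.linearMap_ext Λ fun q => LinearMap.ext fun x => ?_
    simp only [LinearMap.comp_apply, Module.End.mul_apply, shiftOp_lof]
    rw [hm j i q x])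
  (Algebra.adjoin Λ (Set.range (shiftOp m))).val.comp
    (MvPolynomial.aeval fun i => ⟨shiftOp m i, Algebra.subset_adjoin ⟨i, rfl⟩⟩)

theorem act_X (i : Fin d) : act hm (MvPolynomial.X i) = shiftOp m i := by simp [act]

variable (g : ∀ q, P q →ₗ[Λ] P' q) (hg : ∀ i q x, g (q + 1) (m i q x) = m' i q (g q x))

include hg in
theorem act_natural (c : MvPolynomial (Fin d) Λ) (x : ⨁ q, P q) :
    DirectSum.lmap g (act hm c x) = act hm' c (DirectSum.lmap g x) := by
  induction c using MvPolynomial.induction_on generalizing x with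
  | C a => simp [← MvPolynomial.algebraMap_eq, map_smul]
  | add p q hp hq => simp [hp, hq]
  | mul_X p i hp =>
    have hX : ∀ y, DirectSum.lmap g (shiftOp m i y) = shiftOp m' i (DirectSum.lmap g y) := fun y => by
      induction y using DirectSum.induction_on with
      | zero => simp
      | of q z =>
        rw [← DirectSum.lof_eq_of Λ, shiftOp_lof, DirectSum.lmap_lof, DirectSum.lmap_lof, shiftOp_lof, hg]
      | add a b ha hb => rw [map_add, map_add, ha, hb, map_add, map_add]
    simp [act_X, hp, hX]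

variable (s : Fin r → P 0)

/-- the map from polynomial combinations of the generators -/
noncomputable def rel : (Fin r → MvPolynomial (Fin d) Λ) →ₗ[Λ] ⨁ q, P q :=
  ∑ j, (LinearMap.applyₗ (DirectSum.lof Λ ℕ P 0 (s j))) ∘ₗ (act hm).toLinearMap ∘ₗ LinearMap.proj j

theorem rel_apply (c : Fin r → MvPolynomial (Fin d) Λ) :
    rel hm s c = ∑ j, act hm (c j) (DirectSum.lof Λ ℕ P 0 (s j)) := by
  simp [rel]

theorem rel_smul (a : MvPolynomial (Fin d) Λ) (c : Fin r → MvPolynomial (Fin d) Λ) :
    rel hm s (a • c) = act hm a (rel hm s c) := by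
  simp [rel_apply, map_sum]

include hg in
theorem rel_natural (c : Fin r → MvPolynomial (Fin d) Λ) :
    DirectSum.lmap g (rel hm s c) = rel hm' (fun j => g 0 (s j)) c := by
  simp [rel_apply, map_sum, act_natural hm hm' g hg]

/-- the relations, as a module over polynomials -/
noncomputable def relKer : Submodule (MvPolynomial (Fin d) Λ) (Fin r → MvPolynomial (Fin d) Λ) where
  carrier := {c | rel hm s c = 0}
  add_mem' {a b} ha hb := by simp only [Set.mem_setOf_eq] at *; rw [map_add, ha, hb, add_zero]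
  zero_mem' := map_zero _
  smul_mem' a c hc := by simp only [Set.mem_setOf_eq] at *; rw [rel_smul, hc, map_zero]

theorem mem_relKer {c : Fin r → MvPolynomial (Fin d) Λ} : c ∈ relKer hm s ↔ rel hm s c = 0 := Iff.rfl

variable (m) in
/-- what the generators generate in each degree -/
noncomputable def gen : ∀ q, Submodule Λ (P q)
  | 0 => Submodule.span Λ (Set.range s)
  | q + 1 => ⨆ i, (gen q).map (m i q)

theorem gen_fg (q : ℕ) : (gen m s q).FG := by
  induction q with
  | zero => exact Submodule.fg_span (Set.finite_range s)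
  | succ q ih => exact Submodule.fg_iSup _ fun i => ih.map _

include hg in
theorem map_gen (q : ℕ) : (gen m s q).map (g q) = gen m' (fun j => g 0 (s j)) q := by
  induction q with
  | zero => rw [gen, gen, Submodule.map_span, ← Set.range_comp]; rfl
  | succ q ih =>
    rw [gen, gen, Submodule.map_iSup]
    refine iSup_congr fun i => ?_
    rw [← ih, ← Submodule.map_comp, ← Submodule.map_comp]
    exact congrArg (fun f => Submodule.map f _) (LinearMap.ext (hg i q))

include hm in
theorem gen_le_range (q : ℕ) : (gen m s q).map (DirectSum.lof Λ ℕ P q) ≤ LinearMap.range (rel hm s) := by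
  induction q with
  | zero =>
    rw [gen, Submodule.map_span, Submodule.span_le]
    rintro _ ⟨_, ⟨j, rfl⟩, rfl⟩
    exact ⟨Pi.single j 1, by simp [rel_apply, Pi.single_apply, ite_apply, apply_ite]⟩
  | succ q ih =>
    rw [gen, Submodule.map_iSup]
    refine iSup_le fun i => ?_
    rintro _ ⟨_, ⟨x, hx, rfl⟩, rfl⟩
    obtain ⟨c, hc⟩ := ih ⟨x, hx, rfl⟩
    exact ⟨(MvPolynomial.X i : MvPolynomial (Fin d) Λ) • c, by rw [rel_smul, hc, act_X, shiftOp_lof]⟩

include hm hm' hg in
theorem eq_zero_of_relKer_le (h : relKer hm' (fun j => g 0 (s j)) ≤ relKer hm s) {q : ℕ} {x : P q}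
    (hx : x ∈ gen m s q) (h0 : g q x = 0) : x = 0 := by
  obtain ⟨c, hc⟩ := gen_le_range hm s q ⟨x, hx, rfl⟩
  have h1 : c ∈ relKer hm' (fun j => g 0 (s j)) := by
    rw [mem_relKer, ← rel_natural hm hm' g hg s, hc, DirectSum.lmap_lof, h0, map_zero]
  have h2 : DirectSum.lof Λ ℕ P q x = 0 := hc.symm.trans (h h1)
  simpa using congrArg (DirectSum.component Λ ℕ P q) h2

end Groth.Agent.EtModLib.GradedRel
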