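import Groth.Agent.EtModLib.ARConstr
import Groth.Agent.EtModLib.GradedRel
import Groth.Agent.EtModLib.GenericLisse
import Groth.Agent.ARLib.AdicOps

/-! uniform local constancy of adic systems near a generic point -/

universe u

open CategoryTheory CategoryTheory.Limits AlgebraicGeometry Opposite ARSys Topology DirectSum

namespace Groth.Agent.EtModLib

set_option backward.isDefEq.respectTransparency.types false

variable {Λ : Type (u + 1)} [CommRing Λ]

/-- in an adic system of modules, the powers of the ideal are generated from degree zero -/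
theorem pow_smul_top_le_gen {I : Ideal Λ} {P : PS (ModuleCat.{u + 1} Λ)} {d r : ℕ}
    {a : Fin d → Λ} (ha : I ≤ Ideal.span (Set.range a))
    (m : Fin d → ∀ q, (P.obj (op q)) →ₗ[Λ] (P.obj (op (q + 1))))
    (hm : ∀ i q x, m i q (tr P (Nat.le_succ q) x) = a i • x)
    (s : Fin r → P.obj (op 0)) (hs : Submodule.span Λ (Set.range s) = ⊤) (q : ℕ) :
    I ^ q • (⊤ : Submodule Λ (P.obj (op q))) ≤
      GradedRel.gen (P := fun n => (P.obj (op n) : Type (u + 1))) m s q := by
  induction q with
  | zero => rw [GradedRel.gen, hs]; exact le_top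
  | succ q ih =>
    rw [pow_succ', ← smul_eq_mul, Submodule.smul_assoc]
    refine Submodule.smul_le.2 fun c hc y hy => ?_
    have hy' : tr P (Nat.le_succ q) y ∈ I ^ q • (⊤ : Submodule Λ (P.obj (op q))) := by
      have := Submodule.mem_map_of_mem (f := (tr P (Nat.le_succ q)).hom) hy
      rw [Submodule.map_smul''] at this
      exact Submodule.smul_mono le_rfl le_top this
    have hc' := ha hc
    clear hc
    induction hc' using Submodule.span_induction with
    | mem x hx =>
      obtain ⟨i, rfl⟩ := hx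
      exact Submodule.mem_iSup_of_mem i ⟨_, ih hy', hm i q y⟩
    | zero => rw [zero_smul]; exact zero_mem _
    | add x z _ _ hx hz => rw [add_smul]; exact add_mem hx hz
    | smul c x _ hx => rw [smul_assoc]; exact Submodule.smul_mem _ _ hx

/-- kernels of the transition maps of adic systems of modules -/
theorem ker_tr_le {I : Ideal Λ} {P : PS (ModuleCat.{u + 1} Λ)} (hP : IsAdic I P) (q : ℕ) :
    LinearMap.ker (tr P (Nat.le_succ q)).hom ≤ I ^ (q + 1) • (⊤ : Submodule Λ (P.obj (op (q + 1)))) := fun x hx => by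
  let N := I ^ (q + 1) • (⊤ : Submodule Λ (P.obj (op (q + 1))))
  obtain ⟨ψ, hψ, -⟩ := (hP.2 q (q + 1) (Nat.le_succ q)).2 (ModuleCat.of Λ (_ ⧸ N)) (ModuleCat.ofHom N.mkQ) fun c hc => by
    refine ModuleCat.hom_ext (LinearMap.ext fun y => ?_)
    show c • N.mkQ y = 0
    rw [← map_smul]
    exact (Submodule.Quotient.mk_eq_zero N).2 (Submodule.smul_mem_smul hc trivial)
  refine (Submodule.Quotient.mk_eq_zero N).1 ?_
  have h := congr($hψ x)
  refine Eq.trans h.symm ?_
  show ψ (tr P (Nat.le_succ q) x) = 0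
  rw [show tr P (Nat.le_succ q) x = 0 from hx, map_zero]

variable {X : Scheme.{u}}

theorem exists_vanish {U : X.Etale} {Ω : Type u} [Field Ω] [IsSepClosed Ω] {ξ : Spec (CommRingCat.of Ω) ⟶ X}
    (u : (Scheme.pointSmallEtale ξ).fiber.obj U) {κ : Type*} (S : Finset κ) (R : κ → EtModW.Mod Λ X)
    (s : ∀ k, (R k).obj.obj (op U)) (h : ∀ k ∈ S, germ (R k) U u (s k) = 0) :
    ∃ (V : X.Etale) (g : V ⟶ U) (v : (Scheme.pointSmallEtale ξ).fiber.obj V),
      (Scheme.pointSmallEtale ξ).fiber.map g v = u ∧ ∀ k ∈ S, (R k).obj.map g.op (s k) = 0 := by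
  classical
  induction S using Finset.induction with
  | empty => exact ⟨U, 𝟙 U, u, by simp, fun k hk => absurd hk (Finset.notMem_empty k)⟩
  | @insert k S _ ih =>
    obtain ⟨V, g, v, hv, hg⟩ := ih fun l hl => h l (Finset.mem_insert_of_mem hl)
    have e : germ (R k) V v ((R k).obj.map g.op (s k)) = germ (R k) V v 0 := by
      rw [germ_res, hv, h k (Finset.mem_insert_self k S), map_zero]
    obtain ⟨V', g', v', hv', hg'⟩ := EtFound.exists_forall_eq (R k).obj v (fun _ : Unit => (R k).obj.map g.op (s k))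
      (fun _ => 0) fun _ => e
    refine ⟨V', g' ≫ g, v', by rw [Functor.map_comp_apply, hv', hv], fun l hl => ?_⟩
    rw [op_comp, Functor.map_comp_apply]
    rcases Finset.mem_insert.1 hl with rfl | hl
    · exact (hg' ()).trans (map_zero _)
    · rw [hg l hl, map_zero]

/-- on one etale neighbourhood of the generic point all kernels of an adic system are constant -/
theorem exists_fgConst_adic_kernels [IsNoetherianRing Λ] [IsLocallyNoetherian X] {t : X} (ht : ∀ y, y ⤳ t → t ⤳ y)
    {I : Ideal Λ} {G : PS (EtModW.Mod Λ X)} (hG : IsAdic I G) (h0 : EtModW.IsConstructible Λ (G.obj (op 0))) :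
    ∃ (U : X.Etale) (p : U.left), U.hom.base p = t ∧ (∃ S, FGConst (G.obj (op 0)) U S) ∧
      ∀ q : ℕ, ∃ S, FGConst (kernel (tr G (Nat.le_succ q))) U S := by
  classical
  obtain ⟨U₀, p, hp, S₀, hS₀⟩ := exists_fgConst_generic ht h0
  obtain ⟨W, hpW, hW⟩ := exists_generic_open_of_max ht U₀ hp
  have : AlgebraicGeometry.Etale U₀.hom := U₀.prop
  let U : X.Etale := Scheme.Etale.mk (W.ι ≫ U₀.hom)
  let r₀ : U ⟶ U₀ := MorphismProperty.Over.homMk W.ι rfl
  obtain ⟨Ω, _, _, ξ, u, hu⟩ := EtFound.exists_algClosed_point U (⟨p, hpW⟩ : W.toScheme)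
  obtain ⟨rr, s, hs⟩ := Submodule.fg_iff_exists_fin_generating_family.1 (hS₀.restrict r₀).1
  have hS := hS₀.restrict r₀
  obtain ⟨l, hl, hspan⟩ := ARLib.exists_gens I
  let a : Fin l.length → Λ := l.get
  have ha : ∀ i, a i ∈ I := fun i => hl _ (List.get_mem l i)
  have hspan' : I ≤ Ideal.span (Set.range a) := hspan.trans (le_of_eq (congrArg _ (Set.range_list_get l).symm))
  let μ := fun i q => ARLib.mul hG (ha i) q
  let m : ∀ V : X.Etale, Fin l.length → ∀ q, (G.obj (op q)).obj.obj (op V) →ₗ[Λ] (G.obj (op (q + 1))).obj.obj (op V) :=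
    fun V i q => ((μ i q).hom.app (op V)).hom
  have hm : ∀ V, GradedRel.Commutes (P := fun q => ((G.obj (op q)).obj.obj (op V) : Type (u + 1))) (m V) :=
    fun V i j q x => congr(($(ARLib.mul_comm' hG (ha i) (ha j) q)).hom.app (op V) x)
  let mS : ∀ {k : Type u} [Field k] [IsSepClosed k] (ζ : Spec (CommRingCat.of k) ⟶ X), Fin l.length → ∀ q,
      (EtModW.stalk Λ ζ).obj (G.obj (op q)) →ₗ[Λ] (EtModW.stalk Λ ζ).obj (G.obj (op (q + 1))) :=
    fun ζ i q => ((EtModW.stalk Λ ζ).map (μ i q)).hom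
  have hmS : ∀ {k : Type u} [Field k] [IsSepClosed k] (ζ : Spec (CommRingCat.of k) ⟶ X),
      GradedRel.Commutes (P := fun q => ((EtModW.stalk Λ ζ).obj (G.obj (op q)) : Type (u + 1))) (mS ζ) :=
    fun ζ i j q x => by
      have e := congrArg (EtModW.stalk Λ ζ).map (ARLib.mul_comm' hG (ha i) (ha j) q)
      rw [Functor.map_comp, Functor.map_comp] at e
      exact congr($e x)
  -- the relations at the generic point
  let gξ : ∀ q, (G.obj (op q)).obj.obj (op U) →ₗ[Λ] (EtModW.stalk Λ ξ).obj (G.obj (op q)) :=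
    fun q => germ (G.obj (op q)) U u
  obtain ⟨gens, hgens⟩ := IsNoetherian.noetherian (GradedRel.relKer (hmS ξ) fun j => gξ 0 (s j))
  have hgξ : ∀ i q x, gξ (q + 1) (m U i q x) = mS ξ i q (gξ q x) := fun i q x => germ_app (μ i q) U u x
  let D := fun c : Fin rr → MvPolynomial (Fin l.length) Λ =>
    GradedRel.rel (P := fun q => ((G.obj (op q)).obj.obj (op U) : Type (u + 1))) (hm U) s c
  obtain ⟨V, g, v, hv, hvan⟩ := exists_vanish u (gens.sigma fun c => DFinsupp.support (D c))
    (fun k => G.obj (op k.2)) (fun k => D k.1 k.2) fun k hk => by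
      have h1 : DirectSum.lmap gξ (D k.1) = 0 := by
        rw [show DirectSum.lmap gξ (D k.1) = _ from GradedRel.rel_natural (hm U) (hmS ξ) gξ hgξ s k.1]
        exact hgens.le (Submodule.subset_span (Finset.mem_sigma.1 hk).1)
      have h2 := congr($h1 k.2)
      rwa [DirectSum.lmap_apply] at h2
  let res : ∀ q, (G.obj (op q)).obj.obj (op U) →ₗ[Λ] (G.obj (op q)).obj.obj (op V) :=
    fun q => ((G.obj (op q)).obj.map g.op).hom
  have hres : ∀ i q x, res (q + 1) (m U i q x) = m V i q (res q x) := fun i q x =>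
    (NatTrans.naturality_apply (μ i q).hom g.op x).symm
  let sV := fun j => res 0 (s j)
  let S' := GradedRel.gen (P := fun q => ((G.obj (op q)).obj.obj (op V) : Type (u + 1))) (m V) sV
  have hV0 : S' 0 = ((S₀.map ((G.obj (op 0)).obj.map r₀.op).hom).map ((G.obj (op 0)).obj.map g.op).hom) := by
    rw [← hs, Submodule.map_span, ← Set.range_comp]
    rfl
  have hSV := hS.restrict g
  rw [← hV0] at hSV
  refine ⟨V, (v.left : Spec (CommRingCat.of Ω) ⟶ V.left).base (default : Spec (CommRingCat.of Ω)), ?_, ⟨_, hSV⟩, fun q => ?_⟩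
  · refine (EtFound.base_of_point v).trans ((EtFound.base_of_point u).symm.trans ?_)
    refine (congrArg U.hom.base hu).trans ((Scheme.Hom.comp_apply _ _ _).trans ?_)
    exact hp
  -- the kernel in degree `q + 1`
  have hkill : ∀ n, ∀ x ∈ S' n, ∀ i, a i • x = 0 := by
    intro n
    induction n with
    | zero => exact fun x _ i => congr(($(hG.1 0 (a i) (by simpa using ha i))).hom.app (op V) x)
    | succ n ih =>
      intro x hx i
      have key : x ∈ LinearMap.ker ((tr G (Nat.le_succ n)).hom.app (op V)).hom := by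
        refine (iSup_le (fun j => ?_) : S' (n + 1) ≤ _) hx
        rintro _ ⟨y, hy, rfl⟩
        exact (congr(($(ARLib.mul_tr hG (ha j) n)).hom.app (op V) y)).trans (ih y hy j)
      refine (congr(($(ARLib.tr_mul hG (ha i) n)).hom.app (op V) x)).symm.trans ?_
      show (μ i n).hom.app (op V) ((tr G (Nat.le_succ n)).hom.app (op V) x) = 0
      rw [show (tr G (Nat.le_succ n)).hom.app (op V) x = 0 from key, map_zero]
  have hker : S' (q + 1) ≤ LinearMap.ker ((tr G (Nat.le_succ q)).hom.app (op V)).hom := by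
    refine (iSup_le (fun j => ?_) : S' (q + 1) ≤ _)
    rintro _ ⟨y, hy, rfl⟩
    exact (congr(($(ARLib.mul_tr hG (ha j) q)).hom.app (op V) y)).trans (hkill q y hy j)
  let π := tr G (Nat.le_succ q)
  let K : Submodule Λ ((kernel π).obj.obj (op V)) := (S' (q + 1)).comap ((kernel.ι π).hom.app (op V)).hom
  have hin := app_injective (kernel.ι π) V
  refine ⟨K, ?_, fun Ω' _ _ ζ z => ?_⟩
  · refine Submodule.fg_of_fg_map_injective _ hin ?_
    have : Module.Finite Λ (S' (q + 1)) := Module.Finite.iff_fg.2 (GradedRel.gen_fg (P := fun n => ((G.obj (op n)).obj.obj (op V) : Type (u + 1))) (m := m V) sV (q + 1))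
    rw [← inf_eq_right.2 (Submodule.map_comap_le _ _), ← Submodule.map_comap_subtype]
    exact (IsNoetherian.noetherian _).map _
  let gζ : ∀ n, (G.obj (op n)).obj.obj (op V) →ₗ[Λ] (EtModW.stalk Λ ζ).obj (G.obj (op n)) :=
    fun n => germ (G.obj (op n)) V z
  have hgζ : ∀ i n x, gζ (n + 1) (m V i n x) = mS ζ i n (gζ n x) := fun i n x => germ_app (μ i n) V z x
  have hrel : GradedRel.relKer (hmS ζ) (fun j => gζ 0 (sV j)) ≤ GradedRel.relKer (hm V) sV := by
    refine le_trans (b := GradedRel.relKer (hmS ξ) fun j => gξ 0 (s j)) (fun c hc => ?_) ?_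
    · let zU := (Scheme.pointSmallEtale ζ).fiber.map g z
      let gU : ∀ n, (G.obj (op n)).obj.obj (op U) →ₗ[Λ] (EtModW.stalk Λ ζ).obj (G.obj (op n)) :=
        fun n => germ (G.obj (op n)) U zU
      have e0 : (fun j => gζ 0 (sV j)) = fun j => gU 0 (s j) := funext fun j => germ_res _ g z _
      rw [GradedRel.mem_relKer, e0, ← GradedRel.rel_natural (hm U) (hmS ζ) gU
        (fun i n x => germ_app (μ i n) U zU x) s c] at hc
      rw [GradedRel.mem_relKer, ← GradedRel.rel_natural (hm U) (hmS ξ) gξ hgξ s c]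
      refine DirectSum.ext_component Λ fun n => ?_
      have hn := congr($hc n)
      rw [DirectSum.lmap_apply] at hn
      rw [map_zero]
      show DirectSum.lmap gξ _ n = 0
      rw [DirectSum.lmap_apply]
      refine germ_eq_zero_of_specializes _ u zU ?_ hn
      rw [hu]
      exact (W.ι.isOpenEmbedding.isInducing.specializes_iff).1 (hW _ (Subtype.prop _))
    · rw [← hgens, Submodule.span_le]
      intro c hc
      show GradedRel.rel (hm V) sV c = 0
      rw [← GradedRel.rel_natural (hm U) (hm V) res hres s c]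
      refine DirectSum.ext_component Λ fun n => ?_
      rw [map_zero]
      show DirectSum.lmap res (D c) n = 0
      rw [DirectSum.lmap_apply]
      by_cases hn : n ∈ DFinsupp.support (D c)
      · exact hvan ⟨c, n⟩ (Finset.mem_sigma.2 ⟨hc, hn⟩)
      · rw [DFinsupp.notMem_support_iff.1 hn, map_zero]
  have hnat := fun c => (germ_app (kernel.ι π) V z c).symm
  constructor
  · intro c c' e
    refine Subtype.ext (hin (sub_eq_zero.1 ?_))
    rw [← map_sub]
    refine GradedRel.eq_zero_of_relKer_le (hm V) (hmS ζ) gζ hgζ sV hrel (q := q + 1) (sub_mem c.2 c'.2) ?_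
    refine (hnat _).symm.trans ?_
    rw [map_sub, sub_eq_zero.2 e, map_zero]
  · intro c
    let P : PS (ModuleCat.{u + 1} Λ) := G ⋙ EtModW.stalk Λ ζ
    have hP : IsAdic I P := isAdic_map _ (IsNoetherian.noetherian I) hG
    have hmP : ∀ i n x, mS ζ i n (tr P (Nat.le_succ n) x) = a i • x := fun i n x => by
      have e := congrArg (EtModW.stalk Λ ζ).map (ARLib.tr_mul hG (ha i) n)
      rw [Functor.map_comp, Functor.map_smul, CategoryTheory.Functor.map_id] at e
      exact congr($e x)
    have htop : Submodule.span Λ (Set.range fun j => gζ 0 (sV j)) = ⊤ := by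
      refine eq_top_iff.2 fun x _ => ?_
      obtain ⟨⟨y, hy⟩, rfl⟩ := (hSV.2 Ω' ζ z).2 x
      have h1 := Submodule.mem_map_of_mem (f := gζ 0) hy
      rw [show S' 0 = Submodule.span Λ (Set.range sV) from rfl, Submodule.map_span, ← Set.range_comp] at h1
      exact h1
    have hc : (EtModW.stalk Λ ζ).map (kernel.ι π) c ∈ LinearMap.ker (tr P (Nat.le_succ q)).hom := by
      have h2 : (EtModW.stalk Λ ζ).map (kernel.ι π) ≫ (EtModW.stalk Λ ζ).map π = 0 := by
        rw [← Functor.map_comp, kernel.condition, Functor.map_zero]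
      exact congr($h2 c)
    have h3 := pow_smul_top_le_gen (P := P) hspan' (mS ζ) hmP _ htop (q + 1) (ker_tr_le hP q hc)
    rw [← GradedRel.map_gen gζ hgζ sV (q + 1)] at h3
    obtain ⟨y, hy, hyc⟩ := h3
    obtain ⟨k, hk⟩ : ∃ k, (kernel.ι π).hom.app (op V) k = y := by
      let T := ShortComplex.mk (kernel.ι π) π (kernel.condition π)
      have h1 := (ShortComplex.exact_of_f_is_kernel T (kernelIsKernel π)).map_of_mono_of_preservesKernel
        (sheafToPresheaf _ _ ⋙ (evaluation _ (ModuleCat.{u + 1} Λ)).obj (op V)) inferInstance inferInstance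
      rw [ShortComplex.moduleCat_exact_iff] at h1
      exact h1 _ (hker hy)
    refine ⟨⟨k, show (kernel.ι π).hom.app (op V) k ∈ S' (q + 1) from hk ▸ hy⟩, stalk_map_injective (kernel.ι π) ζ ?_⟩
    exact (hnat k).trans ((congrArg _ hk).trans hyc)

/-- a sheaf with constant sections over a covering family of etale schemes is locally constant on their images -/
theorem isFTLocConst_pull_of_fgConst {F : EtModW.Mod Λ X} (O : X.Opens)
    (h : ∀ y ∈ O, ∃ (U : X.Etale) (z : U.left), U.hom.base z = y ∧ ∃ S, FGConst F U S) :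
    EtModW.IsFTLocConst Λ ((EtModW.pull Λ O.ι).obj F) := by
  refine (isFTLocConst_iff _).2 fun y => ?_
  obtain ⟨U, z, hz, S, hS⟩ := h (O.ι.base y) y.2
  obtain ⟨w, -, hw⟩ := Scheme.Pullback.exists_preimage_pullback (f := U.hom) (g := O.ι) z y hz
  have : Module.Finite Λ (ModuleCat.of Λ S) := Module.Finite.iff_fg.2 hS.1
  exact ⟨_, w, hw, _, fgConst_range (EtFound.constBy_pull O.ι
    (φ := (ModuleCat.ofHom S.subtype : ModuleCat.of Λ S ⟶ F.obj.obj (op U)))
    (fun Ω _ _ ξ z => hS.2 Ω ξ z))⟩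

/-- an adic system is lisse on the open where degree zero and the kernels are constant -/
theorem isFTLocConst_pull_adic [IsNoetherianRing Λ] {I : Ideal Λ} {G : PS (EtModW.Mod Λ X)} (hG : IsAdic I G)
    (O : X.Opens) (h : ∀ y ∈ O, ∃ (U : X.Etale) (z : U.left), U.hom.base z = y ∧ (∃ S, FGConst (G.obj (op 0)) U S) ∧
      ∀ q : ℕ, ∃ S, FGConst (kernel (tr G (Nat.le_succ q))) U S) (n : ℕ) :
    EtModW.IsFTLocConst Λ ((EtModW.pull Λ O.ι).obj (G.obj (op n))) := by
  induction n with
  | zero =>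
    refine isFTLocConst_pull_of_fgConst O fun y hy => ?_
    obtain ⟨U, z, hz, hS, -⟩ := h y hy
    exact ⟨U, z, hz, hS⟩
  | succ n ih =>
    have := ARLib.IsQuot.epi (hG.2 n (n + 1) (Nat.le_succ n))
    let T := ShortComplex.mk (kernel.ι (tr G (Nat.le_succ n))) (tr G (Nat.le_succ n)) (kernel.condition _)
    have hT : T.ShortExact := { exact := ShortComplex.exact_of_f_is_kernel T (kernelIsKernel _) }
    refine isFTLocConst_of_extension (hT.map_of_exact (EtModW.pull Λ O.ι))
      (isFTLocConst_pull_of_fgConst O fun y hy => ?_) ih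
    obtain ⟨U, z, hz, -, hS⟩ := h y hy
    exact ⟨U, z, hz, hS n⟩

/-- the opens on which an adic constructible system is lisse contain all maximal points -/
theorem exists_open_adic_lisse [IsNoetherianRing Λ] [IsLocallyNoetherian X] {I : Ideal Λ}
    {G : PS (EtModW.Mod Λ X)} (hG : IsAdic I G) (h0 : EtModW.IsConstructible Λ (G.obj (op 0))) :
    ∃ O : X.Opens, (∀ t : X, (∀ y, y ⤳ t → t ⤳ y) → t ∈ O) ∧
      ∀ n : ℕ, EtModW.IsFTLocConst Λ ((EtModW.pull Λ O.ι).obj (G.obj (op n))) := by
  let s : Set X := {y | ∃ (U : X.Etale) (z : U.left), U.hom.base z = y ∧ (∃ S, FGConst (G.obj (op 0)) U S) ∧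
      ∀ q : ℕ, ∃ S, FGConst (kernel (tr G (Nat.le_succ q))) U S}
  have hs : IsOpen s := isOpen_iff_forall_mem_open.2 fun y ⟨U, z, hz, h1, h2⟩ => by
    have : AlgebraicGeometry.Etale U.hom := U.prop
    exact ⟨Set.range U.hom.base, fun y' ⟨z', hz'⟩ => ⟨U, z', hz', h1, h2⟩, U.hom.isOpenMap.isOpen_range, z, hz⟩
  exact ⟨⟨s, hs⟩, fun t ht => exists_fgConst_adic_kernels ht hG h0,
    isFTLocConst_pull_adic hG ⟨s, hs⟩ fun y hy => hy⟩

end Groth.Agent.EtModLib
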