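import Groth.Agent.EtModLib.FTLoc
import Groth.Agent.EtFound.Strata

/-! constructible sheaves of modules: pieces, inverse images, weak Serre property -/

universe u

open CategoryTheory CategoryTheory.Limits AlgebraicGeometry Opposite Topology

namespace Groth.Agent.EtModLib

set_option backward.isDefEq.respectTransparency.types false

variable {Λ : Type (u + 1)} [CommRing Λ] {X : Scheme.{u}}

/-- finite local constancy transports along isomorphisms -/
theorem isFTLocConst_of_iso {X : Scheme.{u}} {F G : EtModW.Mod Λ X} (e : F ≅ G)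
    (h : EtModW.IsFTLocConst Λ F) : EtModW.IsFTLocConst Λ G := by
  obtain ⟨ι, U, hU, hF⟩ := h
  refine ⟨ι, U, hU, fun i => ?_⟩
  obtain ⟨M, iM, iM', fM, ⟨a⟩⟩ := hF i
  exact ⟨M, iM, iM', fM, ⟨((X.smallEtaleTopology.overPullback (ModuleCat.{u + 1} Λ) (U i)).mapIso e).symm ≪≫ a⟩⟩

/-- inverse image preserves finite local constancy -/
theorem isFTLocConst_pull {X Y : Scheme.{u}} (f : X ⟶ Y) {G : EtModW.Mod Λ Y}
    (h : EtModW.IsFTLocConst Λ G) : EtModW.IsFTLocConst Λ ((EtModW.pull Λ f).obj G) := by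
  obtain ⟨ι, U, hU, hG⟩ := h
  refine ⟨ι, _, EtFound.covers_bc f hU, fun i => ?_⟩
  obtain ⟨M, iM, iM', fM, e⟩ := hG i
  exact ⟨M, iM, iM', fM, EtFound.nonempty_restr_pull_iso f e⟩

/-- a subset on which the sheaf is finite locally constant -/
def IsPiece {X : Scheme.{u}} (F : EtModW.Mod Λ X) (S : Set X) : Prop :=
  ∃ (T : Scheme.{u}) (g : T ⟶ X), IsImmersion g ∧ Set.range g.base = S ∧
    EtModW.IsFTLocConst Λ ((EtModW.pull Λ g).obj F)

theorem IsPiece.isLocallyClosed {X : Scheme.{u}} {F : EtModW.Mod Λ X} {S : Set X} (h : IsPiece F S) :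
    IsLocallyClosed S := by
  obtain ⟨T, g, hg, rfl, -⟩ := h
  exact g.isLocallyClosed_range

theorem IsPiece.of_iso {X : Scheme.{u}} {F G : EtModW.Mod Λ X} (e : F ≅ G) {S : Set X} (h : IsPiece F S) :
    IsPiece G S := by
  obtain ⟨T, g, hg, hr, hT⟩ := h
  exact ⟨T, g, hg, hr, isFTLocConst_of_iso ((EtModW.pull Λ g).mapIso e) hT⟩

theorem IsPiece.mono {X : Scheme.{u}} {F : EtModW.Mod Λ X} {S S' : Set X} (h : IsPiece F S) (hle : S' ⊆ S)
    (hlc : IsLocallyClosed S') : IsPiece F S' := by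
  obtain ⟨T, g, hg, rfl, hT⟩ := h
  obtain ⟨T', g', hg', hr⟩ := EtFound.exists_immersion_range (hlc.preimage g.continuous)
  refine ⟨T', g' ≫ g, inferInstance, ?_,
    isFTLocConst_of_iso ((pullComp g' g).app F).symm (isFTLocConst_pull g' hT)⟩
  rw [Scheme.Hom.comp_base, TopCat.coe_comp, Set.range_comp, hr]
  exact Set.image_preimage_eq_of_subset hle

theorem IsPiece.preimage {X Y : Scheme.{u}} (f : X ⟶ Y) {F : EtModW.Mod Λ Y} {S : Set Y} (h : IsPiece F S) :
    IsPiece ((EtModW.pull Λ f).obj F) (f.base ⁻¹' S) := by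
  obtain ⟨T, g, hg, rfl, hT⟩ := h
  refine ⟨pullback f g, pullback.fst f g, MorphismProperty.pullback_fst _ _ hg, ?_, ?_⟩
  · exact Scheme.Pullback.range_fst f g
  · have h1 := isFTLocConst_pull (pullback.snd f g) hT
    refine isFTLocConst_of_iso ?_ h1
    exact ((pullComp (pullback.snd f g) g).app F).symm ≪≫
      eqToIso (congrArg (fun k => (EtModW.pull Λ k).obj F) pullback.condition.symm) ≪≫
      (pullComp (pullback.fst f g) f).app F

theorem IsPiece.image {X Y : Scheme.{u}} (i : X ⟶ Y) [IsImmersion i] {F : EtModW.Mod Λ Y} {S : Set X}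
    (h : IsPiece ((EtModW.pull Λ i).obj F) S) : IsPiece F (i.base '' S) := by
  obtain ⟨T, g, hg, rfl, hT⟩ := h
  refine ⟨T, g ≫ i, inferInstance, ?_, isFTLocConst_of_iso ((pullComp g i).app F).symm hT⟩
  rw [Scheme.Hom.comp_base, TopCat.coe_comp, Set.range_comp]

/-- finitely many, possibly overlapping, constructible pieces give an adapted stratification -/
theorem adaptedStrata_of_cover {X : Scheme.{u}} {F : EtModW.Mod Λ X} {S : Set X} (hS : IsLocallyClosed S)
    {κ : Type*} [Finite κ] (E : κ → Set X) (hE : ∀ k, IsPiece F (E k))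
    (hc : ∀ k, IsConstructible ((Subtype.val : S → X) ⁻¹' E k)) (hcov : S ⊆ ⋃ k, E k) :
    EtModW.AdaptedStrata Λ F S := by
  classical
  obtain ⟨n, P, hlc, hPc, hd, hu, hP⟩ := EtFound.exists_lc_partition (fun k => (Subtype.val : S → X) ⁻¹' E k) hc
  let J := {i : Fin n // (P i).Nonempty}
  let m := Fintype.card J
  let e : Fin m ≃ J := (Fintype.equivFin J).symm
  have hpiece : ∀ a : Fin m, IsPiece F (Subtype.val '' P (e a).1) := fun a => by
    obtain ⟨x, hx⟩ := (e a).2
    obtain ⟨k, hk⟩ := Set.mem_iUnion.1 (hcov x.2)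
    refine (hE k).mono ?_ ((hlc _).image IsInducing.subtypeVal (by rwa [Subtype.range_coe]))
    rcases hP (e a).1 k with h | h
    · exact Set.image_subset_iff.2 h
    · exact absurd hk (Set.disjoint_left.1 h hx)
  choose T g hg hr hT using hpiece
  refine ⟨m, T, g, hg, fun a => ?_, fun a b hab => ?_, ?_, fun a => hT a⟩
  · show IsConstructible ((Subtype.val : S → X) ⁻¹' Set.range (g a).base)
    rw [hr, Set.preimage_image_eq _ Subtype.val_injective]
    exact hPc _
  · show Disjoint (Set.range (g a).base) (Set.range (g b).base)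
    rw [hr, hr]
    exact Set.disjoint_image_of_injective Subtype.val_injective (hd fun h => hab (e.injective (Subtype.ext h)))
  · show (⋃ a, Set.range (g a).base) = S
    simp only [hr]
    refine Set.Subset.antisymm (Set.iUnion_subset fun a => ?_) fun x hx => ?_
    · exact (Set.image_subset_range _ _).trans (Subtype.range_coe).le
    · obtain ⟨i, hi⟩ := Set.mem_iUnion.1 (hu.ge (Set.mem_univ (⟨x, hx⟩ : S)))
      exact Set.mem_iUnion.2 ⟨e.symm ⟨i, _, hi⟩, ⟨x, hx⟩, by rwa [Equiv.apply_symm_apply], rfl⟩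

/-- the strata of an adapted stratification, as pieces -/
theorem exists_pieces {X : Scheme.{u}} {F : EtModW.Mod Λ X} {S : Set X} (h : EtModW.AdaptedStrata Λ F S) :
    ∃ (n : ℕ) (E : Fin n → Set X), (∀ k, IsPiece F (E k)) ∧
      (∀ k, IsConstructible ((Subtype.val : S → X) ⁻¹' E k)) ∧ (⋃ k, E k) = S := by
  obtain ⟨n, T, g, hg, hc, -, hu, hT⟩ := h
  exact ⟨n, fun i => Set.range (g i).base, fun i => ⟨T i, g i, hg i, rfl, hT i⟩, hc, hu⟩

/-- adapted stratifications restrict to smaller opens -/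
theorem adaptedStrata_mono {X : Scheme.{u}} {F : EtModW.Mod Λ X} {U W : X.Opens} (h : EtModW.AdaptedStrata Λ F (U : Set X))
    (hle : W ≤ U) : EtModW.AdaptedStrata Λ F (W : Set X) := by
  obtain ⟨n, E, hE, hc, hu⟩ := exists_pieces h
  refine adaptedStrata_of_cover W.2.isLocallyClosed (fun k => E k ∩ (W : Set X))
    (fun k => (hE k).mono Set.inter_subset_left ((hE k).isLocallyClosed.inter W.2.isLocallyClosed)) (fun k => ?_) ?_
  · have hi : IsOpenEmbedding (Set.inclusion (hle : (W : Set X) ⊆ U)) := .inclusion _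
      (W.2.preimage continuous_subtype_val)
    have := (hc k).preimage_of_isOpenEmbedding hi
    convert this using 1
    ext x
    simp
  · intro x hx
    obtain ⟨k, hk⟩ := Set.mem_iUnion.1 (hu.ge (hle hx))
    exact Set.mem_iUnion.2 ⟨k, hk, hx⟩

/-- adapted stratifications glue over finitely many quasi-compact opens -/
theorem adaptedStrata_of_opens {X : Scheme.{u}} {F : EtModW.Mod Λ X} {U : X.Opens} (hU : IsQuasiSeparated (U : Set X))
    {κ : Type*} [Finite κ] (V : κ → X.Opens) (hVU : ∀ k, V k ≤ U) (hV : ∀ k, IsCompact (V k : Set X))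
    (hcov : (U : Set X) ⊆ ⋃ k, (V k : Set X)) (h : ∀ k, EtModW.AdaptedStrata Λ F (V k : Set X)) :
    EtModW.AdaptedStrata Λ F (U : Set X) := by
  choose n E hE hc hu using fun k => exists_pieces (h k)
  have : QuasiSeparatedSpace ↥(U : Set X) :=
    (isQuasiSeparated_iff_quasiSeparatedSpace _ U.2).1 hU
  refine adaptedStrata_of_cover U.2.isLocallyClosed (fun p : Σ k, Fin (n k) => E p.1 p.2) (fun p => hE _ _)
    (fun p => ?_) ?_
  · have hi : IsOpenEmbedding (Set.inclusion (hVU p.1 : (V p.1 : Set X) ⊆ U)) := .inclusion _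
      ((V p.1).2.preimage continuous_subtype_val)
    have hr : IsRetrocompact (Set.range (Set.inclusion (hVU p.1 : (V p.1 : Set X) ⊆ U))) := by
      refine IsCompact.isRetrocompact ?_ hi.isOpen_range
      have : CompactSpace ↥(V p.1 : Set X) := isCompact_iff_compactSpace.1 (hV p.1)
      exact isCompact_range hi.continuous
    have h2 := (hc p.1 p.2).image_of_isOpenEmbedding hi hr
    convert h2 using 1
    ext x
    refine ⟨fun hx => ?_, ?_⟩
    · have hx' : x.1 ∈ (V p.1 : Set X) := (hu p.1).le (Set.mem_iUnion.2 ⟨p.2, hx⟩)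
      exact ⟨⟨x.1, hx'⟩, hx, rfl⟩
    · rintro ⟨y, hy, rfl⟩
      exact hy
  · intro x hx
    obtain ⟨k, hk⟩ := Set.mem_iUnion.1 (hcov hx)
    obtain ⟨j, hj⟩ := Set.mem_iUnion.1 ((hu k).ge hk)
    exact Set.mem_iUnion.2 ⟨⟨k, j⟩, hj⟩

/-- inverse images of constructible sheaves are constructible -/
theorem isConstructible_pull {X Y : Scheme.{u}} (f : X ⟶ Y) {F : EtModW.Mod Λ Y} (hF : EtModW.IsConstructible Λ F) :
    EtModW.IsConstructible Λ ((EtModW.pull Λ f).obj F) := by
  intro U hU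
  have : ∀ x : (U : Set X), ∃ (W : X.Opens) (V : Y.Opens), IsAffineOpen W ∧ IsAffineOpen V ∧ W ≤ U ∧
      W ≤ f ⁻¹ᵁ V ∧ (x : X) ∈ W := fun x => by
    obtain ⟨V, hV, hxV, -⟩ := exists_isAffineOpen_mem_and_subset (U := (⊤ : Y.Opens)) (x := f.base x) trivial
    obtain ⟨W, hW, hxW, hWle⟩ := exists_isAffineOpen_mem_and_subset (U := U ⊓ f ⁻¹ᵁ V) (x := (x : X)) ⟨x.2, hxV⟩
    exact ⟨W, V, hW, hV, fun y hy => (hWle hy).1, fun y hy => (hWle hy).2, hxW⟩
  choose W V hW hV hWU hWV hxW using this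
  obtain ⟨t, ht⟩ := hU.isCompact.elim_finite_subcover (fun x => (W x : Set X)) (fun x => (W x).2)
    (fun x hx => Set.mem_iUnion.2 ⟨⟨x, hx⟩, hxW ⟨x, hx⟩⟩)
  refine adaptedStrata_of_opens hU.isQuasiSeparated (fun k : t => W k.1) (fun k => hWU _)
    (fun k => (hW _).isCompact) (fun x hx => ?_) fun k => ?_
  · obtain ⟨k, hk⟩ := Set.mem_iUnion.1 (ht hx)
    obtain ⟨hkt, hk⟩ := Set.mem_iUnion.1 hk
    exact Set.mem_iUnion.2 ⟨⟨k, hkt⟩, hk⟩
  · obtain ⟨n, E, hE, hc, hu⟩ := exists_pieces (hF (V k.1) (hV _))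
    refine adaptedStrata_of_cover (W k.1).2.isLocallyClosed (fun j => f.base ⁻¹' E j ∩ (W k.1 : Set X))
      (fun j => ((hE j).preimage f).mono Set.inter_subset_left
        (((hE j).isLocallyClosed.preimage f.continuous).inter (W k.1).2.isLocallyClosed)) (fun j => ?_) ?_
    · convert EtFound.isConstructible_preimage_affine f (hW k.1) (hV k.1) (hWV k.1) (hc j) using 1
      ext x
      simp
    · intro x hx
      obtain ⟨j, hj⟩ := Set.mem_iUnion.1 (hu.ge (hWV k.1 hx))
      exact Set.mem_iUnion.2 ⟨j, hj, hx⟩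

/-- constructibility is Zariski local -/
theorem isConstructible_of_openCover {X : Scheme.{u}} (F : EtModW.Mod Λ X) {ι : Type*} (U : ι → X.Opens)
    (hU : ⨆ i, U i = ⊤) (h : ∀ i, EtModW.IsConstructible Λ ((EtModW.pull Λ (U i).ι).obj F)) :
    EtModW.IsConstructible Λ F := by
  intro A hA
  have : ∀ x : (A : Set X), ∃ (i : ι) (W : X.Opens), IsAffineOpen W ∧ W ≤ A ∧ W ≤ U i ∧ (x : X) ∈ W := fun x => by
    obtain ⟨i, hi⟩ := TopologicalSpace.Opens.mem_iSup.1 (hU.ge (TopologicalSpace.Opens.mem_top (x : X)))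
    obtain ⟨W, hW, hxW, hWle⟩ := exists_isAffineOpen_mem_and_subset (U := A ⊓ U i) (x := (x : X)) ⟨x.2, hi⟩
    exact ⟨i, W, hW, fun y hy => (hWle hy).1, fun y hy => (hWle hy).2, hxW⟩
  choose i W hW hWA hWU hxW using this
  obtain ⟨t, ht⟩ := hA.isCompact.elim_finite_subcover (fun x => (W x : Set X)) (fun x => (W x).2)
    (fun x hx => Set.mem_iUnion.2 ⟨⟨x, hx⟩, hxW ⟨x, hx⟩⟩)
  refine adaptedStrata_of_opens hA.isQuasiSeparated (fun k : t => W k.1) (fun k => hWA _)
    (fun k => (hW _).isCompact) (fun x hx => ?_) fun k => ?_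
  · obtain ⟨k, hk⟩ := Set.mem_iUnion.1 (ht hx)
    obtain ⟨hkt, hk⟩ := Set.mem_iUnion.1 hk
    exact Set.mem_iUnion.2 ⟨⟨k, hkt⟩, hk⟩
  · let ι' := (U (i k.1)).ι
    let W' := ι' ⁻¹ᵁ W k.1
    have hW' : IsAffineOpen W' := (hW k.1).preimage_of_isOpenImmersion ι' (by simpa [ι'] using hWU k.1)
    obtain ⟨n, E, hE, hc, hu⟩ := exists_pieces (h (i k.1) W' hW')
    refine adaptedStrata_of_cover (W k.1).2.isLocallyClosed (fun j => ι'.base '' E j) (fun j => (hE j).image ι')
      (fun j => ?_) ?_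
    · let φ : ↥(W k.1 : Set X) → ↥(W' : Set (U (i k.1)).toScheme) := fun x => ⟨⟨x.1, hWU k.1 x.2⟩, x.2⟩
      have hφ : IsOpenEmbedding φ := by
        have hec : Continuous φ := (continuous_subtype_val.subtype_mk _).subtype_mk _
        refine .of_continuous_injective_isOpenMap hec (fun a b e => Subtype.ext (congrArg (fun z => (z.1.1 : X)) e)) ?_
        intro s hs
        obtain ⟨O, hO, rfl⟩ := hs
        refine ⟨ι'.base ⁻¹' O, hO.preimage ι'.continuous, ?_⟩
        ext z
        exact ⟨fun hz => ⟨⟨z.1.1, z.2⟩, hz, rfl⟩, fun ⟨y, hy, e⟩ => e ▸ hy⟩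
      convert (hc j).preimage_of_isOpenEmbedding hφ using 1
      ext x
      exact ⟨fun ⟨y, hy, e⟩ => by
        show (⟨x.1, hWU k.1 x.2⟩ : (U (i k.1)).toScheme) ∈ E j
        rwa [show (⟨x.1, hWU k.1 x.2⟩ : (U (i k.1)).toScheme) = y from Subtype.ext e.symm],
        fun hy => ⟨_, hy, rfl⟩⟩
    · intro x hx
      obtain ⟨j, hj⟩ := Set.mem_iUnion.1 (hu.ge (show (⟨x, hWU k.1 hx⟩ : (U (i k.1)).toScheme) ∈ W' from hx))
      exact Set.mem_iUnion.2 ⟨j, ⟨_, hj, rfl⟩⟩

/-- over a qcqs scheme constructibility is the existence of one adapted stratification -/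
theorem isConstructible_iff_adaptedStrata (X : Scheme.{u}) [CompactSpace X] [QuasiSeparatedSpace X]
    (F : EtModW.Mod Λ X) : EtModW.IsConstructible Λ F ↔ EtModW.AdaptedStrata Λ F (Set.univ : Set X) := by
  refine ⟨fun h => ?_, fun h U hU => adaptedStrata_mono (U := ⊤) h le_top⟩
  have : ∀ x : X, ∃ W : X.Opens, IsAffineOpen W ∧ x ∈ W := fun x => by
    obtain ⟨W, hW, hxW, -⟩ := exists_isAffineOpen_mem_and_subset (U := (⊤ : X.Opens)) (x := x) trivial
    exact ⟨W, hW, hxW⟩
  choose W hW hxW using this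
  obtain ⟨t, ht⟩ := (isCompact_univ (X := X)).elim_finite_subcover (fun x => (W x : Set X)) (fun x => (W x).2)
    (fun x _ => Set.mem_iUnion.2 ⟨x, hxW x⟩)
  refine adaptedStrata_of_opens (U := ⊤) ?_ (fun k : t => W k.1) (fun k => le_top)
    (fun k => (hW _).isCompact) (fun x hx => ?_) fun k => h _ (hW _)
  · show IsQuasiSeparated (Set.univ : Set X)
    exact (isQuasiSeparated_univ_iff).2 inferInstance
  · obtain ⟨k, hk⟩ := Set.mem_iUnion.1 (ht (Set.mem_univ x))
    obtain ⟨hkt, hk⟩ := Set.mem_iUnion.1 hk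
    exact Set.mem_iUnion.2 ⟨⟨k, hkt⟩, hk⟩

/-- a property implied by finite local constancy of two sheaves passes from strata to constructibility -/
theorem isConstructible_of_two {F G K : EtModW.Mod Λ X} (hF : EtModW.IsConstructible Λ F) (hG : EtModW.IsConstructible Λ G)
    (h : ∀ (T : Scheme.{u}) (g : T ⟶ X), EtModW.IsFTLocConst Λ ((EtModW.pull Λ g).obj F) →
      EtModW.IsFTLocConst Λ ((EtModW.pull Λ g).obj G) → EtModW.IsFTLocConst Λ ((EtModW.pull Λ g).obj K)) :
    EtModW.IsConstructible Λ K := by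
  intro U hU
  obtain ⟨n, E, hE, hc, hu⟩ := exists_pieces (hF U hU)
  obtain ⟨m, E', hE', hc', hu'⟩ := exists_pieces (hG U hU)
  refine adaptedStrata_of_cover U.2.isLocallyClosed (fun p : Fin n × Fin m => E p.1 ∩ E' p.2) (fun p => ?_)
    (fun p => (hc p.1).inter (hc' p.2)) fun x hx => ?_
  · obtain ⟨T, g, hg, hr, hT⟩ := hE p.1
    obtain ⟨T', g', hg', hr', hT'⟩ := hE' p.2
    refine ⟨pullback g g', pullback.fst g g' ≫ g, ?_, ?_, h _ _ ?_ ?_⟩
    · have : IsImmersion (pullback.fst g g') := MorphismProperty.pullback_fst _ _ hg'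
      infer_instance
    · rw [Scheme.Hom.comp_base, TopCat.coe_comp, Set.range_comp, Scheme.Pullback.range_fst,
        Set.image_preimage_eq_range_inter, hr, hr']
    · exact isFTLocConst_of_iso ((pullComp _ g).app F).symm (isFTLocConst_pull _ hT)
    · rw [pullback.condition]
      exact isFTLocConst_of_iso ((pullComp _ g').app G).symm (isFTLocConst_pull _ hT')
  · obtain ⟨i, hi⟩ := Set.mem_iUnion.1 (hu.ge hx)
    obtain ⟨j, hj⟩ := Set.mem_iUnion.1 (hu'.ge hx)
    exact Set.mem_iUnion.2 ⟨(i, j), hi, hj⟩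

/-- kernels of constructible sheaves are constructible -/
theorem isConstructible_kernel [IsNoetherianRing Λ] {F G : EtModW.Mod Λ X} (φ : F ⟶ G) (hF : EtModW.IsConstructible Λ F)
    (hG : EtModW.IsConstructible Λ G) : EtModW.IsConstructible Λ (kernel φ) :=
  isConstructible_of_two hF hG fun T g h1 h2 => by
    exact isFTLocConst_of_iso (PreservesKernel.iso (EtModW.pull Λ g) φ).symm
      (isFTLocConst_of_kernel
        (S := ShortComplex.mk (kernel.ι ((EtModW.pull Λ g).map φ)) ((EtModW.pull Λ g).map φ) (kernel.condition _))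
        (ShortComplex.exact_of_f_is_kernel _ (kernelIsKernel _)) h1 h2)

/-- cokernels of constructible sheaves are constructible -/
theorem isConstructible_cokernel {F G : EtModW.Mod Λ X} (φ : F ⟶ G) (hF : EtModW.IsConstructible Λ F)
    (hG : EtModW.IsConstructible Λ G) : EtModW.IsConstructible Λ (cokernel φ) :=
  isConstructible_of_two hF hG fun T g h1 h2 => by
    exact isFTLocConst_of_iso (PreservesCokernel.iso (EtModW.pull Λ g) φ).symm
      (isFTLocConst_of_cokernel
        (S := ShortComplex.mk ((EtModW.pull Λ g).map φ) (cokernel.π ((EtModW.pull Λ g).map φ)) (cokernel.condition _))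
        (ShortComplex.exact_of_g_is_cokernel _ (cokernelIsCokernel _)) h1 h2)

/-- extensions of constructible sheaves are constructible -/
theorem isConstructible_of_extension [IsNoetherianRing Λ] {S : ShortComplex (EtModW.Mod Λ X)} (hS : S.ShortExact)
    (h1 : EtModW.IsConstructible Λ S.X₁) (h3 : EtModW.IsConstructible Λ S.X₃) : EtModW.IsConstructible Λ S.X₂ :=
  isConstructible_of_two h1 h3 fun T g k1 k3 => by
    exact isFTLocConst_of_extension (hS.map_of_exact (EtModW.pull Λ g)) k1 k3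

/-- constructibility transports along isomorphisms -/
theorem isConstructible_of_iso {F G : EtModW.Mod Λ X} (e : F ≅ G) (h : EtModW.IsConstructible Λ F) :
    EtModW.IsConstructible Λ G :=
  isConstructible_of_two h h fun _ g h1 _ => isFTLocConst_of_iso ((EtModW.pull Λ g).mapIso e) h1

end Groth.Agent.EtModLib
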