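import Groth.Agent.EtModLib.AdicStrata

/-! finite stratifications serving a whole adic system -/

universe u

open CategoryTheory CategoryTheory.Limits AlgebraicGeometry Opposite ARSys Topology TopologicalSpace

namespace Groth.Agent.EtModLib

set_option backward.isDefEq.respectTransparency.types false

variable {Λ : Type (u + 1)} [CommRing Λ] {X : Scheme.{u}}

/-- a locally closed piece on which all members of a system are locally constant -/
def IsPieceAll (F : PS (EtModW.Mod Λ X)) (S : Set X) : Prop :=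
  ∃ (T : Scheme.{u}) (g : T ⟶ X), IsImmersion g ∧ Set.range g.base = S ∧
    ∀ n : ℕ, EtModW.IsFTLocConst Λ ((EtModW.pull Λ g).obj (F.obj (op n)))

theorem IsPieceAll.mono {F : PS (EtModW.Mod Λ X)} {S S' : Set X} (h : IsPieceAll F S) (hle : S' ⊆ S)
    (hlc : IsLocallyClosed S') : IsPieceAll F S' := by
  obtain ⟨T, g, hg, rfl, hT⟩ := h
  obtain ⟨T', g', hg', hr⟩ := EtFound.exists_immersion_range (hlc.preimage g.continuous)
  refine ⟨T', g' ≫ g, inferInstance, ?_,
    fun n => isFTLocConst_of_iso ((pullComp g' g).app _).symm (isFTLocConst_pull g' (hT n))⟩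
  rw [Scheme.Hom.comp_base, TopCat.coe_comp, Set.range_comp, hr]
  exact Set.image_preimage_eq_of_subset hle

theorem exists_pieceAll_near [IsNoetherianRing Λ] [IsLocallyNoetherian X] {I : Ideal Λ}
    {F : PS (EtModW.Mod Λ X)} (hF : IsAdic I F) (hc : ∀ n : ℕ, EtModW.IsConstructible Λ (F.obj (op n))) (x : X) :
    ∃ V : X.Opens, x ∈ V ∧ IsPieceAll F ((V : Set X) ∩ closure {x}) := by
  obtain ⟨T, g, hg, hr⟩ := EtFound.exists_immersion_range (isClosed_closure (s := {x})).isLocallyClosed
  have : IsLocallyNoetherian T := LocallyOfFiniteType.isLocallyNoetherian g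
  obtain ⟨t, ht⟩ : x ∈ Set.range g.base := hr ▸ subset_closure rfl
  have hmax : ∀ y, y ⤳ t → t ⤳ y := fun y _ => g.isEmbedding.isInducing.specializes_iff.1
    (specializes_iff_mem_closure.2 (ht.symm ▸ hr.le ⟨y, rfl⟩))
  obtain ⟨O, hO, hl⟩ := exists_open_adic_lisse (isAdic_map (EtModW.pull Λ g) (IsNoetherian.noetherian I) hF)
    (isConstructible_pull g (hc 0))
  obtain ⟨V₀, hV₀, hOV⟩ := g.isEmbedding.isInducing.isOpen_iff.1 O.2
  have htV : g.base t ∈ V₀ := show t ∈ g.base ⁻¹' V₀ from hOV ▸ hO t hmax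
  refine ⟨⟨V₀, hV₀⟩, ht ▸ htV, O.toScheme, O.ι ≫ g, inferInstance, ?_,
    fun n => isFTLocConst_of_iso ((pullComp O.ι g).app _).symm (hl n)⟩
  rw [Scheme.Hom.comp_base, TopCat.coe_comp, Set.range_comp, O.range_ι]
  show g.base '' (O : Set T) = _
  rw [← show g.base ⁻¹' V₀ = (O : Set T) from hOV, Set.image_preimage_eq_range_inter, hr]
  exact Set.inter_comm _ _

theorem exists_strata_all [IsNoetherianRing Λ] [IsNoetherian X] {I : Ideal Λ}
    {F : PS (EtModW.Mod Λ X)} (hF : IsAdic I F) (hc : ∀ n : ℕ, EtModW.IsConstructible Λ (F.obj (op n))) :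
    ∃ (m : ℕ) (T : Fin m → Scheme.{u}) (g : ∀ i, T i ⟶ X),
      (∀ i, IsImmersion (g i)) ∧
      Pairwise (fun i j => Disjoint (Set.range (g i).base) (Set.range (g j).base)) ∧
      (⋃ i, Set.range (g i).base) = Set.univ ∧
      ∀ (i : Fin m) (n : ℕ), EtModW.IsFTLocConst Λ ((EtModW.pull Λ (g i)).obj (F.obj (op n))) := by
  classical
  have key : ∃ (n : ℕ) (E : Fin n → Set X), (∀ k, IsPieceAll F (E k)) ∧ (Set.univ : Set X) ⊆ ⋃ k, E k := by
    refine SpecLib.irred_induction (P := fun C : Set X => ∃ (n : ℕ) (E : Fin n → Set X),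
      (∀ k, IsPieceAll F (E k)) ∧ C ⊆ ⋃ k, E k) ⟨0, Fin.elim0, fun k => k.elim0, by simp⟩
      (fun A B _ _ => ?_) (fun Y hY hirr ih => ?_) isClosed_univ
    · rintro ⟨n, E, hE, hA⟩ ⟨m, E', hE', hB⟩
      refine ⟨n + m, Fin.append E E', fun k => ?_, Set.union_subset (hA.trans ?_) (hB.trans ?_)⟩
      · refine Fin.addCases (fun i => ?_) (fun i => ?_) k
        · rw [Fin.append_left]; exact hE i
        · rw [Fin.append_right]; exact hE' i
      · exact Set.iUnion_subset fun i => Set.subset_iUnion_of_subset (Fin.castAdd m i) (Fin.append_left E E' i).ge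
      · exact Set.iUnion_subset fun i => Set.subset_iUnion_of_subset (Fin.natAdd n i) (Fin.append_right E E' i).ge
    · have hx : IsGenericPoint hirr.genericPoint Y := by
        simpa [hY.closure_eq] using hirr.isGenericPoint_genericPoint_closure
      obtain ⟨V, hxV, hV⟩ := exists_pieceAll_near hF hc hirr.genericPoint
      obtain ⟨n, E, hE, hEc⟩ := ih (Y ∩ (V : Set X)ᶜ) (hY.inter V.2.isClosed_compl)
        (Set.inter_subset_left.ssubset_of_ne fun e => (e.ge hx.mem).2 hxV)
      refine ⟨n + 1, Fin.cons ((V : Set X) ∩ closure {hirr.genericPoint}) E, fun k => ?_, fun y hy => ?_⟩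
      · cases k using Fin.cases with
        | zero => exact hV
        | succ i => simpa using hE i
      · by_cases hyV : y ∈ V
        · exact Set.mem_iUnion.2 ⟨0, hyV, (hx.specializes hy).mem_closure⟩
        · obtain ⟨i, hi⟩ := Set.mem_iUnion.1 (hEc ⟨hy, hyV⟩)
          exact Set.mem_iUnion.2 ⟨i.succ, by simpa using hi⟩
  obtain ⟨n, E, hE, hcov⟩ := key
  have hcons : ∀ k, IsConstructible (E k) := fun k => by
    obtain ⟨T, g, hg, hr, -⟩ := hE k
    obtain ⟨O, C, hO, hC, e⟩ := g.isLocallyClosed_range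
    rw [← hr, e]
    exact (SpecLib.isConstructible_of_isOpen hO).inter (SpecLib.isConstructible_of_isClosed hC)
  obtain ⟨N, P, hlc, -, hd, hu, hP⟩ := EtFound.exists_lc_partition E hcons
  let J := {i : Fin N // (P i).Nonempty}
  let e : Fin (Fintype.card J) ≃ J := (Fintype.equivFin J).symm
  have hpiece : ∀ a : Fin (Fintype.card J), IsPieceAll F (P (e a).1) := fun a => by
    obtain ⟨x, hx⟩ := (e a).2
    obtain ⟨k, hk⟩ := Set.mem_iUnion.1 (hcov (Set.mem_univ x))
    refine (hE k).mono ?_ (hlc _)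
    rcases hP (e a).1 k with h | h
    · exact h
    · exact absurd hk (Set.disjoint_left.1 h hx)
  choose T g hg hr hT using hpiece
  refine ⟨_, T, g, hg, fun a b hab => ?_, ?_, hT⟩
  · show Disjoint (Set.range (g a).base) (Set.range (g b).base)
    rw [hr, hr]
    exact hd fun h => hab (e.injective (Subtype.ext h))
  · simp only [hr]
    refine Set.eq_univ_of_forall fun x => ?_
    obtain ⟨i, hi⟩ := Set.mem_iUnion.1 (hu.ge (Set.mem_univ x))
    exact Set.mem_iUnion.2 ⟨e.symm ⟨i, x, hi⟩, by rwa [Equiv.apply_symm_apply]⟩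

theorem exists_dense_open_lisse [IsNoetherianRing Λ] [IsLocallyNoetherian X] {I : Ideal Λ}
    {F : PS (EtModW.Mod Λ X)} (hF : IsAdic I F) (hc : ∀ n : ℕ, EtModW.IsConstructible Λ (F.obj (op n))) :
    ∃ U : X.Opens, Dense (U : Set X) ∧
      ∀ n : ℕ, EtModW.IsFTLocConst Λ ((EtModW.pull Λ U.ι).obj (F.obj (op n))) := by
  obtain ⟨O, hO, hl⟩ := exists_open_adic_lisse hF (hc 0)
  refine ⟨O, fun x => ?_, hl⟩
  obtain ⟨g, hg⟩ := QuasiSober.sober isIrreducible_irreducibleComponent (isClosed_irreducibleComponent (x := x))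
  refine closure_mono (Set.singleton_subset_iff.2 (hO g fun y hy => ?_))
    (hg.specializes mem_irreducibleComponent).mem_closure
  refine specializes_iff_mem_closure.2 ?_
  rw [hg.def]
  have hle : irreducibleComponent x ⊆ closure {y} := by
    rw [← hg.def]
    exact closure_minimal (Set.singleton_subset_iff.2 hy.mem_closure) isClosed_closure
  exact (irreducibleComponent_mem_irreducibleComponents x).2 (isIrreducible_singleton.closure) hle
    (subset_closure rfl)

end Groth.Agent.EtModLib
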