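import Groth.Agent.EtModLib.ProEtLim
import Groth.Agent.EtModLib.StrataUniform

/-! pro-etale inverse images commute with `eps^{-1}` -/

universe u

open CategoryTheory CategoryTheory.Limits AlgebraicGeometry Opposite
open ARSys

namespace Groth.Agent.EtModLib

set_option backward.isDefEq.respectTransparency.types false

variable {Λ : Type (u + 1)} [CommRing Λ] {X Y : Scheme.{u}} (g : X ⟶ Y) [ProEtS.EpsCont X] [ProEtS.EpsCont Y]
  [ProEtS.PCont g]

/-- on sites, `eps` commutes with base change -/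
noncomputable def bcEpsIso : EtCoh.bc g ⋙ ProEtS.eps X ≅ ProEtS.eps Y ⋙ ProEtS.bcP g :=
  NatIso.ofComponents (fun _ => Iso.refl _) fun {U V} a => by
    refine (Category.comp_id _).trans (Eq.trans ?_ (Category.id_comp _).symm)
    rfl

/-- `bcP g^{-1} eps^{-1} = eps^{-1} g^{-1}` on sheaves of modules -/
noncomputable def pullEpsIso : EtModW.epsPullMod Λ Y ⋙
      (ProEtS.bcP g).sheafPullback (ModuleCat.{u + 1} Λ) (Scheme.ProEt.topology Y) (Scheme.ProEt.topology X) ≅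
    EtModW.pull Λ g ⋙ EtModW.epsPullMod Λ X :=
  haveI := Functor.isContinuous_comp (ProEtS.eps Y) (ProEtS.bcP g) Y.smallEtaleTopology (Scheme.ProEt.topology Y)
    (Scheme.ProEt.topology X)
  haveI := Functor.isContinuous_comp (EtCoh.bc g) (ProEtS.eps X) Y.smallEtaleTopology X.smallEtaleTopology
    (Scheme.ProEt.topology X)
  Adjunction.leftAdjointUniq
    ((((ProEtS.eps Y).sheafAdjunctionContinuous (ModuleCat.{u + 1} Λ) Y.smallEtaleTopology (Scheme.ProEt.topology Y)).comp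
      ((ProEtS.bcP g).sheafAdjunctionContinuous (ModuleCat.{u + 1} Λ) (Scheme.ProEt.topology Y)
        (Scheme.ProEt.topology X))).ofNatIsoRight
      (Functor.sheafPushforwardContinuousComp' (bcEpsIso g).symm (ModuleCat.{u + 1} Λ) Y.smallEtaleTopology
        (Scheme.ProEt.topology Y) (Scheme.ProEt.topology X)))
    (((pullPushAdj g).comp
      ((ProEtS.eps X).sheafAdjunctionContinuous (ModuleCat.{u + 1} Λ) X.smallEtaleTopology
        (Scheme.ProEt.topology X))).ofNatIsoRight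
      (Functor.sheafPushforwardContinuousComp' (Iso.refl (EtCoh.bc g ⋙ ProEtS.eps X)) (ModuleCat.{u + 1} Λ)
        Y.smallEtaleTopology X.smallEtaleTopology (Scheme.ProEt.topology X)))

omit [ProEtS.EpsCont X] [ProEtS.EpsCont Y] [ProEtS.PCont g] in
/-- quotients modulo an ideal are unique -/
theorem nonempty_isQuot_iso {C : Type*} [Category C] [Abelian C] [Linear Λ C] {I : Ideal Λ} {X Q Q' : C}
    {p : X ⟶ Q} {p' : X ⟶ Q'} (h : IsQuot I p) (h' : IsQuot I p') : Nonempty (Q ≅ Q') := by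
  obtain ⟨a, ha, -⟩ := h.2 _ p' (ARLib.IsQuot.homKilledBy h')
  obtain ⟨b, hb, -⟩ := h'.2 _ p (ARLib.IsQuot.homKilledBy h)
  obtain ⟨w, -, hw⟩ := h.2 _ p (ARLib.IsQuot.homKilledBy h)
  obtain ⟨w', -, hw'⟩ := h'.2 _ p' (ARLib.IsQuot.homKilledBy h')
  exact ⟨⟨a, b, (hw (a ≫ b) ((Category.assoc _ _ _).symm.trans ((congrArg (· ≫ b) ha).trans hb))).trans (hw (𝟙 Q) (Category.comp_id _)).symm,
    (hw' (b ≫ a) ((Category.assoc _ _ _).symm.trans ((congrArg (· ≫ a) hb).trans ha))).trans (hw' (𝟙 Q') (Category.comp_id _)).symm⟩⟩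

omit [ProEtS.EpsCont X] [ProEtS.PCont g] in
/-- the members of a tower are inverse images of an adic system -/
theorem exists_adic_members {I : Ideal Λ} (hI : I.FG) (F : EtModW.ModP Λ Y) (Q : ℕᵒᵖ ⥤ EtModW.ModP Λ Y)
    (p : (Functor.const ℕᵒᵖ).obj F ⟶ Q) (hQ : ∀ n : ℕ, IsQuot (I ^ (n + 1)) (p.app (op n)))
    (hc : ∀ n : ℕ, ∃ E : EtModW.Mod Λ Y, EtModW.IsConstructible Λ E ∧
      Nonempty ((EtModW.epsPullMod Λ Y).obj E ≅ Q.obj (op n))) (hlim : IsIso (limit.lift Q (Cone.mk F p))) :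
    ∃ G : PS (EtModW.Mod Λ Y), IsAdic I G ∧ (∀ n : ℕ, EtModW.IsConstructible Λ (G.obj (op n))) ∧
      ∀ n : ℕ, Nonempty ((EtModW.epsPullMod Λ Y).obj (G.obj (op n)) ≅ Q.obj (op n)) := by
  obtain ⟨G, hG, hGc, ⟨e⟩⟩ := exists_adic_of_tower hI F Q p hQ hc hlim
  exact ⟨G, hG, hGc, fun n => nonempty_isQuot_iso
    (isQuot_iso_comp e.symm (isQuot_limit_π hI hG n)) (hQ n)⟩

end Groth.Agent.EtModLib
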