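import Groth.Agent.EtModLib.Basic
import Groth.Agent.EtFound.FLCAb

/-! finite type locally constant sheaves of modules: kernels, cokernels, extensions -/

universe u

open CategoryTheory CategoryTheory.Limits AlgebraicGeometry Opposite

namespace Groth.Agent.EtModLib

set_option backward.isDefEq.respectTransparency.types false

variable {Λ : Type (u + 1)} [CommRing Λ] {X : Scheme.{u}}

/-- the germ at a geometric point, as a linear map -/
noncomputable abbrev germ (F : EtModW.Mod Λ X) (U : X.Etale) {Ω : Type u} [Field Ω] [IsSepClosed Ω]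
    {ξ : Spec (CommRingCat.of Ω) ⟶ X} (z : (Scheme.pointSmallEtale ξ).fiber.obj U) :
    F.obj.obj (op U) →ₗ[Λ] (EtModW.stalk Λ ξ).obj F :=
  ((Scheme.pointSmallEtale ξ).toPresheafFiber U z F.obj).hom

theorem germ_app {F G : EtModW.Mod Λ X} (a : F ⟶ G) (U : X.Etale) {Ω : Type u} [Field Ω] [IsSepClosed Ω]
    {ξ : Spec (CommRingCat.of Ω) ⟶ X} (z : (Scheme.pointSmallEtale ξ).fiber.obj U) (c : F.obj.obj (op U)) :
    germ G U z (a.hom.app (op U) c) = (EtModW.stalk Λ ξ).map a (germ F U z c) :=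
  ((Scheme.pointSmallEtale ξ).toPresheafFiber_naturality_apply a.hom U z c).symm

theorem germ_res (F : EtModW.Mod Λ X) {U V : X.Etale} (g : V ⟶ U) {Ω : Type u} [Field Ω] [IsSepClosed Ω]
    {ξ : Spec (CommRingCat.of Ω) ⟶ X} (z : (Scheme.pointSmallEtale ξ).fiber.obj V) (c : F.obj.obj (op U)) :
    germ F V z (F.obj.map g.op c) = germ F U ((Scheme.pointSmallEtale ξ).fiber.map g z) c :=
  (Scheme.pointSmallEtale ξ).toPresheafFiber_w_apply g z F.obj c

/-- a finitely generated module of sections inducing all geometric stalks over `U` -/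
def FGConst (F : EtModW.Mod Λ X) (U : X.Etale) (S : Submodule Λ (F.obj.obj (op U))) : Prop :=
  S.FG ∧ ∀ (Ω : Type u) [Field Ω] [IsAlgClosed Ω] (ξ : Spec (CommRingCat.of Ω) ⟶ X)
    (z : (Scheme.pointSmallEtale ξ).fiber.obj U), Function.Bijective fun s : S => germ F U z s.1

theorem FGConst.restrict {F : EtModW.Mod Λ X} {U : X.Etale} {S : Submodule Λ (F.obj.obj (op U))}
    (h : FGConst F U S) {V : X.Etale} (g : V ⟶ U) : FGConst F V (S.map (F.obj.map g.op).hom) := by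
  let e : S → S.map (F.obj.map g.op).hom := fun s => ⟨F.obj.map g.op s.1, Submodule.mem_map_of_mem s.2⟩
  have he : Function.Surjective e := fun ⟨_, s, hs, rfl⟩ => ⟨⟨s, hs⟩, rfl⟩
  refine ⟨h.1.map _, fun Ω _ _ ξ z => ?_⟩
  let T := fun t : S.map (F.obj.map g.op).hom => germ F V z t.1
  have hT : Function.Bijective (T ∘ e) := by
    refine Eq.mp (congrArg Function.Bijective (funext fun s => ?_))
      (h.2 Ω ξ ((Scheme.pointSmallEtale ξ).fiber.map g z))
    exact (germ_res F g z s.1).symm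
  exact ⟨Function.Injective.of_comp_right hT.1 he, Function.Surjective.of_comp hT.2⟩

theorem fgConst_range {F : EtModW.Mod Λ X} {U : X.Etale} {M : ModuleCat.{u + 1} Λ} [Module.Finite Λ M]
    {φ : M ⟶ F.obj.obj (op U)} (h : EtFound.ConstBy F φ) : FGConst F U (LinearMap.range φ.hom) := by
  let e : M → LinearMap.range φ.hom := φ.hom.rangeRestrict
  have he : Function.Surjective e := φ.hom.surjective_rangeRestrict
  refine ⟨?_, fun Ω _ _ ξ z => ?_⟩
  · rw [LinearMap.range_eq_map]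
    exact Module.Finite.fg_top.map _
  · let T := fun t : LinearMap.range φ.hom => germ F U z t.1
    have hT : Function.Bijective (T ∘ e) := h Ω ξ z
    exact ⟨Function.Injective.of_comp_right hT.1 he, Function.Surjective.of_comp hT.2⟩

theorem FGConst.constBy {F : EtModW.Mod Λ X} {U : X.Etale} {S : Submodule Λ (F.obj.obj (op U))}
    (h : FGConst F U S) : EtFound.ConstBy F (ModuleCat.ofHom S.subtype : ModuleCat.of Λ S ⟶ _) :=
  fun Ω _ _ ξ z => h.2 Ω ξ z

/-- criterion for finite type local constancy -/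
theorem isFTLocConst_iff (F : EtModW.Mod Λ X) :
    EtModW.IsFTLocConst Λ F ↔
      ∀ x : X, ∃ (U : X.Etale) (p : U.left), U.hom.base p = x ∧ ∃ S, FGConst F U S := by
  refine ⟨fun ⟨ι, U, hU, h⟩ x => ?_, fun h => ?_⟩
  · obtain ⟨i, p, hp⟩ := hU x
    obtain ⟨M, iM, iM', fM, ⟨e⟩⟩ := h i
    obtain ⟨φ, hφ⟩ := EtFound.exists_constBy e
    exact ⟨U i, p, hp, _, fgConst_range hφ⟩
  · choose U p hp S hS using h
    refine ⟨X, U, fun x => ⟨x, p x, hp x⟩, fun x => ?_⟩
    exact ⟨S x, inferInstance, inferInstance, Module.Finite.iff_fg.2 (hS x).1,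
      EtFound.nonempty_restr_iso_const (hS x).constBy⟩

/-- two finite type locally constant sheaves are constant on a common neighbourhood -/
theorem exists_common {F G : EtModW.Mod Λ X} (hF : EtModW.IsFTLocConst Λ F)
    (hG : EtModW.IsFTLocConst Λ G) (x : X) :
    ∃ (Ω : Type u) (_ : Field Ω) (_ : IsAlgClosed Ω) (ξ : Spec (CommRingCat.of Ω) ⟶ X) (U : X.Etale)
      (_ : (Scheme.pointSmallEtale ξ).fiber.obj U) (S : Submodule Λ (F.obj.obj (op U)))
      (R : Submodule Λ (G.obj.obj (op U))),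
      ξ.base (default : Spec (CommRingCat.of Ω)) = x ∧ FGConst F U S ∧ FGConst G U R := by
  obtain ⟨U₁, p₁, hp₁, S, hS⟩ := (isFTLocConst_iff F).1 hF x
  obtain ⟨U₂, p₂, hp₂, R, hR⟩ := (isFTLocConst_iff G).1 hG x
  obtain ⟨Ω, _, _, ξ, u₁, hu₁⟩ := EtFound.exists_algClosed_point U₁ p₁
  have hξ : ξ.base (default : Spec (CommRingCat.of Ω)) = x := by
    rw [← hp₁, ← hu₁]
    exact (EtFound.base_of_point u₁).symm
  obtain ⟨u₂, -⟩ := Scheme.pointSmallEtaleFiberObjToPreimage_surjective ξ hξ U₂ ⟨p₂, hp₂⟩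
  obtain ⟨⟨W, w⟩, ⟨a, -⟩, ⟨b, -⟩, -⟩ := IsCofilteredOrEmpty.cone_objs
    ((Scheme.pointSmallEtale ξ).fiber.elementsMk U₁ u₁) ((Scheme.pointSmallEtale ξ).fiber.elementsMk U₂ u₂)
  exact ⟨Ω, inferInstance, inferInstance, ξ, W, w, _, _, hξ, hS.restrict a, hR.restrict b⟩

/-- near a point a morphism maps the constant sections into the constant sections -/
theorem exists_map_le {F G : EtModW.Mod Λ X} (φ : F ⟶ G) {U : X.Etale} {Ω : Type u} [Field Ω] [IsAlgClosed Ω]
    {ξ : Spec (CommRingCat.of Ω) ⟶ X} (u : (Scheme.pointSmallEtale ξ).fiber.obj U)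
    {P : Submodule Λ (F.obj.obj (op U))} {R : Submodule Λ (G.obj.obj (op U))}
    (hP : P.FG) (hR : FGConst G U R) :
    ∃ (V : X.Etale) (g : V ⟶ U) (v : (Scheme.pointSmallEtale ξ).fiber.obj V),
      (Scheme.pointSmallEtale ξ).fiber.map g v = u ∧
        ∀ p ∈ P.map (F.obj.map g.op).hom, φ.hom.app (op V) p ∈ R.map (G.obj.map g.op).hom := by
  obtain ⟨t, ht⟩ := hP
  choose r hr using fun s : t => (hR.2 Ω ξ u).2 (germ G U u (φ.hom.app (op U) s.1))
  obtain ⟨V, g, v, hv, hg⟩ := EtFound.exists_forall_eq G.obj u (fun s : t => (r s).1)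
    (fun s => φ.hom.app (op U) s.1) hr
  refine ⟨V, g, v, hv, ?_⟩
  suffices P ≤ ((R.map (G.obj.map g.op).hom).comap (φ.hom.app (op V)).hom).comap (F.obj.map g.op).hom by
    rintro _ ⟨p, hp, rfl⟩
    exact this hp
  rw [← ht, Submodule.span_le]
  intro s hs
  show φ.hom.app (op V) (F.obj.map g.op s) ∈ R.map (G.obj.map g.op).hom
  rw [NatTrans.naturality_apply φ.hom g.op s]
  exact ⟨_, (r ⟨s, hs⟩).2, hg ⟨s, hs⟩⟩

/-- kernels of finite type locally constant sheaves -/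
theorem isFTLocConst_of_kernel [IsNoetherianRing Λ] {S : ShortComplex (EtModW.Mod Λ X)} [Mono S.f] (hS : S.Exact)
    (h2 : EtModW.IsFTLocConst Λ S.X₂) (h3 : EtModW.IsFTLocConst Λ S.X₃) :
    EtModW.IsFTLocConst Λ S.X₁ := by
  rw [isFTLocConst_iff]
  intro x
  obtain ⟨Ω, _, _, ξ, U, u, P, R, hξ, hP, hR⟩ := exists_common h2 h3 x
  obtain ⟨V, g, v, hv, hg⟩ := exists_map_le S.g u hP.1 hR
  have hP' := hP.restrict g
  have hR' := hR.restrict g
  let K : Submodule Λ (S.X₁.obj.obj (op V)) := (P.map (S.X₂.obj.map g.op).hom).comap (S.f.hom.app (op V)).hom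
  have hin : ∀ (W : X.Etale), Function.Injective (S.f.hom.app (op W)) := fun W => app_injective S.f W
  refine ⟨V, _, (EtFound.base_of_point v).trans hξ, K, ?_, fun Ω' _ _ ζ z => ?_⟩
  · refine Submodule.fg_of_fg_map_injective _ (hin V) ?_
    have : Module.Finite Λ (P.map (S.X₂.obj.map g.op).hom) := Module.Finite.iff_fg.2 hP'.1
    have : IsNoetherian Λ (P.map (S.X₂.obj.map g.op).hom) := inferInstance
    have hle : K.map (S.f.hom.app (op V)).hom ≤ P.map (S.X₂.obj.map g.op).hom := Submodule.map_comap_le _ _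
    rw [← inf_eq_right.2 hle, ← Submodule.map_comap_subtype]
    exact (IsNoetherian.noetherian _).map _
  · have hnat := fun c => (germ_app S.f V z c).symm
    have hmono := stalk_map_injective S.f ζ
    have hex := (exact_iff_stalks S).1 hS Ω' ζ
    rw [ShortComplex.moduleCat_exact_iff] at hex
    refine ⟨fun a b e => Subtype.ext (hin V (congrArg Subtype.val ((hP'.2 Ω' ζ z).1
      (a₁ := ⟨_, a.2⟩) (a₂ := ⟨_, b.2⟩) ((hnat a.1).symm.trans ((congrArg _ e).trans (hnat b.1)))))), fun c => ?_⟩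
    obtain ⟨⟨s, hs⟩, hsc⟩ := (hP'.2 Ω' ζ z).2 ((EtModW.stalk Λ ζ).map S.f c)
    have h0 : S.g.hom.app (op V) s = 0 := by
      have e2 : germ S.X₃ V z (S.g.hom.app (op V) s) = 0 := by
        refine (germ_app S.g V z s).trans ((congrArg _ hsc).trans ?_)
        exact congr(($((S.map (EtModW.stalk Λ ζ)).zero)) c)
      exact congrArg Subtype.val ((hR'.2 Ω' ζ z).1 (a₁ := ⟨_, hg s hs⟩) (a₂ := 0) (e2.trans (map_zero _).symm))
    have hker : ∃ k, S.f.hom.app (op V) k = s := by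
      have h1 : (S.map (sheafToPresheaf _ _ ⋙ (evaluation _ (ModuleCat.{u + 1} Λ)).obj (op V))).Exact :=
        hS.map_of_mono_of_preservesKernel (sheafToPresheaf _ _ ⋙ (evaluation _ (ModuleCat.{u + 1} Λ)).obj (op V))
          inferInstance inferInstance
      rw [ShortComplex.moduleCat_exact_iff] at h1
      exact h1 s h0
    obtain ⟨k, rfl⟩ := hker
    exact ⟨⟨k, hs⟩, hmono ((hnat k).trans hsc)⟩

/-- cokernels of finite type locally constant sheaves -/
theorem isFTLocConst_of_cokernel {S : ShortComplex (EtModW.Mod Λ X)} [Epi S.g] (hS : S.Exact)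
    (h1 : EtModW.IsFTLocConst Λ S.X₁) (h2 : EtModW.IsFTLocConst Λ S.X₂) :
    EtModW.IsFTLocConst Λ S.X₃ := by
  rw [isFTLocConst_iff]
  intro x
  obtain ⟨Ω, _, _, ξ, U, u, P, R, hξ, hP, hR⟩ := exists_common h1 h2 x
  obtain ⟨V, g, v, hv, hg⟩ := exists_map_le S.f u hP.1 hR
  have hP' := hP.restrict g
  have hR' := hR.restrict g
  let C := (R.map (S.X₂.obj.map g.op).hom).map (S.g.hom.app (op V)).hom
  refine ⟨V, _, (EtFound.base_of_point v).trans hξ, C, hR'.1.map _, fun Ω' _ _ ζ z => ?_⟩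
  have hepi := stalk_map_surjective S.g ζ
  have hex := (exact_iff_stalks S).1 hS Ω' ζ
  rw [ShortComplex.moduleCat_exact_iff] at hex
  refine ⟨fun a b e => ?_, fun q => ?_⟩
  · obtain ⟨_, t, ht, rfl⟩ := a
    obtain ⟨_, t', ht', rfl⟩ := b
    refine Subtype.ext ?_
    have h0 : (EtModW.stalk Λ ζ).map S.g (germ S.X₂ V z (t - t')) = 0 := by
      refine (germ_app S.g V z _).symm.trans ?_
      rw [map_sub, map_sub]
      exact sub_eq_zero.2 e
    obtain ⟨y, hy⟩ := hex _ h0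
    obtain ⟨⟨p, hp⟩, rfl⟩ := (hP'.2 Ω' ζ z).2 y
    have e2 : S.f.hom.app (op V) p = t - t' := congrArg Subtype.val ((hR'.2 Ω' ζ z).1
      (a₁ := ⟨_, hg p hp⟩) (a₂ := ⟨_, sub_mem ht ht'⟩) ((germ_app S.f V z p).trans hy))
    have e3 : S.g.hom.app (op V) (S.f.hom.app (op V) p) = 0 := congr(($(S.zero)).hom.app (op V) p)
    rw [e2, map_sub, sub_eq_zero] at e3
    exact e3
  · obtain ⟨y, rfl⟩ := hepi q
    obtain ⟨⟨t, ht⟩, rfl⟩ := (hR'.2 Ω' ζ z).2 y
    exact ⟨⟨_, Submodule.mem_map_of_mem ht⟩, germ_app S.g V z t⟩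

/-- finitely many stalk lifting problems are solved on one neighbourhood -/
theorem exists_lifts {F G : EtModW.Mod Λ X} (φ : F ⟶ G) [Epi φ] {U : X.Etale} {Ω : Type u} [Field Ω]
    [IsSepClosed Ω] {ξ : Spec (CommRingCat.of Ω) ⟶ X} (u : (Scheme.pointSmallEtale ξ).fiber.obj U)
    (s : Finset (G.obj.obj (op U))) :
    ∃ (V : X.Etale) (g : V ⟶ U) (v : (Scheme.pointSmallEtale ξ).fiber.obj V)
      (e : G.obj.obj (op U) → F.obj.obj (op V)),
      (Scheme.pointSmallEtale ξ).fiber.map g v = u ∧ ∀ r ∈ s, φ.hom.app (op V) (e r) = G.obj.map g.op r := by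
  classical
  let Φ := Scheme.pointSmallEtale ξ
  induction s using Finset.induction with
  | empty => exact ⟨U, 𝟙 U, u, fun _ => 0, by simp, fun k hk => absurd hk (Finset.notMem_empty k)⟩
  | @insert r s hrs ih =>
    obtain ⟨V, g, v, e, hv, he⟩ := ih
    obtain ⟨q, hq⟩ := stalk_map_surjective φ ξ (Φ.toPresheafFiber U u G.obj r)
    obtain ⟨W, w, e₁, rfl⟩ := Φ.toPresheafFiber_jointly_surjective q
    have hq' := (Φ.toPresheafFiber_naturality_apply φ.hom W w e₁).symm.trans hq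
    obtain ⟨⟨T, t⟩, ⟨a, ha⟩, ⟨b, hb⟩, -⟩ := IsCofilteredOrEmpty.cone_objs
      (Φ.fiber.elementsMk V v) (Φ.fiber.elementsMk W w)
    obtain ⟨a', ha'⟩ : ∃ a' : T ⟶ V, Φ.fiber.map a' t = v := ⟨a, ha⟩
    obtain ⟨b', hb'⟩ : ∃ b' : T ⟶ W, Φ.fiber.map b' t = w := ⟨b, hb⟩
    rw [← hv, ← ha', ← hb', ← Functor.map_comp_apply, ← Φ.toPresheafFiber_w_apply, ← Φ.toPresheafFiber_w_apply] at hq'
    obtain ⟨T', c, t', ht', hc⟩ := (Φ.toPresheafFiber_eq_iff' T t _ _).1 hq'
    refine ⟨T', c ≫ a' ≫ g, t', fun r' => if r' = r then F.obj.map (c ≫ b').op e₁ else F.obj.map (c ≫ a').op (e r'),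
      by rw [Functor.map_comp_apply, Functor.map_comp_apply, ht', ha', hv], fun r' hr' => ?_⟩
    by_cases h : r' = r
    · subst h
      beta_reduce
      rw [if_pos rfl, NatTrans.naturality_apply φ.hom (c ≫ b').op e₁, op_comp, Functor.map_comp_apply,
        op_comp (f := c), Functor.map_comp_apply]
      exact hc
    · beta_reduce
      rw [if_neg h, NatTrans.naturality_apply φ.hom (c ≫ a').op (e r'),
        he r' ((Finset.mem_insert.1 hr').resolve_left h), ← Functor.map_comp_apply, ← op_comp, Category.assoc]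

/-- extensions of finite type locally constant sheaves -/
theorem isFTLocConst_of_extension [IsNoetherianRing Λ] {S : ShortComplex (EtModW.Mod Λ X)} (hS : S.ShortExact)
    (h1 : EtModW.IsFTLocConst Λ S.X₁) (h3 : EtModW.IsFTLocConst Λ S.X₃) :
    EtModW.IsFTLocConst Λ S.X₂ := by
  classical
  have := hS.mono_f
  have := hS.epi_g
  rw [isFTLocConst_iff]
  intro x
  obtain ⟨Ω, _, _, ξ, U, u, P, R, hξ, hP, hR⟩ := exists_common h1 h3 x
  obtain ⟨t, ht⟩ := hR.1
  obtain ⟨V, g, v, e, hv, he⟩ := exists_lifts S.g u t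
  have hP' := hP.restrict g
  have hR' := hR.restrict g
  have hgf : ∀ {W : X.Etale} c, S.g.hom.app (op W) (S.f.hom.app (op W) c) = 0 :=
    fun {W} c => congr(($(S.zero)).hom.app (op W) c)
  let L₂ : (t → Λ) →ₗ[Λ] S.X₂.obj.obj (op V) := Fintype.linearCombination Λ fun r => e r.1
  let L₃ : (t → Λ) →ₗ[Λ] S.X₃.obj.obj (op V) := (S.g.hom.app (op V)).hom ∘ₗ L₂
  have hR'eq : LinearMap.range L₃ = R.map (S.X₃.obj.map g.op).hom := by
    rw [LinearMap.range_comp, Fintype.range_linearCombination, Submodule.map_span, ← ht, Submodule.map_span]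
    congr 1
    ext y
    constructor
    · rintro ⟨_, ⟨r, rfl⟩, rfl⟩
      exact ⟨r.1, r.2, (he r.1 r.2).symm⟩
    · rintro ⟨r, hr, rfl⟩
      exact ⟨e r, ⟨⟨r, hr⟩, rfl⟩, he r hr⟩
  -- relations among the lifts
  obtain ⟨k, hk⟩ : (LinearMap.ker L₃).FG := IsNoetherian.noetherian _
  have hker : ∀ z : k, ∃ c, S.f.hom.app (op V) c = L₂ z.1 := fun z => by
    have h1 : (S.map (sheafToPresheaf _ _ ⋙ (evaluation _ (ModuleCat.{u + 1} Λ)).obj (op V))).Exact :=
      hS.exact.map_of_mono_of_preservesKernel (sheafToPresheaf _ _ ⋙ (evaluation _ (ModuleCat.{u + 1} Λ)).obj (op V))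
        inferInstance inferInstance
    rw [ShortComplex.moduleCat_exact_iff] at h1
    have hz : z.1 ∈ LinearMap.ker L₃ := by rw [← hk]; exact Submodule.subset_span z.2
    exact h1 _ (show L₃ z.1 = 0 from LinearMap.mem_ker.1 hz)
  choose c hc using hker
  choose p hp using fun z : k => (hP'.2 Ω ξ v).2 (germ S.X₁ V v (c z))
  obtain ⟨W, d, w, hw, hd⟩ := EtFound.exists_forall_eq S.X₁.obj v (fun z : k => (p z).1) c hp
  have hP'' := hP'.restrict d
  have hR'' := hR'.restrict d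
  let P'' := (P.map (S.X₁.obj.map g.op).hom).map (S.X₁.obj.map d.op).hom
  let M := P''.map (S.f.hom.app (op W)).hom ⊔ (LinearMap.range L₂).map (S.X₂.obj.map d.op).hom
  have hrel : ∀ a ∈ LinearMap.ker L₃, S.X₂.obj.map d.op (L₂ a) ∈ P''.map (S.f.hom.app (op W)).hom := by
    rw [← hk]
    refine Submodule.span_le.2 fun z hz =>
      show z ∈ (P''.map (S.f.hom.app (op W)).hom).comap ((S.X₂.obj.map d.op).hom ∘ₗ L₂) from ?_
    refine ⟨_, Submodule.mem_map_of_mem (p ⟨z, hz⟩).2, ?_⟩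
    refine (congrArg _ (hd ⟨z, hz⟩)).trans ?_
    exact (NatTrans.naturality_apply S.f.hom d.op _).trans (congrArg _ (hc ⟨z, hz⟩))
  refine ⟨W, _, ((EtFound.base_of_point w).trans hξ), M, (hP''.1.map _).sup ((Submodule.fg_range _).map _),
    fun Ω' _ _ ζ z => ?_⟩
  have hex := (exact_iff_stalks S).1 hS.exact Ω' ζ
  rw [ShortComplex.moduleCat_exact_iff] at hex
  have hfin := stalk_map_injective S.f ζ
  refine ⟨?_, fun q => ?_⟩
  · suffices key : ∀ m ∈ M, germ S.X₂ W z m = 0 → m = 0 by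
      intro a b hab
      exact Subtype.ext (sub_eq_zero.1 (key _ (sub_mem a.2 b.2) (by rw [map_sub]; exact sub_eq_zero.2 hab)))
    intro m hm h0
    obtain ⟨_, ⟨y, hy, rfl⟩, _, ⟨_, ⟨a, rfl⟩, rfl⟩, rfl⟩ := Submodule.mem_sup.1 hm
    have ha : a ∈ LinearMap.ker L₃ := by
      have e1 : germ S.X₃ W z (S.X₃.obj.map d.op (L₃ a)) = 0 := by
        have h' := congrArg (((EtModW.stalk Λ ζ).map S.g)) h0
        rw [map_zero, ← germ_app, map_add, hgf, zero_add, NatTrans.naturality_apply S.g.hom d.op] at h'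
        exact h'
      have hmem : L₃ a ∈ R.map (S.X₃.obj.map g.op).hom := hR'eq ▸ LinearMap.mem_range_self _ a
      have e2 : S.X₃.obj.map d.op (L₃ a) = 0 := congrArg Subtype.val ((hR''.2 Ω' ζ z).1
        (a₁ := ⟨_, Submodule.mem_map_of_mem hmem⟩) (a₂ := 0) (e1.trans (map_zero _).symm))
      have e3 : germ S.X₃ V ((Scheme.pointSmallEtale ζ).fiber.map d z) (L₃ a) = 0 := by
        rw [← germ_res, e2, map_zero]
      exact LinearMap.mem_ker.2 (congrArg Subtype.val ((hR'.2 Ω' ζ _).1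
        (a₁ := ⟨_, hmem⟩) (a₂ := 0) (e3.trans (map_zero _).symm)))
    obtain ⟨y', hy', hy'e⟩ := hrel a ha
    rw [← hy'e, ← map_add] at h0 ⊢
    rw [germ_app] at h0
    have h1' : germ S.X₁ W z (y + y') = 0 := hfin (h0.trans (map_zero _).symm)
    rw [show y + y' = 0 from congrArg Subtype.val ((hP''.2 Ω' ζ z).1
      (a₁ := ⟨_, add_mem hy hy'⟩) (a₂ := 0) (h1'.trans (map_zero _).symm)), map_zero]
  · obtain ⟨⟨_, r, hr, rfl⟩, hrq⟩ := (hR''.2 Ω' ζ z).2 ((EtModW.stalk Λ ζ).map S.g q)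
    obtain ⟨a, rfl⟩ : ∃ a, L₃ a = r := hR'eq.ge hr
    have h0 : (EtModW.stalk Λ ζ).map S.g (q - germ S.X₂ W z (S.X₂.obj.map d.op (L₂ a))) = 0 := by
      rw [map_sub, sub_eq_zero, ← germ_app, NatTrans.naturality_apply S.g.hom d.op]
      exact hrq.symm
    obtain ⟨y, hy⟩ := hex _ h0
    obtain ⟨⟨y', hy'⟩, rfl⟩ := (hP''.2 Ω' ζ z).2 y
    refine ⟨⟨S.f.hom.app (op W) y' + S.X₂.obj.map d.op (L₂ a), Submodule.add_mem_sup ⟨y', hy', rfl⟩ ⟨_, LinearMap.mem_range_self _ a, rfl⟩⟩, ?_⟩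
    show germ S.X₂ W z (_ + _) = q
    rw [map_add, germ_app, show (EtModW.stalk Λ ζ).map S.f (germ S.X₁ W z y') = _ from hy]
    exact sub_add_cancel _ _

end Groth.Agent.EtModLib
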