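import Groth.Agent.EtModLib.Constr
import Groth.Agent.EtFound.NoethACC
import Mathlib.CategoryTheory.Subobject.NoetherianObject

/-! constructible sheaves of modules on Noetherian schemes: subobjects, quotients, chain condition -/

universe u

open CategoryTheory CategoryTheory.Limits AlgebraicGeometry Opposite Topology TopologicalSpace

namespace Groth.Agent.EtModLib

set_option backward.isDefEq.respectTransparency.types false

variable {Λ : Type (u + 1)} [CommRing Λ] {X : Scheme.{u}}

/-- a piece near every point along its closure gives constructibility -/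
theorem isConstructible_of_generic [IsNoetherianRing Λ] [IsLocallyNoetherian X] {F : EtModW.Mod Λ X}
    (h : ∀ x : X, ∃ V : X.Opens, x ∈ V ∧ IsPiece F ((V : Set X) ∩ closure {x})) : EtModW.IsConstructible Λ F := by
  intro U hU
  haveI : NoetherianSpace ↥(U : Set X) := by
    have : IsNoetherianRing Γ(X, U) := IsLocallyNoetherian.component_noetherian ⟨U, hU⟩
    exact AlgebraicGeometry.noetherianSpace_of_isAffineOpen U hU
  have key : ∃ (n : ℕ) (E : Fin n → Set X), (∀ k, IsPiece F (E k) ∧ E k ⊆ U) ∧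
      (Set.univ : Set ↥(U : Set X)) ⊆ Subtype.val ⁻¹' ⋃ k, E k := by
    refine SpecLib.irred_induction (P := fun C : Set ↥(U : Set X) => ∃ (n : ℕ) (E : Fin n → Set X),
      (∀ k, IsPiece F (E k) ∧ E k ⊆ U) ∧ C ⊆ Subtype.val ⁻¹' ⋃ k, E k) ⟨0, Fin.elim0, fun k => k.elim0, by simp⟩
      (fun A B _ _ => ?_) (fun Y hY hirr ih => ?_) isClosed_univ
    · rintro ⟨n, E, hE, hA⟩ ⟨m, E', hE', hB⟩
      refine ⟨n + m, Fin.append E E', fun k => ?_, Set.union_subset (hA.trans ?_) (hB.trans ?_)⟩
      · refine Fin.addCases (fun i => ?_) (fun i => ?_) k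
        · rw [Fin.append_left]; exact hE i
        · rw [Fin.append_right]; exact hE' i
      · exact Set.preimage_mono (Set.iUnion_subset fun i => Set.subset_iUnion_of_subset (Fin.castAdd m i)
          (Fin.append_left E E' i).ge)
      · exact Set.preimage_mono (Set.iUnion_subset fun i => Set.subset_iUnion_of_subset (Fin.natAdd n i)
          (Fin.append_right E E' i).ge)
    · haveI : QuasiSober ↥(U : Set X) := U.isOpenEmbedding'.quasiSober
      have hx : IsGenericPoint hirr.genericPoint Y := by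
        simpa [hY.closure_eq] using hirr.isGenericPoint_genericPoint_closure
      obtain ⟨V, hxV, hV⟩ := h hirr.genericPoint.1
      let S := (V : Set X) ∩ (U : Set X) ∩ closure {hirr.genericPoint.1}
      have hS : IsPiece F S := hV.mono (fun y hy => ⟨hy.1.1, hy.2⟩)
        ((V.2.inter U.2).isLocallyClosed.inter isClosed_closure.isLocallyClosed)
      obtain ⟨n, E, hE, hEc⟩ := ih (Y ∩ (Subtype.val ⁻¹' (V : Set X))ᶜ)
        (hY.inter (V.2.preimage continuous_subtype_val).isClosed_compl)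
        (Set.inter_subset_left.ssubset_of_ne fun e => (e.ge hx.mem).2 hxV)
      refine ⟨n + 1, Fin.cons S E, fun k => ?_, fun y hy => ?_⟩
      · cases k using Fin.cases with
        | zero => exact ⟨hS, fun y hy => hy.1.2⟩
        | succ i => simpa using hE i
      · by_cases hyV : (y : X) ∈ V
        · refine Set.mem_iUnion.2 ⟨0, ⟨hyV, y.2⟩, ?_⟩
          exact ((hx.specializes hy).map continuous_subtype_val).mem_closure
        · obtain ⟨i, hi⟩ := Set.mem_iUnion.1 (hEc ⟨hy, hyV⟩)
          exact Set.mem_iUnion.2 ⟨i.succ, by simpa using hi⟩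
  obtain ⟨n, E, hE, hcov⟩ := key
  refine adaptedStrata_of_cover U.2.isLocallyClosed E (fun k => (hE k).1) (fun k => ?_)
    fun x hx => hcov (Set.mem_univ ⟨x, hx⟩)
  obtain ⟨O, C, hO, hC, e⟩ := (hE k).1.isLocallyClosed
  rw [e, Set.preimage_inter]
  exact (SpecLib.isConstructible_of_isOpen (hO.preimage continuous_subtype_val)).inter
    (SpecLib.isConstructible_of_isClosed (hC.preimage continuous_subtype_val))

/-- a constructible sheaf has a piece near every point along its closure -/
theorem exists_generic_piece {F : EtModW.Mod Λ X} (hF : EtModW.IsConstructible Λ F) (x : X) :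
    ∃ V : X.Opens, x ∈ V ∧ IsPiece F ((V : Set X) ∩ closure {x}) := by
  obtain ⟨U, hU, hxU, -⟩ := exists_isAffineOpen_mem_and_subset (U := (⊤ : X.Opens)) (x := x) trivial
  obtain ⟨n, E, hE, -, hu⟩ := exists_pieces (hF U hU)
  obtain ⟨k, hk⟩ := Set.mem_iUnion.1 (hu.ge hxU)
  obtain ⟨O, C, hO, hC, e⟩ := (hE k).isLocallyClosed
  rw [e] at hk
  exact ⟨⟨O, hO⟩, hk.1, (hE k).mono (fun y hy => e ▸ ⟨hy.1, closure_minimal (by simpa using hk.2) hC hy.2⟩)
    (hO.isLocallyClosed.inter isClosed_closure.isLocallyClosed)⟩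

/-- vanishing of a germ propagates to generisations -/
theorem germ_eq_zero_of_specializes {R : EtModW.Mod Λ X} {U : X.Etale} (s : R.obj.obj (op U))
    {Ω : Type u} [Field Ω] [IsSepClosed Ω] {ξ : Spec (CommRingCat.of Ω) ⟶ X} (u : (Scheme.pointSmallEtale ξ).fiber.obj U)
    {k : Type u} [Field k] [IsSepClosed k] {ζ : Spec (CommRingCat.of k) ⟶ X} (z : (Scheme.pointSmallEtale ζ).fiber.obj U)
    (h : (u.left : Spec (CommRingCat.of Ω) ⟶ U.left).base (default : Spec (CommRingCat.of Ω)) ⤳
      (z.left : Spec (CommRingCat.of k) ⟶ U.left).base (default : Spec (CommRingCat.of k)))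
    (h0 : (Scheme.pointSmallEtale ζ).toPresheafFiber U z R.obj s = 0) :
    (Scheme.pointSmallEtale ξ).toPresheafFiber U u R.obj s = 0 := by
  rw [← map_zero ((Scheme.pointSmallEtale ζ).toPresheafFiber U z R.obj).hom] at h0
  obtain ⟨V, f, v, hv, hf⟩ := ((Scheme.pointSmallEtale ζ).toPresheafFiber_eq_iff' U z _ _).1 h0
  rw [map_zero] at hf
  let g : V.left ⟶ U.left := f.left
  haveI hg : AlgebraicGeometry.Etale g := EtFound.etale_left f
  subst hv
  obtain ⟨y₀, hy₀⟩ := h.mem_open g.isOpenMap.isOpen_range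
    ⟨(v.left : Spec (CommRingCat.of k) ⟶ V.left).base (default : Spec (CommRingCat.of k)),
      (Scheme.Hom.comp_apply _ _ _).symm⟩
  obtain ⟨w, -⟩ := Scheme.pointSmallEtaleFiberObjToPreimage_surjective
    (u.left : Spec (CommRingCat.of Ω) ⟶ U.left) rfl (@Scheme.Etale.mk _ _ g hg) ⟨y₀, hy₀⟩
  let v₀ : (Scheme.pointSmallEtale ξ).fiber.obj V := CategoryTheory.Over.homMk (w.left : Spec (CommRingCat.of Ω) ⟶ V.left) (by
    refine (congrArg (fun q => (w.left : Spec (CommRingCat.of Ω) ⟶ V.left) ≫ q) (MorphismProperty.Over.w f).symm).trans ?_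
    refine (Category.assoc _ _ _).symm.trans ?_
    exact (congrArg (· ≫ U.hom) (CategoryTheory.Over.w w)).trans (CategoryTheory.Over.w u))
  have hv₀ : (Scheme.pointSmallEtale ξ).fiber.map f v₀ = u := CategoryTheory.Over.OverMorphism.ext (CategoryTheory.Over.w w)
  rw [← hv₀, ← (Scheme.pointSmallEtale ξ).toPresheafFiber_w_apply, hf, map_zero]

/-- injectivity on stalks does not change under extensions of the separably closed field -/
theorem injective_stalk_ext {F G : EtModW.Mod Λ X} (π : F ⟶ G) {k Ω : Type u} [Field k] [IsSepClosed k] [Field Ω]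
    [IsSepClosed Ω] (ξ : Spec (CommRingCat.of k) ⟶ X) (l : Spec (CommRingCat.of Ω) ⟶ Spec (CommRingCat.of k)) :
    Function.Injective ((EtModW.stalk Λ ξ).map π) ↔ Function.Injective ((EtModW.stalk Λ (l ≫ ξ)).map π) := by
  let e := EtFound.stalkExtIso (ModuleCat.{u + 1} Λ) ξ l
  have hF := ConcreteCategory.bijective_of_isIso (e.hom.app F)
  have hG := ConcreteCategory.bijective_of_isIso (e.hom.app G)
  have hn : ∀ x, e.hom.app G ((EtModW.stalk Λ ξ).map π x) = (EtModW.stalk Λ (l ≫ ξ)).map π (e.hom.app F x) :=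
    fun x => ConcreteCategory.congr_hom (e.hom.naturality π) x
  refine ⟨fun h a b hab => ?_, fun h a b hab => ?_⟩
  · obtain ⟨a, rfl⟩ := hF.2 a
    obtain ⟨b, rfl⟩ := hF.2 b
    exact congrArg _ (h (hG.1 ((hn a).trans (hab.trans (hn b).symm))))
  · exact hF.1 (h ((hn a).symm.trans ((congrArg _ hab).trans (hn b))))

/-- near a generic point of a finite locally constant sheaf injectivity only needs the generic stalk -/
theorem exists_injective_nhd [IsNoetherianRing Λ] [IsLocallyNoetherian X] {Ω : Type u} [Field Ω] [IsSepClosed Ω]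
    {ξ : Spec (CommRingCat.of Ω) ⟶ X} (ht : ∀ y, ξ.base (default : Spec (CommRingCat.of Ω)) ⤳ y) {G : EtModW.Mod Λ X}
    (hG : EtModW.IsFTLocConst Λ G) :
    ∃ O : X.Opens, ξ.base (default : Spec (CommRingCat.of Ω)) ∈ O ∧ ∀ (R : EtModW.Mod Λ X) (π : G ⟶ R),
      Function.Injective ((EtModW.stalk Λ ξ).map π) → ∀ (k : Type u) [Field k] [IsSepClosed k]
        (ζ : Spec (CommRingCat.of k) ⟶ X), ζ.base (default : Spec (CommRingCat.of k)) ∈ O →
          Function.Injective ((EtModW.stalk Λ ζ).map π) := by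
  obtain ⟨U, p, hp, S, hS⟩ := (isFTLocConst_iff G).1 hG (ξ.base (default : Spec (CommRingCat.of Ω)))
  have : AlgebraicGeometry.Etale U.hom := U.prop
  obtain ⟨W, hpW, hW⟩ := EtFound.exists_generic_open ht U hp
  refine ⟨⟨U.hom.base '' (W : Set U.left), U.hom.isOpenMap (W : Set U.left) W.2⟩, ⟨p, hpW, hp⟩, fun R π hπ k _ _ ζ ⟨q, hqW, hq⟩ => ?_⟩
  obtain ⟨u, hu⟩ := Scheme.pointSmallEtaleFiberObjToPreimage_surjective ξ rfl U ⟨p, hp⟩
  obtain ⟨Ω', _, _, ζ', z', hz'⟩ := EtFound.exists_algClosed_point U q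
  obtain ⟨L, _, _, a, e, he⟩ := EtFound.exists_lift_extension ζ' ζ ⟨default,
    (EtFound.base_of_point z').symm.trans ((congrArg _ hz').trans hq)⟩
  suffices h' : Function.Injective ((EtModW.stalk Λ ζ').map π) by
    have h1 := (injective_stalk_ext π ζ' a).1 h'
    rw [← he] at h1
    exact (injective_stalk_ext π ζ e).2 h1
  refine (injective_iff_map_eq_zero _).2 fun c hc => ?_
  obtain ⟨⟨s, hs⟩, rfl⟩ := (hS.2 Ω' ζ' z').2 c
  have hu0 : (Scheme.pointSmallEtale ξ).toPresheafFiber U u R.obj (π.hom.app (op U) s) = 0 := by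
    refine germ_eq_zero_of_specializes _ u z' ?_ (((Scheme.pointSmallEtale ζ').toPresheafFiber_naturality_apply π.hom U z' s).symm.trans hc)
    have hz := hW q hqW
    rw [show (u.left : Spec (CommRingCat.of Ω) ⟶ U.left).base (default : Spec (CommRingCat.of Ω)) = p from
      congrArg Subtype.val hu]
    rwa [hz']
  have hs0 : (Scheme.pointSmallEtale ξ).toPresheafFiber U u G.obj s = 0 := hπ
    (((Scheme.pointSmallEtale ξ).toPresheafFiber_naturality_apply π.hom U u s).trans (hu0.trans (map_zero _).symm))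
  obtain ⟨L₀, _, _, ξ₀, u₀, hu₀⟩ := EtFound.exists_algClosed_point U p
  have hs1 : (Scheme.pointSmallEtale ξ₀).toPresheafFiber U u₀ G.obj s = 0 :=
    germ_eq_zero_of_specializes s u₀ u (specializes_of_eq (hu₀.trans (congrArg Subtype.val hu).symm)) hs0
  have : s = 0 := congrArg Subtype.val ((hS.2 L₀ ξ₀ u₀).1 (a₁ := ⟨s, hs⟩) (a₂ := 0) (hs1.trans (map_zero _).symm))
  show (Scheme.pointSmallEtale ζ').toPresheafFiber U z' G.obj s = 0
  rw [this, map_zero]

/-- near a generic point the kernel out of a finite type locally constant sheaf is constant -/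
theorem exists_fgConst_kernel [IsNoetherianRing Λ] [IsLocallyNoetherian X] {t : X} (ht : ∀ y, t ⤳ y)
    {G R : EtModW.Mod Λ X} (hG : EtModW.IsFTLocConst Λ G) (π : G ⟶ R) :
    ∃ (U : X.Etale) (p : U.left), U.hom.base p = t ∧ ∃ S, FGConst (kernel π) U S := by
  obtain ⟨U, p, hp, S, hS⟩ := (isFTLocConst_iff G).1 hG t
  obtain ⟨W, hpW, hW⟩ := EtFound.exists_generic_open ht U hp
  have : AlgebraicGeometry.Etale U.hom := U.prop
  let U' : X.Etale := Scheme.Etale.mk (W.ι ≫ U.hom)
  let r : U' ⟶ U := MorphismProperty.Over.homMk W.ι rfl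
  obtain ⟨Ω, _, _, ξ, u', hu''⟩ := EtFound.exists_algClosed_point U' (⟨p, hpW⟩ : W.toScheme)
  let u := (Scheme.pointSmallEtale ξ).fiber.map r u'
  have hu : (u.left : Spec (CommRingCat.of Ω) ⟶ U.left).base (default : Spec (CommRingCat.of Ω)) = p :=
    (Scheme.Hom.comp_apply _ _ _).trans (congrArg W.ι.base hu'')
  have hu' : (Scheme.pointSmallEtale ξ).fiber.map r u' = u := rfl
  -- the sections killed at the generic point
  let K₀ : Submodule Λ (G.obj.obj (op U)) := S ⊓ LinearMap.ker ((germ R U u) ∘ₗ (π.hom.app (op U)).hom)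
  have hK₀ : K₀.FG := by
    have : Module.Finite Λ S := Module.Finite.iff_fg.2 hS.1
    have hle : K₀ ≤ S := inf_le_left
    have h2 : (Submodule.map S.subtype (Submodule.comap S.subtype K₀)).FG := (IsNoetherian.noetherian _).map _
    rwa [Submodule.map_comap_subtype, inf_eq_right.2 hle] at h2
  obtain ⟨gen, hgen⟩ := hK₀
  obtain ⟨V, g, v, hv, hg⟩ := EtFound.exists_forall_eq R.obj u'
    (fun s : gen => π.hom.app (op U') (G.obj.map r.op s.1)) (fun _ => 0) fun s => by
      have h0 : germ R U u (π.hom.app (op U) s.1) = 0 := (hgen ▸ Submodule.subset_span s.2 : s.1 ∈ K₀).2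
      refine Eq.trans ?_ (map_zero _).symm
      rw [NatTrans.naturality_apply π.hom r.op]
      refine (germ_res R r u' _).trans ?_
      rw [hu']
      exact h0
  have hvan : ∀ s ∈ K₀, π.hom.app (op V) (G.obj.map (g ≫ r).op s) = 0 := by
    suffices K₀ ≤ LinearMap.ker ((π.hom.app (op V)).hom ∘ₗ (G.obj.map (g ≫ r).op).hom) from fun s hs => this hs
    rw [← hgen, Submodule.span_le]
    intro s hs
    show π.hom.app (op V) (G.obj.map (g ≫ r).op s) = 0
    rw [op_comp, Functor.map_comp_apply, NatTrans.naturality_apply π.hom g.op]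
    exact (hg ⟨s, hs⟩).trans (map_zero _)
  have hS' := hS.restrict (g ≫ r)
  let K : Submodule Λ ((kernel π).obj.obj (op V)) :=
    (S.map (G.obj.map (g ≫ r).op).hom).comap ((kernel.ι π).hom.app (op V)).hom
  have hin := app_injective (kernel.ι π) V
  refine ⟨V, (v.left : Spec (CommRingCat.of Ω) ⟶ V.left).base (default : Spec (CommRingCat.of Ω)),
    (EtFound.base_of_point v).trans ((EtFound.base_of_point u).symm.trans ((congrArg _ hu).trans hp)), K, ?_,
    fun Ω' _ _ ζ z => ?_⟩
  · refine Submodule.fg_of_fg_map_injective _ hin ?_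
    have : Module.Finite Λ (S.map (G.obj.map (g ≫ r).op).hom) := Module.Finite.iff_fg.2 hS'.1
    rw [← inf_eq_right.2 (Submodule.map_comap_le _ _), ← Submodule.map_comap_subtype]
    exact (IsNoetherian.noetherian _).map _
  · have hnat := fun c => (germ_app (kernel.ι π) V z c).symm
    refine ⟨fun a b e => Subtype.ext (hin (congrArg Subtype.val ((hS'.2 Ω' ζ z).1
      (a₁ := ⟨_, a.2⟩) (a₂ := ⟨_, b.2⟩) ((hnat a.1).symm.trans ((congrArg _ e).trans (hnat b.1)))))), fun c => ?_⟩
    obtain ⟨⟨_, s, hs, rfl⟩, hsc⟩ := (hS'.2 Ω' ζ z).2 ((EtModW.stalk Λ ζ).map (kernel.ι π) c)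
    have e0 : germ R V z (π.hom.app (op V) (G.obj.map (g ≫ r).op s)) = 0 := by
      refine (germ_app π V z _).trans ((congrArg _ hsc).trans ?_)
      have h2 : (EtModW.stalk Λ ζ).map (kernel.ι π) ≫ (EtModW.stalk Λ ζ).map π = 0 := by
        rw [← Functor.map_comp, kernel.condition, Functor.map_zero]
      exact congr($h2 c)
    have hs₀ : s ∈ K₀ := by
      refine ⟨hs, ?_⟩
      show germ R U u (π.hom.app (op U) s) = 0
      let zU := (Scheme.pointSmallEtale ζ).fiber.map (g ≫ r) z
      refine germ_eq_zero_of_specializes _ u zU ?_ ?_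
      · rw [hu]
        refine hW _ ?_
        show W.ι.base _ ∈ W
        exact Subtype.prop _
      · show germ R U zU _ = 0
        rw [← germ_res, ← NatTrans.naturality_apply π.hom]
        exact e0
    obtain ⟨k, hk⟩ : ∃ k, (kernel.ι π).hom.app (op V) k = G.obj.map (g ≫ r).op s := by
      let T := ShortComplex.mk (kernel.ι π) π (kernel.condition π)
      have h1 := (ShortComplex.exact_of_f_is_kernel T (kernelIsKernel π)).map_of_mono_of_preservesKernel
        (sheafToPresheaf _ _ ⋙ (evaluation _ (ModuleCat.{u + 1} Λ)).obj (op V)) inferInstance inferInstance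
      rw [ShortComplex.moduleCat_exact_iff] at h1
      exact h1 _ (hvan s hs₀)
    refine ⟨⟨k, show (kernel.ι π).hom.app (op V) k ∈ S.map (G.obj.map (g ≫ r).op).hom from hk ▸
      Submodule.mem_map_of_mem hs⟩, stalk_map_injective (kernel.ι π) ζ ?_⟩
    exact (hnat k).trans ((congrArg _ hk).trans hsc)

/-- on a locally Noetherian scheme kernels out of constructible sheaves are constructible -/
theorem isConstructible_kernel_noeth [IsNoetherianRing Λ] [IsLocallyNoetherian X] {F Q : EtModW.Mod Λ X} (hF : EtModW.IsConstructible Λ F)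
    (π : F ⟶ Q) : EtModW.IsConstructible Λ (kernel π) := by
  refine isConstructible_of_generic fun x => ?_
  obtain ⟨V, hxV, T, g, hg, hr, hT⟩ := exists_generic_piece hF x
  obtain ⟨t, rfl⟩ : x ∈ Set.range g.base := hr ▸ ⟨hxV, subset_closure rfl⟩
  have : IsLocallyNoetherian T := LocallyOfFiniteType.isLocallyNoetherian g
  have ht : ∀ y, t ⤳ y := fun y => g.isEmbedding.isInducing.specializes_iff.1
    (specializes_iff_mem_closure.2 ((hr.le ⟨y, rfl⟩).2))
  obtain ⟨U, p, hp, S, hS⟩ := exists_fgConst_kernel ht hT ((EtModW.pull Λ g).map π)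
  have := hS.1
  have : AlgebraicGeometry.Etale U.hom := U.prop
  let O : T.Opens := ⟨Set.range U.hom.base, U.hom.isOpenMap.isOpen_range⟩
  obtain ⟨V₀, hV₀, hOV⟩ := g.isEmbedding.isInducing.isOpen_iff.1 O.2
  have htV : g.base t ∈ V₀ := show t ∈ g.base ⁻¹' V₀ from hOV ▸ ⟨p, hp⟩
  refine ⟨V ⊓ ⟨V₀, hV₀⟩, ⟨hxV, htV⟩, O.toScheme, O.ι ≫ g, inferInstance, ?_, ?_⟩
  · rw [Scheme.Hom.comp_base, TopCat.coe_comp, Set.range_comp, O.range_ι]
    show g.base '' Set.range U.hom.base = _
    rw [← show g.base ⁻¹' V₀ = Set.range U.hom.base from hOV, Set.image_preimage_eq_range_inter, hr]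
    exact (Set.inter_right_comm _ _ _).trans rfl
  · refine isFTLocConst_of_iso (((EtModW.pull Λ O.ι).mapIso (PreservesKernel.iso (EtModW.pull Λ g) π)).symm ≪≫
      ((pullComp O.ι g).app _).symm) ((isFTLocConst_iff _).2 fun y => ?_)
    obtain ⟨z, hz⟩ : O.ι.base y ∈ (O : Set T) := y.2
    obtain ⟨w, -, hw⟩ := Scheme.Pullback.exists_preimage_pullback (f := U.hom) (g := O.ι) z y hz
    have : Module.Finite Λ (ModuleCat.of Λ S) := Module.Finite.iff_fg.2 hS.1
    exact ⟨_, w, hw, _, fgConst_range (EtFound.constBy_pull O.ι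
      (φ := (ModuleCat.ofHom S.subtype : ModuleCat.of Λ S ⟶ (kernel ((EtModW.pull Λ g).map π)).obj.obj (op U)))
      (fun Ω _ _ ξ z => hS.2 Ω ξ z))⟩

/-- on a locally Noetherian scheme quotients of constructible sheaves are constructible -/
theorem isConstructible_of_epi [IsNoetherianRing Λ] [IsLocallyNoetherian X] {F Q : EtModW.Mod Λ X} (hF : EtModW.IsConstructible Λ F)
    (π : F ⟶ Q) [Epi π] : EtModW.IsConstructible Λ Q := by
  have h := isConstructible_cokernel (kernel.ι π) (isConstructible_kernel_noeth hF π) hF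
  refine isConstructible_of_two h h fun T g h1 _ => isFTLocConst_of_iso ((EtModW.pull Λ g).mapIso ?_) h1
  exact IsColimit.coconePointUniqueUpToIso (cokernelIsCokernel (kernel.ι π))
    (Abelian.epiIsCokernelOfKernel _ (limit.isLimit _))

/-- stalks of constructible sheaves are finitely generated -/
theorem finite_stalk_of_isConstructible {F : EtModW.Mod Λ X} (hF : EtModW.IsConstructible Λ F) {Ω : Type u} [Field Ω]
    [IsSepClosed Ω] (ξ : Spec (CommRingCat.of Ω) ⟶ X) : Module.Finite Λ ((EtModW.stalk Λ ξ).obj F) := by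
  obtain ⟨V, hV, T, g, hg, hr, hT⟩ := exists_generic_piece hF (ξ.base (default : Spec (CommRingCat.of Ω)))
  obtain ⟨t, ht⟩ : ξ.base (default : Spec (CommRingCat.of Ω)) ∈ Set.range g.base := hr.ge ⟨hV, subset_closure rfl⟩
  obtain ⟨U, p, hp, S, hS⟩ := (isFTLocConst_iff _).1 hT t
  obtain ⟨k, _, _, ζ, z, hz⟩ := EtFound.exists_algClosed_point U p
  have : Module.Finite Λ S := Module.Finite.iff_fg.2 hS.1
  obtain ⟨e⟩ := nonempty_stalk_iso F (ζ ≫ g) ξ ((Scheme.Hom.comp_apply _ _ _).trans
    ((congrArg g.base ((EtFound.base_of_point z).symm.trans ((congrArg _ hz).trans hp))).trans ht))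
  exact Module.Finite.equiv ((LinearEquiv.ofBijective ((germ _ U z) ∘ₗ S.subtype) (hS.2 k ζ z)).trans
    (((stalkPullIso g ζ).app F) ≪≫ e).toLinearEquiv)

/-- injectivity on stalks only depends on the image point -/
theorem injective_stalk_congr {F G : EtModW.Mod Λ X} (π : F ⟶ G) {k k' : Type u} [Field k] [IsSepClosed k] [Field k']
    [IsSepClosed k'] (ξ : Spec (CommRingCat.of k) ⟶ X) (ξ' : Spec (CommRingCat.of k') ⟶ X)
    (h : ξ.base (default : Spec (CommRingCat.of k)) = ξ'.base (default : Spec (CommRingCat.of k')))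
    (hinj : Function.Injective ((EtModW.stalk Λ ξ).map π)) : Function.Injective ((EtModW.stalk Λ ξ').map π) := by
  obtain ⟨Ω, _, _, z, e, he⟩ := EtFound.exists_lift_extension ξ ξ' ⟨default, h⟩
  have h1 := (injective_stalk_ext π ξ z).1 hinj
  rw [← he] at h1
  exact (injective_stalk_ext π ξ' e).2 h1

/-- sequences of quotients of constructible sheaves are eventually constant -/
theorem exists_isIso_of_epi_sequence [IsNoetherianRing Λ] [IsLocallyNoetherian X] [CompactSpace X] (Q : ℕ → EtModW.Mod Λ X)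
    (hQ : ∀ m, EtModW.IsConstructible Λ (Q m)) (π : ∀ {a b : ℕ}, a ≤ b → (Q a ⟶ Q b))
    (hπ : ∀ {a b : ℕ} (h : a ≤ b), Epi (π h))
    (hcomp : ∀ {a b c : ℕ} (h : a ≤ b) (h' : b ≤ c), π h ≫ π h' = π (h.trans h')) :
    ∃ N, ∀ m (h : N ≤ m), IsIso (π h) := by
  haveI : IsNoetherian X := {}
  let Good : Set X → ℕ → Prop := fun C N => ∀ m (h : N ≤ m), ∀ (k : Type u) [Field k] [IsSepClosed k]
    (ζ : Spec (CommRingCat.of k) ⟶ X), ζ.base (default : Spec (CommRingCat.of k)) ∈ C →
      Function.Injective ((EtModW.stalk Λ ζ).map (π h))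
  have hsurj : ∀ {a b : ℕ} (h : a ≤ b) (k : Type u) [Field k] [IsSepClosed k] (ζ : Spec (CommRingCat.of k) ⟶ X),
      Function.Surjective ((EtModW.stalk Λ ζ).map (π h)) := fun h k _ _ ζ => (epi_iff_stalks _).1 (hπ h) k ζ
  have hmap : ∀ {a b c : ℕ} (h : a ≤ b) (h' : b ≤ c) (k : Type u) [Field k] [IsSepClosed k]
      (ζ : Spec (CommRingCat.of k) ⟶ X) x, (EtModW.stalk Λ ζ).map (π h') ((EtModW.stalk Λ ζ).map (π h) x) =
        (EtModW.stalk Λ ζ).map (π (h.trans h')) x := fun h h' k _ _ ζ x => by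
    rw [← hcomp h h', Functor.map_comp]
    rfl
  have mono : ∀ {C : Set X} {N N' : ℕ}, N ≤ N' → Good C N → Good C N' := fun {C N N'} hN hg m h k _ _ ζ hζ a b e => by
    obtain ⟨a, rfl⟩ := hsurj hN k ζ a
    obtain ⟨b, rfl⟩ := hsurj hN k ζ b
    rw [hmap, hmap] at e
    rw [hg m (hN.trans h) k ζ hζ e]
  obtain ⟨N, hN⟩ : ∃ N, Good Set.univ N := by
    refine SpecLib.irred_induction (P := fun C => ∃ N, Good C N) ⟨0, fun m h k _ _ ζ hζ => hζ.elim⟩
      (fun A B _ _ ⟨a, ha⟩ ⟨b, hb⟩ => ⟨max a b, fun m h k _ _ ζ hζ => hζ.elim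
        (mono (le_max_left a b) ha m h k ζ) (mono (le_max_right a b) hb m h k ζ)⟩) (fun Y hY hirr ih => ?_) isClosed_univ
    have hx : IsGenericPoint hirr.genericPoint Y := by
      simpa [hY.closure_eq] using hirr.isGenericPoint_genericPoint_closure
    obtain ⟨Ω, _, _, ξ₀, hξ₀⟩ := EtFound.exists_geomPoint hirr.genericPoint
    -- stabilisation at the generic point
    have hfin : ∀ m, Module.Finite Λ ((EtModW.stalk Λ ξ₀).obj (Q m)) := fun m => finite_stalk_of_isConstructible (hQ m) ξ₀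
    obtain ⟨N₀, hN₀⟩ : ∃ N₀, ∀ m (h : N₀ ≤ m), Function.Injective ((EtModW.stalk Λ ξ₀).map (π h)) := by
      have := hfin 0
      let K : ℕ →o Submodule Λ ((EtModW.stalk Λ ξ₀).obj (Q 0)) :=
        ⟨fun m => LinearMap.ker ((EtModW.stalk Λ ξ₀).map (π (Nat.zero_le m))).hom, fun a b h x hx => by
          show (EtModW.stalk Λ ξ₀).map (π (Nat.zero_le b)) x = 0
          rw [← hmap (Nat.zero_le a) h Ω ξ₀, show (EtModW.stalk Λ ξ₀).map (π (Nat.zero_le a)) x = 0 from hx, map_zero]⟩
      obtain ⟨N₀, h₀⟩ := monotone_stabilizes_iff_noetherian.mpr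
        (inferInstance : IsNoetherian Λ ((EtModW.stalk Λ ξ₀).obj (Q 0))) K
      refine ⟨N₀, fun m h => (injective_iff_map_eq_zero _).2 fun x hx => ?_⟩
      obtain ⟨y, rfl⟩ := hsurj (Nat.zero_le N₀) Ω ξ₀ x
      rw [hmap] at hx
      exact (h₀ m h).ge hx
    obtain ⟨V, hxV, T, g, hg, hr, hT⟩ := exists_generic_piece (hQ N₀) hirr.genericPoint
    obtain ⟨t, ht⟩ : hirr.genericPoint ∈ Set.range g.base := hr.ge ⟨hxV, subset_closure rfl⟩
    have : IsLocallyNoetherian T := LocallyOfFiniteType.isLocallyNoetherian g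
    obtain ⟨Ω', _, _, ξ', rfl⟩ := EtFound.exists_geomPoint t
    have htg : ∀ y, ξ'.base (default : Spec (CommRingCat.of Ω')) ⤳ y := fun y => g.isEmbedding.isInducing.specializes_iff.1
      ((specializes_of_eq ht).trans (specializes_iff_mem_closure.2 ((hr.le ⟨y, rfl⟩).2)))
    obtain ⟨O, hξO, hO⟩ := exists_injective_nhd htg hT
    obtain ⟨O', hO', hOe⟩ := g.isEmbedding.isInducing.isOpen_iff.1 O.2
    let V' : Set X := V ∩ O'
    obtain ⟨N₁, hN₁⟩ := ih (Y ∩ V'ᶜ) (hY.inter (V.2.inter hO').isClosed_compl)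
      (Set.inter_subset_left.ssubset_of_ne fun e => (e.ge hx.mem).2
        ⟨hxV, Set.mem_of_eq_of_mem ht.symm (hOe.ge hξO)⟩)
    refine ⟨max N₀ N₁, fun m h k _ _ ζ hζ => ?_⟩
    by_cases hζV : ζ.base (default : Spec (CommRingCat.of k)) ∈ V'
    · suffices key : ∀ m (h : N₀ ≤ m), Function.Injective ((EtModW.stalk Λ ζ).map (π h)) by
        exact mono (C := {ζ.base (default : Spec (CommRingCat.of k))}) (le_max_left N₀ N₁)
          (fun m h k' _ _ ζ' h' => injective_stalk_congr _ ζ ζ' (Set.mem_singleton_iff.1 h').symm (key m h)) m h k ζ rfl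
      intro m h
      obtain ⟨y, hy⟩ : ζ.base (default : Spec (CommRingCat.of k)) ∈ Set.range g.base :=
        hr.ge ⟨hζV.1, (hx.specializes hζ).mem_closure⟩
      obtain ⟨k', _, _, ζ', hζ'⟩ := EtFound.exists_geomPoint y
      refine injective_stalk_congr _ (ζ' ≫ g) ζ ((Scheme.Hom.comp_apply _ _ _).trans ((congrArg g.base hζ').trans hy)) ?_
      have htrans : ∀ (L : Type u) [Field L] [IsSepClosed L] (η : Spec (CommRingCat.of L) ⟶ T),
          Function.Injective ((EtModW.stalk Λ (η ≫ g)).map (π h)) ↔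
            Function.Injective ((EtModW.stalk Λ η).map ((EtModW.pull Λ g).map (π h))) := fun L _ _ η => by
        rw [← ModuleCat.mono_iff_injective, ← ModuleCat.mono_iff_injective]
        exact (MorphismProperty.monomorphisms _).arrow_mk_iso_iff
          (Arrow.isoMk ((stalkPullIso g η).app _).symm ((stalkPullIso g η).app _).symm
            ((stalkPullIso g η).inv.naturality (π h)).symm)
      refine (htrans k' ζ').2 (hO _ _ ((htrans Ω' ξ').1 ?_) k' ζ' ?_)
      · refine injective_stalk_congr _ ξ₀ (ξ' ≫ g) (hξ₀.trans (ht.symm.trans (Scheme.Hom.comp_apply _ _ _).symm)) ?_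
        exact hN₀ m h
      · refine hOe.le (show g.base _ ∈ O' from ?_)
        rw [hζ', hy]
        exact hζV.2
    · exact mono (C := Y ∩ V'ᶜ) (le_max_right N₀ N₁) hN₁ m h k ζ ⟨hζ, hζV⟩
  refine ⟨N, fun m h => ?_⟩
  have := hπ h
  have : Mono (π h) := (mono_iff_stalks _).2 fun k _ _ ζ => hN m h k ζ (Set.mem_univ _)
  exact isIso_of_mono_of_epi _

/-- ascending chains of constructible subobjects of a constructible sheaf stabilise -/
theorem subobject_chain_stabilises [IsNoetherianRing Λ] [IsLocallyNoetherian X] [CompactSpace X] {F : EtModW.Mod Λ X}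
    (hF : EtModW.IsConstructible Λ F) (c : ℕ →o Subobject F) : ∃ N, ∀ m, N ≤ m → c m = c N := by
  let π : ∀ {a b : ℕ}, a ≤ b → (cokernel (c a).arrow ⟶ cokernel (c b).arrow) := fun {a b} h =>
    cokernel.desc _ (cokernel.π (c b).arrow) (by
      rw [← Subobject.ofLE_arrow (c.monotone h), Category.assoc, cokernel.condition, comp_zero])
  have hfac : ∀ {a b : ℕ} (h : a ≤ b), cokernel.π (c a).arrow ≫ π h = cokernel.π (c b).arrow :=
    fun h => cokernel.π_desc _ _ _
  obtain ⟨N, hN⟩ := exists_isIso_of_epi_sequence (fun m => cokernel (c m).arrow)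
    (fun m => isConstructible_of_epi hF (cokernel.π _)) π (fun h => epi_of_epi_fac (hfac h))
    (fun {a b d} h h' => (cancel_epi (cokernel.π (c a).arrow)).1 (by rw [← Category.assoc, hfac h, hfac h', hfac (h.trans h')]))
  refine ⟨N, fun m h => le_antisymm ?_ (c.monotone h)⟩
  have := hN m h
  have e : (c m).arrow ≫ cokernel.π (c N).arrow = 0 := (cancel_mono (π h)).1 (by
    rw [Category.assoc, hfac h, cokernel.condition, zero_comp])
  exact Subobject.le_of_comm (Abelian.monoLift _ _ e) (Abelian.monoLift_comp _ _ e)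

/-- quotients and subobjects; constructible sheaves are Noetherian objects -/
theorem isConstructible_of_mono [IsNoetherianRing Λ] [IsLocallyNoetherian X] {F G : EtModW.Mod Λ X}
    (i : F ⟶ G) [Mono i] (hG : EtModW.IsConstructible Λ G) : EtModW.IsConstructible Λ F :=
  isConstructible_of_iso (IsLimit.conePointUniqueUpToIso (kernelIsKernel (cokernel.π i))
    (Abelian.monoIsKernelOfCokernel _ (colimit.isColimit _))) (isConstructible_kernel_noeth hG (cokernel.π i))

theorem isNoetherianObject_of_isConstructible [IsNoetherianRing Λ] [IsLocallyNoetherian X] [CompactSpace X]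
    {F : EtModW.Mod Λ X} (hF : EtModW.IsConstructible Λ F) : IsNoetherianObject F := by
  rw [isNoetherianObject_iff_monotone_chain_condition]
  intro c
  obtain ⟨N, hN⟩ := subobject_chain_stabilises hF c
  exact ⟨N, fun m hm => (hN m hm).symm⟩

end Groth.Agent.EtModLib
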