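import Groth.Agent.EtModLib.ProEtLim
import Groth.Agent.EtModLib.ARConstr
import Groth.Agent.ARLib.StrictChains

/-! adic pro-etale sheaves: kernels, cokernels and chains -/

universe u

open CategoryTheory CategoryTheory.Limits AlgebraicGeometry Opposite ARSys

namespace Groth.Agent.EtModLib

set_option backward.isDefEq.respectTransparency.types false

variable {Λ : Type (u + 1)} [CommRing Λ] {X : Scheme.{u}} [ProEtS.EpsCont X]

variable (Λ X) in
/-- limits of the pulled back systems -/
noncomputable abbrev limEps : PS (EtModW.Mod Λ X) ⥤ EtModW.ModP Λ X :=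
  (Functor.whiskeringRight ℕᵒᵖ (EtModW.Mod Λ X) (EtModW.ModP Λ X)).obj (EtModW.epsPullMod Λ X) ⋙ lim

instance limEps_preservesFiniteLimits : PreservesFiniteLimits (limEps Λ X) := by
  have : PreservesFiniteLimits (lim : (ℕᵒᵖ ⥤ EtModW.ModP Λ X) ⥤ EtModW.ModP Λ X) :=
    have := (constLimAdj (J := ℕᵒᵖ) (C := EtModW.ModP Λ X)).rightAdjoint_preservesLimits
    inferInstance
  have : PreservesFiniteLimits ((Functor.whiskeringRight ℕᵒᵖ (EtModW.Mod Λ X) (EtModW.ModP Λ X)).obj
      (EtModW.epsPullMod Λ X)) := ⟨fun J _ _ => inferInstance⟩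
  exact comp_preservesFiniteLimits _ _

instance limEps_additive : (limEps Λ X).Additive := Functor.additive_of_preserves_binary_products _

theorem shortExact_limEps {S : ShortComplex (PS (EtModW.Mod Λ X))} (hS : S.ShortExact) (hA : IsMLAR S.X₁) :
    (S.map (limEps Λ X)).ShortExact := by
  obtain ⟨r, hr⟩ := (isMLAR_iff_mlCond _).1 hA
  have := hS.mono_f
  exact ShortComplex.ShortExact.mk' (hS.exact.map_of_mono_of_preservesKernel (limEps Λ X) inferInstance inferInstance)
    (inferInstanceAs (Mono ((limEps Λ X).map S.f))) (epi_limMap_of_mlar hS hr)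

variable [IsNoetherianRing Λ] [IsNoetherian X] {I : Ideal Λ}

theorem adicP_kernel_cokernel {F G : EtModW.ModP Λ X} (hF : AdicP I F) (hG : AdicP I G) (w : F ⟶ G) :
    AdicP I (kernel w) ∧ AdicP I (cokernel w) := by
  have hI : I.FG := IsNoetherian.noetherian I
  obtain ⟨A, hA, hAc, ⟨a⟩⟩ := (adicP_iff hI F).1 hF
  obtain ⟨B, hB, hBc, ⟨b⟩⟩ := (adicP_iff hI G).1 hG
  obtain ⟨u, hu, -⟩ := existsUnique_limMap hI hA hB (a.hom ≫ w ≫ b.inv)
  have hu' : (limEps Λ X).map u = a.hom ≫ w ≫ b.inv := hu
  have hw : (limEps Λ X).map u ≫ b.hom = a.hom ≫ w := by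
    rw [hu', Category.assoc, Category.assoc, b.inv_hom_id, Category.comp_id]
  have hA' := ARLib.isARAdicNoeth_of_adicNoeth (isAdicNoeth_of_constr hA hAc)
  have hB' := ARLib.isARAdicNoeth_of_adicNoeth (isAdicNoeth_of_constr hB hBc)
  obtain ⟨hK, -⟩ := ARLib.isARAdicNoeth_kernel_cokernel u hA' hB'
  constructor
  · have hKc : ∀ n : ℕ, EtModW.IsConstructible Λ ((kernel u).obj (op n)) := fun n => by
      have := (NatTrans.mono_iff_mono_app (kernel.ι u)).1 inferInstance (op n)
      exact isConstructible_of_mono ((kernel.ι u).app (op n)) (hAc n)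
    obtain ⟨-, Y, v, hY, hYc, hv⟩ := arAdicC_of_isARAdic hK.1 hKc
    have : IsIso (limMap (Functor.whiskerRight v (EtModW.epsPullMod Λ X))) :=
      ARLib.isIso_limMap _ _ (isARIso_map _ hv)
    exact (adicP_iff hI _).2 ⟨Y, hY, hYc, ⟨asIso (limMap (Functor.whiskerRight v (EtModW.epsPullMod Λ X))) ≪≫
      PreservesKernel.iso (limEps Λ X) u ≪≫ kernel.mapIso _ w a b hw⟩⟩
  · have hS₂ : (ShortComplex.mk (Abelian.image.ι u) (cokernel.π u) (kernel.condition _)).ShortExact :=
      { exact := ShortComplex.exact_of_f_is_kernel _ (kernelIsKernel (cokernel.π u)) }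
    have hS₁ : (ShortComplex.mk (kernel.ι u) (Abelian.factorThruImage u)
        (by rw [← cancel_mono (Abelian.image.ι u), Category.assoc, Abelian.image.fac, kernel.condition, zero_comp])).ShortExact := by
      refine ShortComplex.ShortExact.mk' ?_ inferInstance inferInstance
      refine ShortComplex.exact_of_f_is_kernel _ ?_
      exact isKernelOfComp (Abelian.image.ι u) _ (kernelIsKernel u) _ (Abelian.image.fac u)
    have h₁ := shortExact_limEps hS₁ (ARLib.isMLAR_of_isARAdic hK.1)
    have h₂ := shortExact_limEps hS₂ (ARLib.isMLAR_of_isStrict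
      (ARLib.isStrict_of_epi (Abelian.factorThruImage u) (ARLib.isStrict_of_isAdic hA)))
    have hp : Epi ((limEps Λ X).map (Abelian.factorThruImage u)) := h₁.epi_g
    let e : cokernel ((limEps Λ X).map u) ≅ (limEps Λ X).obj (cokernel u) :=
      cokernelIsoOfEq (show (limEps Λ X).map u = (limEps Λ X).map (Abelian.factorThruImage u) ≫
        (limEps Λ X).map (Abelian.image.ι u) by rw [← Functor.map_comp, Abelian.image.fac]) ≪≫
      cokernelEpiComp ((limEps Λ X).map (Abelian.factorThruImage u)) ((limEps Λ X).map (Abelian.image.ι u)) ≪≫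
      (cokernelIsCokernel _).coconePointUniqueUpToIso (h₂.gIsCokernel)
    have hC := ARLib.isAdicNoeth_cokernel u (isAdicNoeth_of_constr hA hAc) (isAdicNoeth_of_constr hB hBc)
    refine (adicP_iff hI _).2 ⟨cokernel u, hC.1, fun n => ?_, ⟨e.symm ≪≫ cokernel.mapIso _ w a b hw⟩⟩
    have := (NatTrans.epi_iff_epi_app (cokernel.π u)).1 inferInstance (op n)
    exact isConstructible_of_epi (hBc n) ((cokernel.π u).app (op n))

theorem adicP_chain_stabilizes {F : EtModW.ModP Λ X} (hF : AdicP I F) (Z : ℕ →o Subobject F)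
    (hZ : ∀ k : ℕ, AdicP I (Subobject.underlying.obj (Z k))) :
    ∃ k₀ : ℕ, ∀ k : ℕ, k₀ ≤ k → Z k = Z k₀ := by
  have hI : I.FG := IsNoetherian.noetherian I
  obtain ⟨H, hH, hHc, ⟨h⟩⟩ := (adicP_iff hI F).1 hF
  choose Y hY hYc e using fun k => (adicP_iff hI _).1 (hZ k)
  let i := fun k => (e k).some
  choose u hu huniq using fun k => existsUnique_limMap hI (hY k) hH ((i k).hom ≫ (Z k).arrow ≫ h.inv)
  have hu' : ∀ k, (limEps Λ X).map (u k) = (i k).hom ≫ (Z k).arrow ≫ h.inv := hu
  let S : ℕ → Subobject H := fun k => imageSubobject (u k)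
  have hS1 : ∀ k, S k ≤ S (k + 1) := fun k => by
    let le := Subobject.ofLE (Z k) (Z (k + 1)) (Z.monotone (Nat.le_succ k))
    obtain ⟨t, ht, -⟩ := existsUnique_limMap hI (hY k) (hY (k + 1)) ((i k).hom ≫ le ≫ (i (k + 1)).inv)
    have ht' : (limEps Λ X).map t = (i k).hom ≫ le ≫ (i (k + 1)).inv := ht
    have e1 : u k = t ≫ u (k + 1) := (huniq k _ (by
      show (limEps Λ X).map (t ≫ u (k + 1)) = _
      rw [Functor.map_comp, ht', hu']
      simp only [le, Category.assoc, Iso.inv_hom_id_assoc]
      rw [Subobject.ofLE_arrow_assoc])).symm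
    refine imageSubobject_le _ (t ≫ factorThruImageSubobject (u (k + 1))) ?_
    rw [Category.assoc, imageSubobject_arrow_comp, e1]
  obtain ⟨k₀, hk₀⟩ := ARLib.strict_chain_stabilizes (isAdicNoeth_of_constr hH hHc) ⟨S, monotone_nat_of_le_succ hS1⟩
    fun k => ARLib.isStrict_of_epi (factorThruImageSubobject (u k)) (ARLib.isStrict_of_isAdic (hY k))
  have hp : ∀ k, IsIso ((limEps Λ X).map (factorThruImageSubobject (u k))) := fun k => by
    have hK : IsMLAR (kernel (u k)) := ARLib.isMLAR_of_isARAdic (ARLib.isARAdicNoeth_kernel_cokernel (u k)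
      (ARLib.isARAdicNoeth_of_adicNoeth (isAdicNoeth_of_constr (hY k) (hYc k)))
      (ARLib.isARAdicNoeth_of_adicNoeth (isAdicNoeth_of_constr hH hHc))).1.1
    have hS : (ShortComplex.mk (kernel.ι (u k)) (factorThruImageSubobject (u k))
        (by rw [← cancel_mono (imageSubobject (u k)).arrow, Category.assoc, imageSubobject_arrow_comp,
          kernel.condition, zero_comp])).ShortExact := by
      refine ShortComplex.ShortExact.mk' ?_ inferInstance inferInstance
      refine ShortComplex.exact_of_f_is_kernel _ ?_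
      exact isKernelOfComp (imageSubobject (u k)).arrow _ (kernelIsKernel (u k)) _ (imageSubobject_arrow_comp _)
    have he : Epi ((limEps Λ X).map (factorThruImageSubobject (u k))) := (shortExact_limEps hS hK).epi_g
    have hcomp : Mono ((limEps Λ X).map (factorThruImageSubobject (u k)) ≫
        (limEps Λ X).map (imageSubobject (u k)).arrow) := by
      rw [← Functor.map_comp, imageSubobject_arrow_comp, hu']
      infer_instance
    have : Mono ((limEps Λ X).map (factorThruImageSubobject (u k))) :=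
      mono_of_mono _ ((limEps Λ X).map (imageSubobject (u k)).arrow)
    exact isIso_of_mono_of_epi _
  refine ⟨k₀, fun k hk => le_antisymm ?_ (Z.monotone hk)⟩
  have := hp k₀
  have hle : S k ≤ S k₀ := (hk₀ k hk).le
  refine Subobject.le_of_comm ((i k).inv ≫ (limEps Λ X).map (factorThruImageSubobject (u k) ≫ Subobject.ofLE _ _ hle) ≫
    inv ((limEps Λ X).map (factorThruImageSubobject (u k₀))) ≫ (i k₀).hom) ?_
  have h0 : inv ((limEps Λ X).map (factorThruImageSubobject (u k₀))) ≫ (i k₀).hom ≫ (Z k₀).arrow =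
      (limEps Λ X).map (imageSubobject (u k₀)).arrow ≫ h.hom := by
    rw [IsIso.inv_comp_eq, ← Functor.map_comp_assoc, imageSubobject_arrow_comp, hu']
    simp
  simp only [Category.assoc]
  rw [h0, ← Functor.map_comp_assoc, Category.assoc, Subobject.ofLE_arrow, imageSubobject_arrow_comp, hu']
  simp

end Groth.Agent.EtModLib
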