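import Groth.Agent.EtModLib.ProEtSec
import Groth.Agent.EtModLib.Linear

/-! limits of pulled back adic systems on the pro-etale site -/

universe u

open CategoryTheory CategoryTheory.Limits AlgebraicGeometry Opposite ARSys

namespace Groth.Agent.EtModLib

set_option backward.isDefEq.respectTransparency.types false

variable {Λ : Type (u + 1)} [CommRing Λ] {X : Scheme.{u}}

instance pushP_linear {C D : Type (u + 1)} [Category.{u} C] [Category.{u} D] (G : C ⥤ D) {J : GrothendieckTopology C}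
    (K : GrothendieckTopology D) [G.IsContinuous J K] :
    (G.sheafPushforwardContinuous (ModuleCat.{u + 1} Λ) J K).Linear Λ where

variable [ProEtS.EpsCont X]

instance epsPullMod_linear : (EtModW.epsPullMod Λ X).Linear Λ where
  map_smul {F G} a r := by
    apply ((epsModAdj Λ X).homEquiv _ _).injective
    rw [(epsModAdj Λ X).homEquiv_unit, (epsModAdj Λ X).homEquiv_unit, (epsModAdj Λ X).unit_naturality,
      Functor.map_smul ((ProEtS.eps X).sheafPushforwardContinuous (ModuleCat.{u + 1} Λ) X.smallEtaleTopology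
        (Scheme.ProEt.topology X)),
      Linear.comp_smul, (epsModAdj Λ X).unit_naturality, Linear.smul_comp]

theorem isAdic_secP {I : Ideal Λ} (hI : I.FG) {G : PS (EtModW.Mod Λ X)} (hG : IsAdic I G) {W : X.ProEt}
    (hW : ProEtS.IsWC W) : IsAdic I ((G ⋙ EtModW.epsPullMod Λ X) ⋙ secP Λ W) :=
  have := secP_preservesFiniteColimits (Λ := Λ) hW
  isAdic_map (secP Λ W) hI (isAdic_map (EtModW.epsPullMod Λ X) hI hG)

theorem surjective_π {I : Ideal Λ} (hI : I.FG) {G : PS (EtModW.Mod Λ X)} (hG : IsAdic I G) {W : X.ProEt}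
    (hW : ProEtS.IsWC W) (n : ℕ) :
    Function.Surjective ((secP Λ W).map (limit.π (G ⋙ EtModW.epsPullMod Λ X) (op n))) := fun y => by
  obtain ⟨z, hz, hzn⟩ := exists_compatible (ARLib.isStrict_of_isAdic (isAdic_secP hI hG hW)) y
  obtain ⟨x, hx⟩ := exists_limit_element
    (isLimitOfPreserves (secP Λ W) (limit.isLimit (G ⋙ EtModW.epsPullMod Λ X))) z hz
  exact ⟨x, (hx n).trans hzn⟩

theorem isQuot_limit_π {I : Ideal Λ} (hI : I.FG) {G : PS (EtModW.Mod Λ X)} (hG : IsAdic I G) (n : ℕ) :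
    IsQuot (I ^ (n + 1)) (limit.π (G ⋙ EtModW.epsPullMod Λ X) (op n)) := by
  let S := G ⋙ EtModW.epsPullMod Λ X
  have : Epi (limit.π S (op n)) := epi_of_secP _ fun W hW => surjective_π hI hG hW n
  refine ARLib.isQuot_of (killedBy_map (EtModW.epsPullMod Λ X) (hG.1 n)) fun T φ hφ => ?_
  refine hom_ext_secP _ _ fun W hW => ModuleCat.hom_ext (LinearMap.ext fun x => ?_)
  rw [Functor.map_comp, Functor.map_zero]
  show (secP Λ W).map φ ((secP Λ W).map (kernel.ι _) x) = 0
  let y := (secP Λ W).map (kernel.ι (limit.π S (op n))) x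
  let hlim := isLimitOfPreserves (secP Λ W) (limit.isLimit S)
  let c := (secP Λ W).mapCone (limit.cone S)
  have hcy : ∀ (a b : ℕ) (h : a ≤ b), tr (S ⋙ secP Λ W) h (c.π.app (op b) y) = c.π.app (op a) y := fun a b h =>
    congr($(c.w (homOfLE h).op) y)
  have hyn : c.π.app (op n) y = 0 := by
    show (secP Λ W).map (limit.π S (op n)) y = 0
    have h0 : (secP Λ W).map (kernel.ι (limit.π S (op n))) ≫ (secP Λ W).map (limit.π S (op n)) = 0 := by
      rw [← Functor.map_comp, kernel.condition, Functor.map_zero]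
    exact congr($h0 x)
  obtain ⟨r, a, ha, w, hw, hsum⟩ := exists_decomp hI (isAdic_secP hI hG hW) n (fun k => c.π.app (op k) y) hcy hyn
  choose v hv using fun i => exists_limit_element hlim (w i) (hw i)
  have hy : y = ∑ i, a i • v i := limit_element_ext hlim fun k => by
    rw [map_sum, hsum k]
    exact Finset.sum_congr rfl fun i _ => by rw [map_smul, hv]
  show (secP Λ W).map φ y = 0
  rw [hy, map_sum]
  refine Finset.sum_eq_zero fun i _ => ?_
  have h2 := congrArg (secP Λ W).map (hφ (a i) (ha i))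
  rw [Functor.map_smul, Functor.map_zero] at h2
  rw [map_smul]
  exact congr($h2 (v i))

/-- morphisms between limits of adic systems come uniquely from morphisms of systems -/
theorem existsUnique_limMap {I : Ideal Λ} (hI : I.FG) {G H : PS (EtModW.Mod Λ X)} (hG : IsAdic I G) (hH : IsAdic I H)
    (f : limit (G ⋙ EtModW.epsPullMod Λ X) ⟶ limit (H ⋙ EtModW.epsPullMod Λ X)) :
    ∃! u : G ⟶ H, limMap (Functor.whiskerRight u (EtModW.epsPullMod Λ X)) = f := by
  let E := EtModW.epsPullMod Λ X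
  have key : ∀ n : ℕ, ∃! g : G.obj (op n) ⟶ H.obj (op n),
      limit.π (G ⋙ E) (op n) ≫ E.map g = f ≫ limit.π (H ⋙ E) (op n) := fun n => by
    obtain ⟨ψ, hψ, huniq⟩ := (isQuot_limit_π hI hG n).2 _ (f ≫ limit.π (H ⋙ E) (op n))
      (ARLib.homKilledBy_of_tgt (killedBy_map E (hH.1 n)) _)
    exact ⟨E.preimage ψ, (congrArg _ (E.map_preimage ψ)).trans hψ,
      fun g hg => E.map_injective ((huniq _ hg).trans (E.map_preimage ψ).symm)⟩
  choose g hg hguniq using key
  have hnat : ∀ (n m : ℕ) (h : n ≤ m), tr G h ≫ g n = g m ≫ tr H h := fun n m h => by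
    have := ARLib.IsQuot.epi (isQuot_limit_π hI hG m)
    refine E.map_injective ((cancel_epi (limit.π (G ⋙ E) (op m))).1 ?_)
    rw [Functor.map_comp, Functor.map_comp]
    have e1 : limit.π (G ⋙ E) (op m) ≫ E.map (tr G h) = limit.π (G ⋙ E) (op n) :=
      limit.w (G ⋙ E) (homOfLE h).op
    have e2 : limit.π (H ⋙ E) (op m) ≫ E.map (tr H h) = limit.π (H ⋙ E) (op n) :=
      limit.w (H ⋙ E) (homOfLE h).op
    rw [reassoc_of% e1, reassoc_of% hg m, hg n, e2]
  refine ⟨ARLib.natMk g hnat, limit.hom_ext fun n => ?_, fun u hu => ARLib.hom_ext fun n => ?_⟩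
  · obtain ⟨n⟩ := n
    rw [limMap_π]
    exact hg n
  · refine hguniq n _ ?_
    rw [← hu, limMap_π]
    rfl

/-- an adic tower of a sheaf comes from an adic system on the etale site -/
theorem exists_adic_of_tower {I : Ideal Λ} (hI : I.FG) (F : EtModW.ModP Λ X) (Q : ℕᵒᵖ ⥤ EtModW.ModP Λ X)
    (p : (Functor.const ℕᵒᵖ).obj F ⟶ Q) (hQ : ∀ n : ℕ, IsQuot (I ^ (n + 1)) (p.app (op n)))
    (hc : ∀ n : ℕ, ∃ E : EtModW.Mod Λ X, EtModW.IsConstructible Λ E ∧
      Nonempty ((EtModW.epsPullMod Λ X).obj E ≅ Q.obj (op n))) (hlim : IsIso (limit.lift Q (Cone.mk F p))) :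
    ∃ G : PS (EtModW.Mod Λ X), IsAdic I G ∧ (∀ n : ℕ, EtModW.IsConstructible Λ (G.obj (op n))) ∧
      Nonempty (limit (G ⋙ EtModW.epsPullMod Λ X) ≅ F) := by
  let E := EtModW.epsPullMod Λ X
  choose A hA e using hc
  let i := fun n => (e n).some
  let t : ∀ n m : ℕ, n ≤ m → (A m ⟶ A n) := fun n m h => E.preimage ((i m).hom ≫ tr Q h ≫ (i n).inv)
  let G : PS (EtModW.Mod Λ X) := ARLib.systemMk A t
    (fun n => E.map_injective (by
      simp only [t, E.map_preimage, CategoryTheory.Functor.map_id]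
      rw [ARLib.tr_refl, Category.id_comp, Iso.hom_inv_id]))
    (fun a b c h1 h2 => E.map_injective (by
      simp only [t, E.map_preimage, E.map_comp, Category.assoc]
      rw [Iso.inv_hom_id_assoc, reassoc_of% ARLib.tr_tr Q h1 h2]))
  have htr : ∀ {n m : ℕ} (h : n ≤ m), E.map (tr G h) ≫ (i n).hom = (i m).hom ≫ tr Q h := fun {n m} h => by
    show E.map (t n m _) ≫ _ = _
    simp [t]
  let α : G ⋙ E ≅ Q := NatIso.ofComponents (fun n => i n.unop) fun {a b} f => by
    exact htr (leOfHom f.unop)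
  refine ⟨G, ⟨fun n a ha => ?_, fun n m h => ⟨fun a ha => ?_, fun T φ hφ => ?_⟩⟩, hA, ⟨?_⟩⟩
  · refine E.map_injective ?_
    rw [E.map_smul, E.map_zero, CategoryTheory.Functor.map_id]
    exact ARLib.killedBy_of_mono (hQ n).1 (i n).hom a ha
  · refine E.map_injective ?_
    rw [E.map_smul, E.map_zero, CategoryTheory.Functor.map_id]
    exact ARLib.killedBy_of_mono (hQ n).1 (i n).hom a ha
  · have hp : p.app (op m) ≫ tr Q h = p.app (op n) := by
      have := p.naturality (homOfLE h).op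
      simpa using this.symm
    obtain ⟨ψ, hψ, huniq⟩ := (hQ n).2 _ (p.app (op m) ≫ (i m).inv ≫ E.map φ) fun a ha => by
      rw [← Linear.comp_smul, ← Linear.comp_smul]
      have h5 := congrArg E.map (hφ a ha)
      rw [E.map_smul, E.map_zero] at h5
      exact (congrArg (fun q => p.app (op m) ≫ (i m).inv ≫ q) h5).trans ((congrArg (fun q => p.app (op m) ≫ q) comp_zero).trans comp_zero)
    have := ARLib.IsQuot.epi (hQ m)
    have h6 : tr Q h ≫ ψ = (i m).inv ≫ E.map φ := (cancel_epi (p.app (op m))).1 (by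
      rw [reassoc_of% hp]
      exact hψ)
    have hψ' : E.map (tr G h) ≫ (i n).hom ≫ ψ = E.map φ :=
      (Category.assoc _ _ _).symm.trans ((congrArg (· ≫ ψ) (htr h)).trans
        ((Category.assoc _ _ _).trans ((Iso.eq_inv_comp (i m)).1 h6)))
    refine ⟨E.preimage ((i n).hom ≫ ψ),
      E.map_injective ((E.map_comp _ _).trans ((congrArg (E.map (tr G h) ≫ ·) (E.map_preimage _)).trans hψ')),
      fun g hg => E.map_injective ((?_ : _ = _).trans (E.map_preimage _).symm)⟩
    refine (Iso.inv_comp_eq (i n)).1 (huniq _ ?_)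
    have h7 : tr Q h ≫ (i n).inv = (i m).inv ≫ E.map (tr G h) :=
      (Iso.eq_inv_comp (i m)).2 ((Category.assoc _ _ _).symm.trans ((congrArg (· ≫ (i n).inv) (htr h).symm).trans
        ((Category.assoc _ _ _).trans ((congrArg (E.map (tr G h) ≫ ·) (i n).hom_inv_id).trans (Category.comp_id _)))))
    refine (congrArg (· ≫ _) hp).symm.trans ((Category.assoc _ _ _).trans ?_)
    refine congrArg (p.app (op m) ≫ ·) ?_
    refine (Category.assoc _ _ _).symm.trans ((congrArg (· ≫ E.map g) h7).trans ((Category.assoc _ _ _).trans ?_))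
    exact congrArg ((i m).inv ≫ ·) ((E.map_comp _ _).symm.trans (congrArg E.map hg))
  · exact HasLimit.isoOfNatIso α ≪≫ (asIso (limit.lift Q (Cone.mk F p))).symm

/-- epimorphisms of systems with Mittag-Leffler kernel stay surjective on limits -/
theorem epi_limMap_of_mlar {S : ShortComplex (PS (EtModW.Mod Λ X))} (hS : S.ShortExact) {r : ℕ}
    (hA : MLCond S.X₁ r) : Epi (limMap (Functor.whiskerRight S.g (EtModW.epsPullMod Λ X))) := by
  let E := EtModW.epsPullMod Λ X
  refine epi_of_secP _ fun W hW y => ?_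
  have := secP_preservesFiniteColimits (Λ := Λ) hW
  let T := E ⋙ secP Λ W
  have hT : ∀ n : ℕ, ((S.map ((evaluation ℕᵒᵖ _).obj (op n))).map T).ShortExact := fun n =>
    ((ARLib.shortExact_app hS n)).map_of_exact T
  let A := (S.X₁ ⋙ E) ⋙ secP Λ W
  let B := (S.X₂ ⋙ E) ⋙ secP Λ W
  let C := (S.X₃ ⋙ E) ⋙ secP Λ W
  let f : ∀ n : ℕ, A.obj (op n) ⟶ B.obj (op n) := fun n => T.map (S.f.app (op n))
  let g : ∀ n : ℕ, B.obj (op n) ⟶ C.obj (op n) := fun n => T.map (S.g.app (op n))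
  have fnat : ∀ {a b : ℕ} (h : a ≤ b) (x : A.obj (op b)), f a (tr A h x) = tr B h (f b x) := fun {a b} h x => by
    have e := congrArg T.map (S.f.naturality (homOfLE h).op)
    rw [T.map_comp, T.map_comp] at e
    exact congr($e x)
  have gnat : ∀ {a b : ℕ} (h : a ≤ b) (x : B.obj (op b)), g a (tr B h x) = tr C h (g b x) := fun {a b} h x => by
    have e := congrArg T.map (S.g.naturality (homOfLE h).op)
    rw [T.map_comp, T.map_comp] at e
    exact congr($e x)
  let hlim := isLimitOfPreserves (secP Λ W) (limit.isLimit (S.X₃ ⋙ E))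
  let cy : ∀ n : ℕ, C.obj (op n) := fun n => (secP Λ W).map (limit.π (S.X₃ ⋙ E) (op n)) y
  have hcy : ∀ (a b : ℕ) (h : a ≤ b), tr C h (cy b) = cy a := fun a b h =>
    congr($(((secP Λ W).mapCone (limit.cone (S.X₃ ⋙ E))).w (homOfLE h).op) y)
  have hML : ∀ (n a m : ℕ) (_ : n + r ≤ a) (_ : a ≤ m) (hna : n ≤ a) (hnm : n ≤ m) (x : A.obj (op a)),
      ∃ x' : A.obj (op m), tr A hnm x' = tr A hna x := fun n a m h1 h2 hna hnm x => by
    have hex := ((ShortComplex.exact_of_g_is_cokernel (ShortComplex.mk (tr S.X₁ hnm) _ (cokernel.condition _))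
      (cokernelIsCokernel (tr S.X₁ hnm))).map T)
    rw [ShortComplex.moduleCat_exact_iff] at hex
    refine hex (tr A hna x) ?_
    show T.map (cokernel.π _) (T.map (tr S.X₁ hna) x) = 0
    rw [← ModuleCat.comp_apply, ← T.map_comp, hA n a m h1 h2 hna hnm, T.map_zero]
    rfl
  have hgs : ∀ n, Function.Surjective (g n) := fun n => (ModuleCat.epi_iff_surjective _).1 (hT n).epi_g
  have hexact : ∀ n (x : B.obj (op n)), g n x = 0 → ∃ a, f n a = x := fun n x hx =>
    (ShortComplex.moduleCat_exact_iff _).1 (hT n).exact x hx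
  have step : ∀ (n : ℕ) (b : B.obj (op (n + r))), g (n + r) b = cy (n + r) →
      ∃ b' : B.obj (op (n + 1 + r)), g (n + 1 + r) b' = cy (n + 1 + r) ∧
        tr B (show n ≤ n + 1 + r by omega) b' = tr B (show n ≤ n + r by omega) b := by
    intro n b hb
    obtain ⟨b₁, hb₁⟩ := hgs (n + 1 + r) (cy (n + 1 + r))
    obtain ⟨a, ha⟩ := hexact (n + r) (b - tr B (show n + r ≤ n + 1 + r by omega) b₁) (by
      rw [map_sub, gnat, hb, hb₁, hcy, sub_self])
    obtain ⟨a', ha'⟩ := hML n (n + r) (n + 1 + r) le_rfl (by omega) (by omega) (by omega) a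
    refine ⟨b₁ + f (n + 1 + r) a', ?_, ?_⟩
    · have h0 : g (n + 1 + r) (f (n + 1 + r) a') = 0 := congr($((hT (n + 1 + r)) |> fun _ =>
        ((S.map ((evaluation ℕᵒᵖ _).obj (op (n + 1 + r)))).map T).zero) a')
      rw [map_add, h0, add_zero, hb₁]
    · rw [map_add, ← fnat, ha', fnat, ha, map_sub, ← ModuleCat.comp_apply, ARLib.tr_tr]
      abel
  let b : ∀ n : ℕ, {b : B.obj (op (n + r)) // g (n + r) b = cy (n + r)} := fun n =>
    Nat.rec ⟨(hgs (0 + r) (cy (0 + r))).choose, (hgs (0 + r) (cy (0 + r))).choose_spec⟩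
      (fun m b => ⟨(step m b.1 b.2).choose, (step m b.1 b.2).choose_spec.1⟩) n
  have hb : ∀ (a m : ℕ) (h : a ≤ m), tr B (show a ≤ m + r by omega) (b m).1 = tr B (show a ≤ a + r by omega) (b a).1 := by
    intro a m h
    induction m, h using Nat.le_induction with
    | base => rfl
    | succ m hm ih =>
      have hh : tr B (show m ≤ m + 1 + r by omega) (b (m + 1)).1 = tr B (show m ≤ m + r by omega) (b m).1 :=
        (step m (b m).1 (b m).2).choose_spec.2
      rw [← ih, ← ARLib.tr_tr B hm (show m ≤ m + 1 + r by omega), ModuleCat.comp_apply, hh, ← ModuleCat.comp_apply,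
        ARLib.tr_tr]
  obtain ⟨x, hx⟩ := exists_limit_element (isLimitOfPreserves (secP Λ W) (limit.isLimit (S.X₂ ⋙ E)))
    (fun n => tr B (show n ≤ n + r by omega) (b n).1) fun a m h => by
      rw [← ModuleCat.comp_apply, ARLib.tr_tr]
      exact hb a m h
  refine ⟨x, limit_element_ext hlim fun n => ?_⟩
  show (secP Λ W).map (limit.π (S.X₃ ⋙ E) (op n)) ((secP Λ W).map (limMap _) x) = cy n
  rw [← ModuleCat.comp_apply, ← Functor.map_comp, limMap_π, Functor.map_comp, ModuleCat.comp_apply]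
  refine (congrArg (fun q => g n q) (hx n)).trans ?_
  rw [gnat, (b n).2, hcy]

end Groth.Agent.EtModLib

namespace Groth.Agent.EtModLib

set_option backward.isDefEq.respectTransparency.types false

variable {Λ : Type (u + 1)} [CommRing Λ] {X : Scheme.{u}} [ProEtS.EpsCont X]

/-- the adic pro-etale sheaves -/
abbrev AdicP (I : Ideal Λ) (F : EtModW.ModP Λ X) : Prop :=
  ∃ (Q : ℕᵒᵖ ⥤ EtModW.ModP Λ X) (p : (Functor.const ℕᵒᵖ).obj F ⟶ Q),
    (∀ n : ℕ, IsQuot (I ^ (n + 1)) (p.app (op n))) ∧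
    (∀ n : ℕ, ∃ E : EtModW.Mod Λ X, EtModW.IsConstructible Λ E ∧
      Nonempty ((EtModW.epsPullMod Λ X).obj E ≅ Q.obj (op n))) ∧
    IsIso (limit.lift Q (Cone.mk F p))

omit [ProEtS.EpsCont X] in
theorem isQuot_iso_comp {I : Ideal Λ} {F F' Q : EtModW.ModP Λ X} (e : F ≅ F') {p : F' ⟶ Q} (h : IsQuot I p) :
    IsQuot I (e.hom ≫ p) := by
  refine ⟨h.1, fun T φ hφ => ?_⟩
  obtain ⟨ψ, hψ, hu⟩ := h.2 T (e.inv ≫ φ) fun a ha => by rw [← Linear.comp_smul, hφ a ha, comp_zero]
  exact ⟨ψ, ((Category.assoc _ _ _).trans (congrArg (e.hom ≫ ·) hψ)).trans (Iso.hom_inv_id_assoc _ _),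
    fun ψ' h' => hu ψ' (((congrArg (e.inv ≫ ·) h').symm.trans ((congrArg (e.inv ≫ ·) (Category.assoc _ _ _)).trans (Iso.inv_hom_id_assoc _ _))).symm)⟩

theorem adicP_iff {I : Ideal Λ} (hI : I.FG) (F : EtModW.ModP Λ X) :
    AdicP I F ↔ ∃ G : PS (EtModW.Mod Λ X), IsAdic I G ∧ (∀ n : ℕ, EtModW.IsConstructible Λ (G.obj (op n))) ∧
      Nonempty (limit (G ⋙ EtModW.epsPullMod Λ X) ≅ F) := by
  refine ⟨fun ⟨Q, p, hQ, hc, hlim⟩ => exists_adic_of_tower hI F Q p hQ hc hlim, fun ⟨G, hG, hc, ⟨e⟩⟩ => ?_⟩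
  let S := G ⋙ EtModW.epsPullMod Λ X
  let p : (Functor.const ℕᵒᵖ).obj F ⟶ S := (Functor.const ℕᵒᵖ).map e.inv ≫ (limit.cone S).π
  refine ⟨S, p, fun n => isQuot_iso_comp e.symm (isQuot_limit_π hI hG n),
    fun n => ⟨G.obj (op n), hc n, ⟨Iso.refl _⟩⟩, ?_⟩
  have : limit.lift S (Cone.mk F p) = e.inv := limit.hom_ext fun n => limit.lift_π _ n
  rw [this]
  infer_instance

theorem isQuot_limit_π' {I : Ideal Λ} (hI : I.FG) {G : PS (EtModW.Mod Λ X)} (hG : IsAdic I G) (n : ℕ) :
    IsQuot (I ^ (n + 1)) (limit.π (G ⋙ EtModW.epsPullMod Λ X) (op n)) := isQuot_limit_π hI hG n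

end Groth.Agent.EtModLib
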