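import Groth.Agent.EtModLib.EpsMod
import Groth.Agent.EtModLib.ARMap
import Groth.Agent.ProEtLib.Cover
import Groth.Agent.ARLib.AdicCat
import Mathlib.Algebra.Category.ModuleCat.Sheaf

/-! sections of pro-etale sheaves of modules over weakly contractible objects -/

universe u

open CategoryTheory CategoryTheory.Limits AlgebraicGeometry Opposite ARSys

namespace Groth.Agent.EtModLib

set_option backward.isDefEq.respectTransparency.types false

variable {Λ : Type (u + 1)} [CommRing Λ] {X : Scheme.{u}}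

variable (Λ) in
/-- sections over an object of the pro-etale site -/
noncomputable abbrev secP (W : X.ProEt) : EtModW.ModP Λ X ⥤ ModuleCat.{u + 1} Λ :=
  sheafToPresheaf _ _ ⋙ (evaluation _ _).obj (op W)

instance secP_additive (W : X.ProEt) : (secP Λ W).Additive where
instance secP_linear (W : X.ProEt) : (secP Λ W).Linear Λ where

theorem secP_surjective {W : X.ProEt} (hW : ProEtS.IsWC W) {F G : EtModW.ModP Λ X} (φ : F ⟶ G) [Epi φ] :
    Function.Surjective ((secP Λ W).map φ) := by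
  have hl : Sheaf.IsLocallySurjective φ := (Sheaf.isLocallySurjective_iff_epi' (ModuleCat.{u + 1} Λ) φ).2 inferInstance
  let φ' := (sheafCompose _ (CategoryTheory.forget (ModuleCat.{u + 1} Λ))).map φ
  have hl' : Sheaf.IsLocallySurjective φ' := ⟨fun {U} s => (hl.imageSieve_mem s : _)⟩
  exact hW _ _ φ' ((Sheaf.isLocallySurjective_iff_epi φ').1 hl')

theorem secP_preservesFiniteColimits {W : X.ProEt} (hW : ProEtS.IsWC W) :
    PreservesFiniteColimits (secP Λ W) := by
  have : (secP Λ W).PreservesEpimorphisms :=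
    ⟨fun φ hφ => (ModuleCat.epi_iff_surjective _).2 (@secP_surjective _ _ _ _ hW _ _ φ hφ)⟩
  have := (secP Λ W).preservesHomology_of_preservesEpis_and_kernels
  exact (secP Λ W).preservesFiniteColimits_of_preservesHomology

/-- morphisms agreeing over weakly contractible objects agree -/
theorem hom_ext_secP {F G : EtModW.ModP Λ X} (φ ψ : F ⟶ G)
    (h : ∀ W : X.ProEt, ProEtS.IsWC W → (secP Λ W).map φ = (secP Λ W).map ψ) : φ = ψ := by
  refine Sheaf.hom_ext (NatTrans.ext (funext fun U => ModuleCat.hom_ext (LinearMap.ext fun s => ?_)))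
  obtain ⟨V, g, hg, hV⟩ := ProEtLib.exists_wc_cover U.unop
  have hs := Presieve.isSheafFor_iff_generate _ |>.2
    (((isSheaf_iff_isSheaf_of_type _ _).1
      ((sheafCompose _ (CategoryTheory.forget (ModuleCat.{u + 1} Λ))).obj G).2) _ hg)
  refine hs.isSeparatedFor.ext ?_
  rintro _ _ ⟨⟩
  show G.obj.map g.op (φ.hom.app U s) = G.obj.map g.op (ψ.hom.app U s)
  rw [← NatTrans.naturality_apply φ.hom g.op, ← NatTrans.naturality_apply ψ.hom g.op]
  exact congr($(h V hV) (F.obj.map g.op s))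

theorem isZero_of_secP {F : EtModW.ModP Λ X}
    (h : ∀ W : X.ProEt, ProEtS.IsWC W → IsZero ((secP Λ W).obj F)) : IsZero F :=
  (IsZero.iff_id_eq_zero F).2 (hom_ext_secP _ _ fun W hW => (h W hW).eq_of_src _ _)

theorem epi_of_secP {F G : EtModW.ModP Λ X} (φ : F ⟶ G)
    (h : ∀ W : X.ProEt, ProEtS.IsWC W → Function.Surjective ((secP Λ W).map φ)) : Epi φ := by
  refine ⟨fun a b hab => hom_ext_secP a b fun W hW => ?_⟩
  have : Epi ((secP Λ W).map φ) := (ModuleCat.epi_iff_surjective _).2 (h W hW)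
  rw [← cancel_epi ((secP Λ W).map φ), ← Functor.map_comp, hab, Functor.map_comp]

/-- elements of limits -/
theorem exists_limit_element {P : PS (ModuleCat.{u + 1} Λ)} {c : Cone P} (hc : IsLimit c)
    (z : ∀ m : ℕ, P.obj (op m)) (hz : ∀ (a b : ℕ) (h : a ≤ b), tr P h (z b) = z a) :
    ∃ x : c.pt, ∀ m, c.π.app (op m) x = z m := by
  let d : Cone P := ⟨ModuleCat.of Λ Λ, ARLib.natMk (X := (Functor.const ℕᵒᵖ).obj (ModuleCat.of Λ Λ))
    (fun m => ModuleCat.ofHom (LinearMap.toSpanSingleton Λ (P.obj (op m)) (z m))) fun a b hab => by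
      refine ModuleCat.hom_ext (LinearMap.ext_ring ?_)
      show (LinearMap.toSpanSingleton Λ (P.obj (op a)) (z a)) 1 =
        tr P hab ((LinearMap.toSpanSingleton Λ (P.obj (op b)) (z b)) 1)
      rw [LinearMap.toSpanSingleton_apply_one, LinearMap.toSpanSingleton_apply_one, hz a b hab]⟩
  exact ⟨hc.lift d (1 : Λ), fun m => (congr($(hc.fac d (op m)) (1 : Λ))).trans
    (LinearMap.toSpanSingleton_apply_one Λ _ (z m))⟩

theorem limit_element_ext {P : PS (ModuleCat.{u + 1} Λ)} {c : Cone P} (hc : IsLimit c) {x y : c.pt}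
    (h : ∀ m : ℕ, c.π.app (op m) x = c.π.app (op m) y) : x = y := by
  have e : ModuleCat.ofHom (LinearMap.toSpanSingleton Λ c.pt x) = ModuleCat.ofHom (LinearMap.toSpanSingleton Λ c.pt y) :=
    hc.hom_ext fun m => ModuleCat.hom_ext (LinearMap.ext_ring (by
      show c.π.app m (LinearMap.toSpanSingleton Λ c.pt x 1) = c.π.app m (LinearMap.toSpanSingleton Λ c.pt y 1)
      rw [LinearMap.toSpanSingleton_apply_one, LinearMap.toSpanSingleton_apply_one]
      exact h m.unop))
  have := congr($e (1 : Λ))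
  exact ((LinearMap.toSpanSingleton_apply_one Λ _ x).symm.trans this).trans
    (LinearMap.toSpanSingleton_apply_one Λ _ y)

/-- strict systems of modules have compatible families through every element -/
theorem exists_compatible {P : PS (ModuleCat.{u + 1} Λ)} (hP : IsStrict P) {n : ℕ} (y : P.obj (op n)) :
    ∃ z : ∀ m : ℕ, P.obj (op m), (∀ (a b : ℕ) (h : a ≤ b), tr P h (z b) = z a) ∧ z n = y := by
  have hs : ∀ m : ℕ, Function.Surjective (tr P (Nat.le_succ m)) := fun m =>
    (ModuleCat.epi_iff_surjective _).1 (hP m (m + 1) (Nat.le_succ m))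
  choose σ hσ using hs
  let ys : ∀ k : ℕ, P.obj (op (n + k)) := fun k => Nat.rec (y : P.obj (op (n + 0))) (fun k s => σ (n + k) s) k
  have hstep : ∀ (a b : ℕ) (hab : a ≤ b), tr P (show n + a ≤ n + b by omega) (ys b) = ys a := by
    intro a b hab
    induction b, hab using Nat.le_induction with
    | base => rw [ARLib.tr_refl]; rfl
    | succ b hab ih =>
      rw [← ARLib.tr_tr P (show n + a ≤ n + b by omega) (show n + b ≤ n + (b + 1) by omega), ModuleCat.comp_apply,
        show tr P (show n + b ≤ n + (b + 1) by omega) (ys (b + 1)) = ys b from hσ (n + b) (ys b)]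
      exact ih
  refine ⟨fun m => tr P (show m ≤ n + m by omega) (ys m), fun a b h => ?_, hstep 0 n (Nat.zero_le n)⟩
  show tr P h (tr P _ (ys b)) = tr P (show a ≤ n + a by omega) (ys a)
  rw [← ModuleCat.comp_apply, ARLib.tr_tr, ← hstep a b h, ← ModuleCat.comp_apply, ARLib.tr_tr]

/-- in an adic system of modules the kernel of a transition map is a power of the ideal -/
theorem ker_tr_le_of_le {I : Ideal Λ} {P : PS (ModuleCat.{u + 1} Λ)} (hP : IsAdic I P) {a b : ℕ} (h : a ≤ b) :
    LinearMap.ker (tr P h).hom ≤ I ^ (a + 1) • (⊤ : Submodule Λ (P.obj (op b))) := fun x hx => by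
  let N := I ^ (a + 1) • (⊤ : Submodule Λ (P.obj (op b)))
  obtain ⟨ψ, hψ, -⟩ := (hP.2 a b h).2 (ModuleCat.of Λ (_ ⧸ N)) (ModuleCat.ofHom N.mkQ) fun c hc => by
    refine ModuleCat.hom_ext (LinearMap.ext fun y => ?_)
    show c • N.mkQ y = 0
    rw [← map_smul]
    exact (Submodule.Quotient.mk_eq_zero N).2 (Submodule.smul_mem_smul hc trivial)
  refine (Submodule.Quotient.mk_eq_zero N).1 (Eq.trans (congr($hψ x)).symm ?_)
  show ψ (tr P h x) = 0
  rw [show tr P h x = 0 from hx, map_zero]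

/-- compatible families vanishing in degree `n` come from the `(n+1)`-st power of the ideal -/
theorem exists_decomp {I : Ideal Λ} (hI : I.FG) {P : PS (ModuleCat.{u + 1} Λ)} (hP : IsAdic I P) (n : ℕ)
    (x : ∀ k : ℕ, P.obj (op k)) (hx : ∀ (a b : ℕ) (h : a ≤ b), tr P h (x b) = x a) (hn : x n = 0) :
    ∃ (r : ℕ) (c : Fin r → Λ), (∀ i, c i ∈ I ^ (n + 1)) ∧ ∃ w : Fin r → ∀ k : ℕ, P.obj (op k),
      (∀ i (a b : ℕ) (h : a ≤ b), tr P h (w i b) = w i a) ∧ ∀ k, x k = ∑ i, c i • w i k := by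
  classical
  obtain ⟨r, c, hc⟩ := Submodule.fg_iff_exists_fin_generating_family.1 (Submodule.FG.pow hI (n + 1) : (I ^ (n + 1)).FG)
  have hcI : ∀ i, c i ∈ I ^ (n + 1) := fun i => hc ▸ Submodule.subset_span ⟨i, rfl⟩
  have hexpand : ∀ {j m : ℕ} (z : P.obj (op m)), z ∈ I ^ (n + 1 + j) • (⊤ : Submodule Λ (P.obj (op m))) →
      ∃ v : Fin r → P.obj (op m), (∀ i, v i ∈ I ^ j • (⊤ : Submodule Λ (P.obj (op m)))) ∧ z = ∑ i, c i • v i := by
    intro j m z hz
    rw [pow_add, ← smul_eq_mul, Submodule.smul_assoc] at hz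
    refine Submodule.smul_induction_on hz (fun a ha v hv => ?_) (fun z₁ z₂ h₁ h₂ => ?_)
    · obtain ⟨l, hl⟩ := (Submodule.mem_span_range_iff_exists_fun Λ).1 (hc.symm.le ha)
      refine ⟨fun i => l i • v, fun i => Submodule.smul_mem _ _ hv, ?_⟩
      rw [← hl, Finset.sum_smul]
      exact Finset.sum_congr rfl fun i _ => by rw [smul_eq_mul, smul_smul, mul_comm]
    · obtain ⟨v₁, hv₁, e₁⟩ := h₁
      obtain ⟨v₂, hv₂, e₂⟩ := h₂
      refine ⟨v₁ + v₂, fun i => add_mem (hv₁ i) (hv₂ i), ?_⟩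
      rw [e₁, e₂, ← Finset.sum_add_distrib]
      exact Finset.sum_congr rfl fun i _ => (smul_add _ _ _).symm
  have hs : ∀ m : ℕ, Function.Surjective (tr P (show n + 1 + m ≤ n + 1 + (m + 1) by omega)) := fun m =>
    (ModuleCat.epi_iff_surjective _).1 (ARLib.isStrict_of_isAdic hP _ _ _)
  choose σ hσ using hs
  have step : ∀ m (y : Fin r → P.obj (op (n + 1 + m))), x (n + 1 + m) = ∑ i, c i • y i →
      ∃ y' : Fin r → P.obj (op (n + 1 + (m + 1))), x (n + 1 + (m + 1)) = ∑ i, c i • y' i ∧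
        ∀ i, tr P (show m ≤ n + 1 + (m + 1) by omega) (y' i) = tr P (show m ≤ n + 1 + m by omega) (y i) := by
    intro m y hy
    let d := x (n + 1 + (m + 1)) - ∑ i, c i • σ m (y i)
    have hd : d ∈ LinearMap.ker (tr P (show n + 1 + m ≤ n + 1 + (m + 1) by omega)).hom := by
      show tr P _ d = 0
      rw [map_sub, hx, map_sum, sub_eq_zero, hy]
      exact Finset.sum_congr rfl fun i _ => by rw [map_smul, hσ]
    obtain ⟨v, hv, hdv⟩ := hexpand (j := m + 1) d (ker_tr_le_of_le hP _ hd)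
    refine ⟨fun i => σ m (y i) + v i, ?_, fun i => ?_⟩
    · rw [show x (n + 1 + (m + 1)) = ∑ i, c i • σ m (y i) + d from (add_sub_cancel _ _).symm, hdv,
        ← Finset.sum_add_distrib]
      exact Finset.sum_congr rfl fun i _ => (smul_add _ _ _).symm
    · have h0 : tr P (show m ≤ n + 1 + (m + 1) by omega) (v i) = 0 := by
        have := Submodule.mem_map_of_mem (f := (tr P (show m ≤ n + 1 + (m + 1) by omega)).hom) (hv i)
        rw [Submodule.map_smul''] at this
        refine Submodule.smul_induction_on (Submodule.smul_mono le_rfl le_top this) (fun a ha z _ => ?_) fun a b ha hb => ?_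
        · exact congr($(hP.1 m a ha) z)
        · rw [ha, hb, add_zero]
      rw [map_add, h0, add_zero, ← hσ m (y i), ← ModuleCat.comp_apply, ARLib.tr_tr]
      rw [hσ]
  have h0 : ∃ y : Fin r → P.obj (op (n + 1 + 0)), x (n + 1 + 0) = ∑ i, c i • y i := by
    obtain ⟨v, -, hv⟩ := hexpand (j := 0) (x (n + 1 + 0)) (by
      refine ker_tr_le_of_le hP (show n ≤ n + 1 + 0 by omega) ?_
      exact (hx n _ _).trans hn)
    exact ⟨v, hv⟩
  let Y : ∀ m, {y : Fin r → P.obj (op (n + 1 + m)) // x (n + 1 + m) = ∑ i, c i • y i} := fun m =>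
    Nat.rec ⟨h0.choose, h0.choose_spec⟩ (fun m y => ⟨(step m y.1 y.2).choose, (step m y.1 y.2).choose_spec.1⟩) m
  have hstable : ∀ i (a b : ℕ) (h : a ≤ b),
      tr P (show a ≤ n + 1 + b by omega) ((Y b).1 i) = tr P (show a ≤ n + 1 + a by omega) ((Y a).1 i) := by
    intro i a b h
    induction b, h using Nat.le_induction with
    | base => rfl
    | succ b hb ih =>
      have hh : tr P (show b ≤ n + 1 + (b + 1) by omega) ((Y (b + 1)).1 i) =
          tr P (show b ≤ n + 1 + b by omega) ((Y b).1 i) := (step b (Y b).1 (Y b).2).choose_spec.2 i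
      rw [← ih, ← ARLib.tr_tr P hb (show b ≤ n + 1 + (b + 1) by omega), ModuleCat.comp_apply, hh, ← ModuleCat.comp_apply,
        ARLib.tr_tr]
  refine ⟨r, c, hcI, fun i k => tr P (show k ≤ n + 1 + k by omega) ((Y k).1 i), fun i a b h => ?_, fun k => ?_⟩
  · show tr P h (tr P _ _) = _
    rw [← ModuleCat.comp_apply, ARLib.tr_tr]
    exact hstable i a b h
  · rw [← hx k (n + 1 + k) (by omega), (Y k).2, map_sum]
    exact Finset.sum_congr rfl fun i _ => map_smul _ _ _

end Groth.Agent.EtModLib
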